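import Groth.Agent.H1Stab.Gauss
import Groth.Prelude.Def_EtRam
import Mathlib

/-!
# Maps of rational function fields and the Gauss ring of a discrete valuation ring
-/

set_option autoImplicit false

universe u

open MvPolynomial IsLocalRing

namespace Groth.Agent.H1Stab

section fracmap

variable {σ : Type u} {k l : Type u} [Field k] [Field l] (Fk Fl : Type u) [Field Fk] [Field Fl]
  [Algebra (MvPolynomial σ k) Fk] [IsFractionRing (MvPolynomial σ k) Fk]
  [Algebra (MvPolynomial σ l) Fl] [IsFractionRing (MvPolynomial σ l) Fl] (f : k →+* l)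

theorem fracMap_aux : Function.Injective ((algebraMap (MvPolynomial σ l) Fl).comp (MvPolynomial.map f)) :=
  (IsFractionRing.injective _ Fl).comp (MvPolynomial.map_injective f f.injective)

/-- The map of rational function fields induced by a map of constant fields. -/
noncomputable def fracMap : Fk →+* Fl := IsFractionRing.lift (fracMap_aux (σ := σ) Fl f)

theorem fracMap_algebraMap (p : MvPolynomial σ k) :
    fracMap (σ := σ) Fk Fl f (algebraMap _ Fk p) = algebraMap _ Fl (MvPolynomial.map f p) :=
  IsFractionRing.lift_algebraMap _ _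

end fracmap

section gauss

variable {K : Type u} [Field K] (W : ValuationSubring K) (σ : Type u)
  (F : Type u) [Field F] [Algebra (MvPolynomial σ K) F] [IsFractionRing (MvPolynomial σ K) F]

/-- Constants of the Gauss ring. -/
noncomputable def constG : W →+* gaussRing W σ F :=
  ((toF W σ F).codRestrict (gaussRing W σ F).toSubring (fun p => toF_mem W p)).comp MvPolynomial.C

theorem constG_coe (w : W) : (constG W σ F w : F) = algebraMap (MvPolynomial σ K) F (C (w : K)) := by
  show toF W σ F (C w) = _
  rw [toF, RingHom.comp_apply, MvPolynomial.map_C]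
  rfl

theorem gaussRes_constG (w : W) :
    gaussRes W (residue W) (ker_residue (R := W)) (FractionRing (MvPolynomial σ (ResidueField W))) (constG W σ F w) =
      algebraMap (MvPolynomial σ (ResidueField W)) _ (C (residue W w)) := by
  refine (gaussRes_toF W (residue W) (ker_residue (R := W)) _ (C w)).trans ?_
  rw [red, RingHom.comp_apply, MvPolynomial.map_C]

theorem maximalIdeal_gauss {ϖ : W} (hϖ : maximalIdeal W = Ideal.span {ϖ}) :
    maximalIdeal (gaussRing W σ F) = Ideal.span {constG W σ F ϖ} := by
  have hmem : constG W σ F ϖ ∈ maximalIdeal (gaussRing W σ F) := by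
    rw [← gaussRes_eq_zero_iff W (residue W) (ker_residue (R := W)) (FractionRing (MvPolynomial σ (ResidueField W))),
      gaussRes_constG, residue_eq_zero_iff _ |>.2 (hϖ ▸ Ideal.mem_span_singleton_self ϖ), map_zero, map_zero]
  refine le_antisymm (fun z hz => ?_) ((Ideal.span_singleton_le_iff_mem _).2 hmem)
  obtain ⟨p, q, hq, h⟩ := z.2
  rw [← gaussRes_eq_zero_iff W (residue W) (ker_residue (R := W)) (FractionRing (MvPolynomial σ (ResidueField W))),
    gaussRes_eq W _ _ _ hq h, div_eq_zero_iff] at hz
  have hp := hz.resolve_right (red_ne_zero W (residue W) (ker_residue (R := W)) _ hq)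
  rw [red, RingHom.comp_apply, map_eq_zero_iff _ (IsFractionRing.injective _ _)] at hp
  obtain ⟨p₁, hp₁⟩ : C ϖ ∣ p := by
    rw [MvPolynomial.C_dvd_iff_dvd_coeff]
    intro e
    have := congrArg (coeff e) hp
    rw [coeff_map, coeff_zero, residue_eq_zero_iff, hϖ, Ideal.mem_span_singleton] at this
    exact this
  rw [Ideal.mem_span_singleton]
  refine ⟨⟨_, div_mem W p₁ hq⟩, Subtype.ext ?_⟩
  show (z : F) = toF W σ F (C ϖ) * (toF W σ F p₁ / toF W σ F q)
  rw [← mul_div_assoc, ← map_mul, ← hp₁, eq_div_iff (toF_ne_zero W hq), h]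

theorem isNoetherianRing_gauss [Finite σ] [IsNoetherianRing W] : IsNoetherianRing (gaussRing W σ F) := by
  refine (isNoetherianRing_iff_ideal_fg _).2 fun I => ?_
  let f : MvPolynomial σ W →+* gaussRing W σ F := (toF W σ F).codRestrict (gaussRing W σ F).toSubring fun p => toF_mem W p
  have hI : I = (I.comap f).map f := by
    refine le_antisymm (fun z hz => ?_) Ideal.map_comap_le
    obtain ⟨p, q, hq, h⟩ := z.2
    obtain ⟨u, hu⟩ : IsUnit (f q) := by
      have hd := isUnit_div (F := F) W (residue W) (ker_residue (R := W)) (FractionRing (MvPolynomial σ (ResidueField W))) hq (primitive_one W)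
      have : (⟨toF W σ F q / toF W σ F 1, div_mem W q (primitive_one W)⟩ : gaussRing W σ F) = f q :=
        Subtype.ext (show toF W σ F q / toF W σ F 1 = toF W σ F q by rw [map_one, div_one])
      rwa [this] at hd
    have hp : f p = z * f q := Subtype.ext h.symm
    have h1 : f p ∈ (I.comap f).map f := Ideal.mem_map_of_mem f (show f p ∈ I from hp ▸ I.mul_mem_right _ hz)
    rw [hp, ← hu, Ideal.mul_unit_mem_iff_mem _ u.isUnit] at h1
    exact h1
  rw [hI]
  exact Ideal.FG.map (IsNoetherian.noetherian _) f

end gauss

end Groth.Agent.H1Stab
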