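import Groth.Agent.NagataLib.Field
import Mathlib.RingTheory.MvPolynomial.Basic
import Mathlib.RingTheory.Artinian.Module
import Mathlib.Analysis.SpecificLimits.Normed

/-!
# Bounded elements in a finite reduced algebra over a rational function field
-/

set_option autoImplicit false

universe u v

open MvPolynomial

namespace Groth.Agent.H1Stab

/-- The number of monomials of total degree at most `m`. -/
noncomputable def nMon (σ : Type v) (m : ℕ) : ℕ :=
  Nat.card {e : σ →₀ ℕ // (e.sum fun _ a => a) ≤ m}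

theorem finrank_restrictTotalDegree (σ : Type v) [Finite σ] (k : Type u) [Field k] (m : ℕ) :
    Module.finrank k (restrictTotalDegree σ k m) = nMon σ m :=
  Module.finrank_eq_nat_card_basis (basisRestrictSupport k {n : σ →₀ ℕ | (n.sum fun _ e => e) ≤ m})

theorem nMon_zero (σ : Type v) : nMon σ 0 = 1 := by
  haveI : Subsingleton {e : σ →₀ ℕ // (e.sum fun _ a => a) ≤ 0} := ⟨fun a b => by
    have h : ∀ e : {e : σ →₀ ℕ // (e.sum fun _ a => a) ≤ 0}, e.1 = 0 := fun e => by
      have h0 := Nat.le_zero.1 e.2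
      rw [Finsupp.sum, Finset.sum_eq_zero_iff] at h0
      ext i
      by_cases hi : i ∈ e.1.support
      · exact h0 i hi
      · exact Finsupp.notMem_support_iff.1 hi
    exact Subtype.ext ((h a).trans (h b).symm)⟩
  haveI : Nonempty {e : σ →₀ ℕ // (e.sum fun _ a => a) ≤ 0} := ⟨⟨0, by simp⟩⟩
  exact Nat.card_unique

theorem nMon_le (σ : Type v) [Finite σ] (m : ℕ) : nMon σ m ≤ (m + 1) ^ Nat.card σ := by
  haveI := Fintype.ofFinite σ
  refine le_trans (Nat.card_le_card_of_injective
    (fun e : {e : σ →₀ ℕ // (e.sum fun _ a => a) ≤ m} => fun i : σ => (⟨e.1 i, Nat.lt_succ_of_le (le_trans ?_ e.2)⟩ : Fin (m + 1)))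
    fun a b h => Subtype.ext (Finsupp.ext fun i => congrArg Fin.val (congrFun h i))) ?_
  · rw [Finsupp.sum_fintype _ _ (fun _ => rfl)]
    exact Finset.single_le_sum (fun j _ => Nat.zero_le _) (Finset.mem_univ i)
  · rw [Nat.card_fun, Nat.card_eq_fintype_card (α := Fin (m + 1)), Fintype.card_fin]

/-- Comparison of growth. -/
theorem le_of_forall_nMon {σ : Type v} [Finite σ] {n s c : ℕ}
    (h : ∀ m, n * nMon σ m ≤ s * nMon σ (m + c)) : n ≤ s := by
  by_contra hlt
  push Not at hlt
  rcases Nat.eq_zero_or_pos s with rfl | hs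
  · have := h 0
    rw [nMon_zero, zero_mul, mul_one] at this
    omega
  let r : ℝ := (n : ℝ) / s
  have hr : 1 < r := by
    rw [one_lt_div (by exact_mod_cast hs)]
    exact_mod_cast hlt
  have hgrow : ∀ j, r ^ j ≤ (nMon σ (j * c) : ℝ) := fun j => by
    induction j with
    | zero => rw [pow_zero, zero_mul, nMon_zero, Nat.cast_one]
    | succ j ih =>
      have h1 : (n : ℝ) * nMon σ (j * c) ≤ (s : ℝ) * nMon σ (j * c + c) := by exact_mod_cast h (j * c)
      rw [pow_succ', Nat.succ_mul]
      refine le_trans (mul_le_mul_of_nonneg_left ih (by positivity)) ?_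
      rw [div_mul_eq_mul_div, div_le_iff₀ (by exact_mod_cast hs), mul_comm ((nMon σ (j * c + c) : ℕ) : ℝ)]
      exact h1
  have hev := (tendsto_pow_const_div_const_pow_of_one_lt (Nat.card σ) hr).eventually
    (eventually_lt_nhds (show (0 : ℝ) < 1 / ((c : ℝ) + 1) ^ Nat.card σ / 2 ^ Nat.card σ by positivity))
  obtain ⟨j, hj, hj1⟩ := (hev.and (Filter.eventually_ge_atTop 1)).exists
  have h2 : (nMon σ (j * c) : ℝ) ≤ ((j : ℝ) * c + 1) ^ Nat.card σ := by exact_mod_cast nMon_le σ (j * c)
  have h3 : ((j : ℝ) * c + 1) ^ Nat.card σ ≤ (j : ℝ) ^ Nat.card σ * (((c : ℝ) + 1) ^ Nat.card σ) := by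
    rw [← mul_pow]
    refine pow_le_pow_left₀ (by positivity) ?_ _
    have : (1 : ℝ) ≤ j := by exact_mod_cast hj1
    nlinarith
  have h4 : r ^ j ≤ (j : ℝ) ^ Nat.card σ * (((c : ℝ) + 1) ^ Nat.card σ) := ((hgrow j).trans h2).trans h3
  rw [div_lt_iff₀ (by positivity)] at hj
  have h5 : (j : ℝ) ^ Nat.card σ * (((c : ℝ) + 1) ^ Nat.card σ) < r ^ j := by
    refine lt_of_lt_of_le (mul_lt_mul_of_pos_right hj (by positivity)) ?_
    have hc0 : (((c : ℝ) + 1) ^ Nat.card σ) ≠ 0 := by positivity
    field_simp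
    exact one_le_pow₀ (one_le_two (α := ℝ))
  exact absurd h4 (not_le.2 h5)

section chart

variable {σ : Type u} [Fintype σ] [DecidableEq σ] {k : Type u} [Field k] {Fk : Type u} [Field Fk]
  [Algebra (MvPolynomial σ k) Fk] [IsFractionRing (MvPolynomial σ k) Fk] [Algebra k Fk]
  [IsScalarTower k (MvPolynomial σ k) Fk] (i₀ : σ)

local notation "ι" => algebraMap (MvPolynomial σ k) Fk

/-- The chart at infinity. -/
noncomputable def chart : MvPolynomial σ k →ₐ[k] Fk :=
  MvPolynomial.aeval fun i => (if i = i₀ then 1 else ι (X i)) * (ι (X i₀))⁻¹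

/-- Homogenisation of exponents. -/
noncomputable def flipExp (d : ℕ) (e : σ →₀ ℕ) : σ →₀ ℕ := e.update i₀ (d - ∑ i, e i)

theorem flipExp_apply (d : ℕ) (e : σ →₀ ℕ) (i : σ) :
    flipExp i₀ d e i = if i = i₀ then d - ∑ j, e j else e i := by
  rw [flipExp, Finsupp.coe_update, Function.update_apply]

theorem flipExp_sum {d : ℕ} {e : σ →₀ ℕ} (he : ∑ i, e i ≤ d) : ∑ i, flipExp i₀ d e i + e i₀ = d := by
  have h1 := Finset.add_sum_erase Finset.univ (fun i => flipExp i₀ d e i) (Finset.mem_univ i₀)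
  have h2 := Finset.add_sum_erase Finset.univ (fun i => e i) (Finset.mem_univ i₀)
  have h3 : ∑ i ∈ Finset.univ.erase i₀, flipExp i₀ d e i = ∑ i ∈ Finset.univ.erase i₀, e i :=
    Finset.sum_congr rfl fun i hi => by rw [flipExp_apply, if_neg (Finset.ne_of_mem_erase hi)]
  rw [h3] at h1
  rw [flipExp_apply, if_pos rfl] at h1
  omega

theorem flipExp_flipExp {d : ℕ} {e : σ →₀ ℕ} (he : ∑ i, e i ≤ d) : flipExp i₀ d (flipExp i₀ d e) = e := by
  ext i
  rw [flipExp_apply]
  split_ifs with h
  · subst h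
    have := flipExp_sum i he
    omega
  · rw [flipExp_apply, if_neg h]

theorem X_ne_zero' : ι (X i₀) ≠ 0 :=
  (map_ne_zero_iff _ (IsFractionRing.injective _ Fk)).2 (X_ne_zero i₀)

theorem chart_monomial {d : ℕ} {e : σ →₀ ℕ} (he : ∑ i, e i ≤ d) (a : k) :
    chart (k := k) (Fk := Fk) i₀ (monomial e a) * ι (X i₀) ^ d = ι (monomial (flipExp i₀ d e) a) := by
  have key : ∏ i, ((if i = i₀ then (1 : Fk) else ι (X i)) * (ι (X i₀))⁻¹) ^ e i * 1 =
      (∏ i, (if i = i₀ then (1 : Fk) else ι (X i)) ^ e i) * ((ι (X i₀))⁻¹) ^ (∑ i, e i) := by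
    simp only [mul_one, mul_pow, Finset.prod_mul_distrib, Finset.prod_pow_eq_pow_sum]
  have hsplit : ι (monomial (flipExp i₀ d e) a) =
      algebraMap k Fk a * ((∏ i, (if i = i₀ then (1 : Fk) else ι (X i)) ^ e i) * ι (X i₀) ^ (d - ∑ i, e i)) := by
    rw [monomial_eq, Finsupp.prod_fintype _ _ (fun _ => pow_zero _), map_mul, map_prod,
      IsScalarTower.algebraMap_apply k (MvPolynomial σ k) Fk, ← MvPolynomial.algebraMap_eq]
    congr 1
    rw [← Finset.mul_prod_erase Finset.univ _ (Finset.mem_univ i₀),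
      ← Finset.mul_prod_erase Finset.univ (fun i => (if i = i₀ then (1 : Fk) else ι (X i)) ^ e i) (Finset.mem_univ i₀)]
    rw [if_pos rfl, one_pow, one_mul, map_pow, flipExp_apply, if_pos rfl, mul_comm]
    congr 1
    refine Finset.prod_congr rfl fun i hi => ?_
    rw [map_pow, flipExp_apply, if_neg (Finset.ne_of_mem_erase hi), if_neg (Finset.ne_of_mem_erase hi)]
  rw [chart, aeval_monomial, Finsupp.prod_fintype _ _ (fun _ => pow_zero _), hsplit]
  simp only [mul_one] at key
  rw [key, mul_assoc, mul_assoc]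
  congr 2
  rw [inv_pow, inv_mul_eq_iff_eq_mul₀ (pow_ne_zero _ (X_ne_zero' i₀)), ← pow_add, Nat.add_sub_cancel' he]

theorem totalDegree_flip {d : ℕ} {e : σ →₀ ℕ} (he : ∑ i, e i ≤ d) (a : k) :
    (monomial (flipExp i₀ d e) a).totalDegree ≤ d := by
  refine le_trans (Finset.sup_le fun x hx => ?_) (le_refl d)
  rw [Finset.mem_singleton.1 (support_monomial_subset hx), Finsupp.sum_fintype _ _ (fun _ => rfl)]
  have := flipExp_sum i₀ he
  omega

/-- Homogenisation of polynomials. -/
noncomputable def homog (d : ℕ) (p : MvPolynomial σ k) : MvPolynomial σ k :=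
  ∑ e ∈ p.support, monomial (flipExp i₀ d e) (p.coeff e)

theorem sum_le_of_mem_support {d : ℕ} {p : MvPolynomial σ k} (hp : p.totalDegree ≤ d) {e : σ →₀ ℕ}
    (he : e ∈ p.support) : ∑ i, e i ≤ d := by
  have := le_trans (le_totalDegree he) hp
  rwa [Finsupp.sum_fintype _ _ (fun _ => rfl)] at this

theorem chart_mul_pow {d : ℕ} {p : MvPolynomial σ k} (hp : p.totalDegree ≤ d) :
    chart (k := k) (Fk := Fk) i₀ p * ι (X i₀) ^ d = ι (homog i₀ d p) := by
  conv_lhs => rw [p.as_sum, map_sum, Finset.sum_mul]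
  rw [homog, map_sum]
  exact Finset.sum_congr rfl fun e he => chart_monomial i₀ (sum_le_of_mem_support hp he) _

theorem totalDegree_homog {d : ℕ} {p : MvPolynomial σ k} (hp : p.totalDegree ≤ d) :
    (homog i₀ d p).totalDegree ≤ d :=
  totalDegree_finsetSum_le fun e he => totalDegree_flip i₀ (sum_le_of_mem_support hp he) _

theorem exists_chart_eq {d : ℕ} {p : MvPolynomial σ k} (hp : p.totalDegree ≤ d) :
    ι p * ((ι (X i₀)) ^ d)⁻¹ ∈ (chart (k := k) (Fk := Fk) i₀).range := by
  refine ⟨homog i₀ d p, ?_⟩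
  rw [eq_mul_inv_iff_mul_eq₀ (pow_ne_zero _ (X_ne_zero' i₀))]
  show chart i₀ (homog i₀ d p) * _ = _
  conv_rhs => rw [p.as_sum]
  rw [homog, map_sum, map_sum, Finset.sum_mul]
  refine Finset.sum_congr rfl fun e he => ?_
  have h := sum_le_of_mem_support hp he
  have h' : ∑ i, flipExp i₀ d e i ≤ d := by have := flipExp_sum i₀ h; omega
  rw [chart_monomial i₀ h', flipExp_flipExp i₀ h]

theorem chart_injective : Function.Injective (chart (k := k) (Fk := Fk) i₀) := by
  rw [injective_iff_map_eq_zero]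
  intro p hp
  have h := chart_mul_pow (Fk := Fk) i₀ (le_refl p.totalDegree)
  rw [hp, zero_mul, eq_comm, map_eq_zero_iff _ (IsFractionRing.injective _ Fk)] at h
  ext e
  rw [coeff_zero]
  by_contra he
  have hmem : e ∈ p.support := mem_support_iff.2 he
  have h2 := congrArg (coeff (flipExp i₀ p.totalDegree e)) h
  rw [homog, coeff_sum, coeff_zero, Finset.sum_eq_single_of_mem e hmem] at h2
  · rw [coeff_monomial, if_pos rfl] at h2
    exact he h2
  · intro e' he' hne
    rw [coeff_monomial, if_neg]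
    intro h3
    refine hne ?_
    rw [← flipExp_flipExp i₀ (sum_le_of_mem_support le_rfl he'), h3,
      flipExp_flipExp i₀ (sum_le_of_mem_support le_rfl hmem)]

theorem chart_generates (z : Fk) : ∃ a b, chart (k := k) (Fk := Fk) i₀ b ≠ 0 ∧ z * chart (k := k) (Fk := Fk) i₀ b = chart (k := k) (Fk := Fk) i₀ a := by
  obtain ⟨p, q, hq, rfl⟩ := IsFractionRing.div_surjective (MvPolynomial σ k) z
  obtain ⟨a, ha⟩ := exists_chart_eq (Fk := Fk) i₀ (le_max_left p.totalDegree q.totalDegree)
  obtain ⟨b, hb⟩ := exists_chart_eq (Fk := Fk) i₀ (le_max_right p.totalDegree q.totalDegree)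
  have hq0 : ι q ≠ 0 := IsFractionRing.to_map_ne_zero_of_mem_nonZeroDivisors hq
  have hb0 : chart (k := k) (Fk := Fk) i₀ b ≠ 0 := by
    rw [show chart i₀ b = _ from hb]
    exact mul_ne_zero hq0 (inv_ne_zero (pow_ne_zero _ (X_ne_zero' i₀)))
  refine ⟨a, b, hb0, ?_⟩
  rw [show chart i₀ b = _ from hb, show chart i₀ a = _ from ha, ← mul_assoc, div_mul_cancel₀ _ hq0]

end chart

section finite

variable {σ : Type u} [Finite σ] {k : Type u} [Field k] {Fk : Type u} [Field Fk]
  {S : Type u} [CommRing S] [IsReduced S] [Algebra Fk S] [Module.Finite Fk S]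

theorem finite_integralClosure_field (ψ : MvPolynomial σ k →+* Fk) (hψ : Function.Injective ψ)
    (hgen : ∀ z : Fk, ∃ a b, ψ b ≠ 0 ∧ z * ψ b = ψ a) (L : Type u) [Field L] [Algebra Fk L] [FiniteDimensional Fk L]
    [Algebra (MvPolynomial σ k) L] (hL : ∀ p, algebraMap (MvPolynomial σ k) L p = algebraMap Fk L (ψ p)) :
    Module.Finite (MvPolynomial σ k) (integralClosure (MvPolynomial σ k) L) := by
  let Φ : FractionRing (MvPolynomial σ k) →+* Fk := IsFractionRing.lift hψ
  letI : Algebra (FractionRing (MvPolynomial σ k)) Fk := Φ.toAlgebra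
  letI : Algebra (FractionRing (MvPolynomial σ k)) L := ((algebraMap Fk L).comp Φ).toAlgebra
  haveI : IsScalarTower (FractionRing (MvPolynomial σ k)) Fk L := IsScalarTower.of_algebraMap_eq fun _ => rfl
  haveI : IsScalarTower (MvPolynomial σ k) (FractionRing (MvPolynomial σ k)) L := IsScalarTower.of_algebraMap_eq fun p => by
    show _ = algebraMap Fk L (Φ (algebraMap _ _ p))
    rw [hL, IsFractionRing.lift_algebraMap]
  haveI : Module.Finite (FractionRing (MvPolynomial σ k)) Fk :=
    Module.Finite.of_surjective (Algebra.linearMap _ _) fun z => by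
      obtain ⟨a, b, hb, hab⟩ := hgen z
      refine ⟨algebraMap _ _ a / algebraMap _ _ b, ?_⟩
      show Φ _ = z
      rw [map_div₀, IsFractionRing.lift_algebraMap, IsFractionRing.lift_algebraMap, ← hab, mul_div_cancel_right₀ _ hb]
  exact NagataLib.isN2_mvPolynomial k σ L (Module.Finite.trans Fk L)

theorem finite_integralClosure (ψ : MvPolynomial σ k →+* Fk) (hψ : Function.Injective ψ)
    (hgen : ∀ z : Fk, ∃ a b, ψ b ≠ 0 ∧ z * ψ b = ψ a) [Algebra (MvPolynomial σ k) S]
    (hS : ∀ p, algebraMap (MvPolynomial σ k) S p = algebraMap Fk S (ψ p)) :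
    Module.Finite (MvPolynomial σ k) (integralClosure (MvPolynomial σ k) S) := by
  haveI : IsArtinianRing S := IsArtinianRing.of_finite Fk S
  haveI : ∀ I : MaximalSpectrum S, Module.Finite (MvPolynomial σ k) (integralClosure (MvPolynomial σ k) (S ⧸ I.asIdeal)) :=
    fun I => by
      letI : Field (S ⧸ I.asIdeal) := Ideal.Quotient.field I.asIdeal
      exact finite_integralClosure_field ψ hψ hgen (S ⧸ I.asIdeal) fun p => by
        show Ideal.Quotient.mk _ (algebraMap (MvPolynomial σ k) S p) = _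
        rw [hS]; rfl
  let i : integralClosure (MvPolynomial σ k) S →ₗ[MvPolynomial σ k]
      ((I : MaximalSpectrum S) → integralClosure (MvPolynomial σ k) (S ⧸ I.asIdeal)) :=
    LinearMap.pi fun I => ((Ideal.Quotient.mkₐ (MvPolynomial σ k) I.asIdeal).comp
      (integralClosure (MvPolynomial σ k) S).val).toLinearMap.codRestrict
      (integralClosure (MvPolynomial σ k) (S ⧸ I.asIdeal)).toSubmodule fun z => z.2.map (Ideal.Quotient.mkₐ (MvPolynomial σ k) I.asIdeal)
  haveI : IsNoetherian (MvPolynomial σ k)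
      ((I : MaximalSpectrum S) → integralClosure (MvPolynomial σ k) (S ⧸ I.asIdeal)) :=
    isNoetherian_of_isNoetherianRing_of_finite _ _
  exact Module.Finite.of_injective i fun a b h => Subtype.ext ((IsArtinianRing.equivPi S).injective
    (funext fun I => congrArg Subtype.val (congrFun h I)))

theorem exists_common_denominator (ψ : MvPolynomial σ k →+* Fk) (hψ : Function.Injective ψ)
    (hgen : ∀ z : Fk, ∃ a b, ψ b ≠ 0 ∧ z * ψ b = ψ a) [Algebra (MvPolynomial σ k) S]
    (hS : ∀ p, algebraMap (MvPolynomial σ k) S p = algebraMap Fk S (ψ p))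
    {t : Type u} (bS : Module.Basis t Fk S) [Finite t] :
    ∃ h : MvPolynomial σ k, h ≠ 0 ∧ ∀ u : S, IsIntegral (MvPolynomial σ k) u → ∀ l, ψ h * bS.repr u l ∈ ψ.range := by
  classical
  haveI := Fintype.ofFinite t
  haveI := finite_integralClosure ψ hψ hgen hS
  obtain ⟨G, hG⟩ := Module.Finite.fg_top (R := MvPolynomial σ k) (M := integralClosure (MvPolynomial σ k) S)
  choose a b hb hab using fun q : integralClosure (MvPolynomial σ k) S × t => hgen (bS.repr q.1 q.2)
  refine ⟨∏ q ∈ G ×ˢ Finset.univ, b q, Finset.prod_ne_zero_iff.2 fun q _ h0 => hb q (by rw [h0, map_zero]),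
    fun u hu => ?_⟩
  have hmem : (⟨u, hu⟩ : integralClosure (MvPolynomial σ k) S) ∈ Submodule.span (MvPolynomial σ k) (G : Set _) :=
    hG ▸ Submodule.mem_top
  suffices ∀ w ∈ Submodule.span (MvPolynomial σ k) (G : Set (integralClosure (MvPolynomial σ k) S)),
      ∀ l, ψ (∏ q ∈ G ×ˢ Finset.univ, b q) * bS.repr (w : S) l ∈ ψ.range from this _ hmem
  intro w hw
  induction hw using Submodule.span_induction with
  | mem g hg =>
    intro l
    have hq : (g, l) ∈ G ×ˢ (Finset.univ : Finset t) := Finset.mem_product.2 ⟨hg, Finset.mem_univ l⟩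
    rw [← Finset.mul_prod_erase _ _ hq, map_mul, mul_right_comm, mul_comm (ψ (b (g, l))), hab (g, l), ← map_mul]
    exact ⟨_, rfl⟩
  | zero => intro l; exact ⟨0, by simp⟩
  | add x y _ _ hx hy =>
    intro l
    rw [Subalgebra.coe_add, map_add, Finsupp.add_apply, mul_add]
    exact add_mem (hx l) (hy l)
  | smul p x _ hx =>
    intro l
    rw [Subalgebra.coe_smul, Algebra.smul_def, hS, ← Algebra.smul_def, map_smul, Finsupp.smul_apply, smul_eq_mul,
      mul_left_comm]
    exact mul_mem ⟨p, rfl⟩ (hx l)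

end finite

section bound

variable {σ : Type u} [Fintype σ] [DecidableEq σ] {k : Type u} [Field k] {Fk : Type u} [Field Fk]
  [Algebra (MvPolynomial σ k) Fk] [IsFractionRing (MvPolynomial σ k) Fk] [Algebra k Fk]
  [IsScalarTower k (MvPolynomial σ k) Fk]
  {S : Type u} [CommRing S] [IsReduced S] [Algebra Fk S] [Module.Finite Fk S]

/-- Integrality with respect to a homomorphism into the base field. -/
def IntAlong (ψ : MvPolynomial σ k →+* Fk) (u : S) : Prop :=
  ((algebraMap Fk S).comp ψ).IsIntegralElem u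

/-- Elements of pole order at most `m`. -/
def Bounded (m : ℕ) (u : S) : Prop :=
  IntAlong (algebraMap (MvPolynomial σ k) Fk) u ∧
    ∀ i₀ : σ, IntAlong (chart (k := k) (Fk := Fk) i₀).toRingHom (((algebraMap (MvPolynomial σ k) Fk (X i₀)) ^ m)⁻¹ • u)

variable [Algebra k S] [IsScalarTower k Fk S]

variable (σ k Fk S) in
theorem exists_bound : ∃ c : ℕ, ∀ (m : ℕ) (U : Submodule k S), (∀ u ∈ U, Bounded (σ := σ) (k := k) (Fk := Fk) m u) →
    Module.finrank k U ≤ Module.finrank Fk S * nMon σ (m + c) := by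
  classical
  let bS := Module.Free.chooseBasis Fk S
  haveI : Finite (Module.Free.ChooseBasisIndex Fk S) := Module.Finite.finite_basis bS
  haveI := Fintype.ofFinite (Module.Free.ChooseBasisIndex Fk S)
  have hinj := IsFractionRing.injective (MvPolynomial σ k) Fk
  obtain ⟨h₀, hh₀, H₀⟩ : ∃ h : MvPolynomial σ k, h ≠ 0 ∧ ∀ u : S, IntAlong (algebraMap (MvPolynomial σ k) Fk) u →
      ∀ l, algebraMap _ Fk h * bS.repr u l ∈ (algebraMap (MvPolynomial σ k) Fk).range := by
    letI : Algebra (MvPolynomial σ k) S := ((algebraMap Fk S).comp (algebraMap (MvPolynomial σ k) Fk)).toAlgebra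
    exact exists_common_denominator _ hinj (fun z => by
      obtain ⟨a, b, hb, rfl⟩ := IsFractionRing.div_surjective (MvPolynomial σ k) z
      exact ⟨a, b, IsFractionRing.to_map_ne_zero_of_mem_nonZeroDivisors hb,
        div_mul_cancel₀ _ (IsFractionRing.to_map_ne_zero_of_mem_nonZeroDivisors hb)⟩) (fun _ => rfl) bS
  have hchart : ∀ i₀ : σ, ∃ h : MvPolynomial σ k, h ≠ 0 ∧ ∀ u : S, IntAlong (chart (k := k) (Fk := Fk) i₀).toRingHom u →
      ∀ l, chart i₀ h * bS.repr u l ∈ (chart (k := k) (Fk := Fk) i₀).toRingHom.range := fun i₀ => by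
    letI : Algebra (MvPolynomial σ k) S := ((algebraMap Fk S).comp (chart (k := k) (Fk := Fk) i₀).toRingHom).toAlgebra
    exact exists_common_denominator (chart (k := k) (Fk := Fk) i₀).toRingHom (chart_injective i₀) (chart_generates i₀)
      (fun _ => rfl) bS
  choose hc hhc Hc using hchart
  obtain ⟨c, hcdef⟩ : ∃ c, c = h₀.totalDegree + ∑ i, (hc i).totalDegree := ⟨_, rfl⟩
  refine ⟨c, fun m U hU => ?_⟩
  let Φ : S →ₗ[k] (Module.Free.ChooseBasisIndex Fk S → Fk) :=
    (LinearMap.pi fun l => (algebraMap (MvPolynomial σ k) Fk h₀) • ((bS.coord l).restrictScalars k))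
  let T := restrictTotalDegree σ k (m + c)
  let Tmap : T →ₗ[k] Fk := (IsScalarTower.toAlgHom k (MvPolynomial σ k) Fk).toLinearMap.comp T.subtype
  let R := LinearMap.range (LinearMap.piMap fun _ : Module.Free.ChooseBasisIndex Fk S => Tmap)
  have hle : U.map Φ ≤ R := by
    rintro _ ⟨u, hu, rfl⟩
    obtain ⟨hint, hinf⟩ := hU u hu
    have hd : ∀ l, ∃ P : T, Tmap P = Φ u l := fun l => by
      obtain ⟨P, hP⟩ := H₀ u hint l
      refine ⟨⟨P, (mem_restrictTotalDegree _ _ _).2 ?_⟩, hP⟩
      rcases eq_or_ne P 0 with rfl | hP0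
      · rw [totalDegree_zero]; exact Nat.zero_le _
      rcases isEmpty_or_nonempty σ with hσ | ⟨⟨i₀⟩⟩
      · refine le_trans (Finset.sup_le fun e _ => ?_) (Nat.zero_le (m + c))
        rw [Finsupp.sum_fintype _ _ (fun _ => rfl)]
        simp
      obtain ⟨Q, hQ⟩ := Hc i₀ _ (hinf i₀) l
      rw [map_smul, Finsupp.smul_apply, smul_eq_mul] at hQ
      have hA := chart_mul_pow (Fk := Fk) i₀ (le_refl (hc i₀).totalDegree)
      have hB := chart_mul_pow (Fk := Fk) i₀ (le_refl Q.totalDegree)
      have hx := X_ne_zero' (k := k) (Fk := Fk) i₀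
      have heq : P * homog i₀ (hc i₀).totalDegree (hc i₀) * X i₀ ^ Q.totalDegree =
          h₀ * homog i₀ Q.totalDegree Q * X i₀ ^ (m + (hc i₀).totalDegree) := by
        refine hinj ?_
        simp only [map_mul, map_pow, ← hA, ← hB]
        rw [hP, show chart i₀ Q = _ from hQ, pow_add]
        field_simp
      have hQ0 : homog i₀ Q.totalDegree Q ≠ 0 := by
        intro h0
        rw [h0, mul_zero, zero_mul] at heq
        rcases mul_eq_zero.1 heq with h1 | h1
        · rcases mul_eq_zero.1 h1 with h2 | h2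
          · exact hP0 h2
          · refine (map_ne_zero_iff _ (chart_injective (Fk := Fk) i₀)).2 (hhc i₀) ?_
            rw [h2, map_zero] at hA
            exact (mul_eq_zero.1 hA).resolve_right (pow_ne_zero _ hx)
        · exact pow_ne_zero _ (X_ne_zero i₀) h1
      have hA0 : homog i₀ (hc i₀).totalDegree (hc i₀) ≠ 0 := by
        intro h0
        rw [h0, map_zero] at hA
        exact (map_ne_zero_iff _ (chart_injective (Fk := Fk) i₀)).2 (hhc i₀)
          ((mul_eq_zero.1 hA).resolve_right (pow_ne_zero _ hx))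
      have hdeg := congrArg totalDegree heq
      rw [totalDegree_mul_of_isDomain (mul_ne_zero hP0 hA0) (pow_ne_zero _ (X_ne_zero i₀)),
        totalDegree_mul_of_isDomain hP0 hA0,
        totalDegree_mul_of_isDomain (mul_ne_zero hh₀ hQ0) (pow_ne_zero _ (X_ne_zero i₀)),
        totalDegree_mul_of_isDomain hh₀ hQ0, totalDegree_X_pow, totalDegree_X_pow] at hdeg
      have hQd := totalDegree_homog (k := k) i₀ (le_refl Q.totalDegree)
      have hcle : (hc i₀).totalDegree ≤ ∑ i, (hc i).totalDegree :=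
        Finset.single_le_sum (f := fun i => (hc i).totalDegree) (fun _ _ => Nat.zero_le _) (Finset.mem_univ i₀)
      omega
    choose P hP using hd
    exact ⟨P, funext hP⟩
  have hΦ : Function.Injective Φ := fun a b hab => bS.ext_elem fun l => by
    have := congrFun hab l
    exact mul_left_cancel₀ ((map_ne_zero_iff _ hinj).2 hh₀) this
  calc Module.finrank k U = Module.finrank k (U.map Φ) := (Submodule.equivMapOfInjective Φ hΦ U).finrank_eq
    _ ≤ Module.finrank k R := Submodule.finrank_mono hle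
    _ ≤ Module.finrank k (Module.Free.ChooseBasisIndex Fk S → T) := LinearMap.finrank_range_le _
    _ = Module.finrank Fk S * nMon σ (m + c) := by
      rw [Module.finrank_pi_fintype, Finset.sum_const, Finset.card_univ, smul_eq_mul,
        finrank_restrictTotalDegree, Module.finrank_eq_card_basis bS]

end bound

end Groth.Agent.H1Stab
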