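import Groth.Agent.H1Stab.IntNorm
import Groth.Agent.H1Stab.Degree
import Mathlib.RingTheory.Polynomial.UniqueFactorization
import Mathlib.LinearAlgebra.Dimension.StrongRankCondition

/-!
# Stability of the Gauss valuation over a spherically complete algebraically closed field

A finite reduced algebra over the rational function field has an integral basis over the Gauss ring
with reduced reduction.
-/

set_option autoImplicit false

universe u

open IsLocalRing MvPolynomial

namespace Groth.Agent.H1Stab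

section homog

variable {σ : Type u} [Fintype σ] [DecidableEq σ] {k : Type u} [Field k] (i₀ : σ)

theorem coeff_homog {d : ℕ} {p : MvPolynomial σ k} (hp : p.totalDegree ≤ d) {e : σ →₀ ℕ}
    (he : e ∈ p.support) : (homog i₀ d p).coeff (flipExp i₀ d e) = p.coeff e := by
  rw [homog, coeff_sum, Finset.sum_eq_single_of_mem e he]
  · rw [coeff_monomial, if_pos rfl]
  · intro e' he' hne
    rw [coeff_monomial, if_neg]
    intro h3
    refine hne ?_
    rw [← flipExp_flipExp i₀ (sum_le_of_mem_support hp he'), h3,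
      flipExp_flipExp i₀ (sum_le_of_mem_support hp he)]

end homog

variable {Ω : Type u} [Field Ω] [IsAlgClosed Ω] {v : AbsoluteValue Ω ℝ} {hv : IsNonarchimedean v}
  {σ : Type u} [Fintype σ] [DecidableEq σ]
  {F : Type u} [Field F] [Algebra (MvPolynomial σ Ω) F] [IsFractionRing (MvPolynomial σ Ω) F]
  [Algebra Ω F] [IsScalarTower Ω (MvPolynomial σ Ω) F]

/-- The residual rational function field. -/
abbrev ResField (O : ValuationSubring Ω) (σ : Type u) : Type u := FractionRing (MvPolynomial σ (ResidueField O))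

/-- The residue map of the Gauss ring into the residual rational function field. -/
noncomputable abbrev gRes (O : ValuationSubring Ω) : gaussRing O σ F →+* ResField O σ :=
  gaussRes O (residue O) (ker_residue (R := O)) (ResField O σ)

theorem chart_map_mem (O : ValuationSubring Ω) (i₀ : σ) (p : MvPolynomial σ O) :
    chart (k := Ω) (Fk := F) i₀ (MvPolynomial.map O.subtype p) ∈ gaussRing O σ F := by
  induction p using MvPolynomial.induction_on with
  | C a =>
    rw [MvPolynomial.map_C, ← MvPolynomial.algebraMap_eq, AlgHom.commutes]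
    exact (algebraMap_mem_gauss O).2 a.2
  | add p q hp hq => rw [map_add, map_add]; exact add_mem hp hq
  | mul_X p i hp =>
    rw [map_mul, map_mul, MvPolynomial.map_X, chart, aeval_X]
    refine mul_mem hp (mul_mem ?_ ?_)
    · split_ifs
      · exact one_mem _
      · exact ⟨X i, 1, primitive_one O, by rw [map_one, mul_one, toF, RingHom.comp_apply, MvPolynomial.map_X]⟩
    · refine ⟨1, X i₀, ?_, ?_⟩
      · rw [Primitive, MvPolynomial.map_X]; exact X_ne_zero i₀
      · rw [map_one, toF, RingHom.comp_apply, MvPolynomial.map_X, inv_mul_cancel₀ (X_ne_zero' i₀)]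

theorem coeff_mem_of_chart (O : ValuationSubring Ω) (i₀ : σ) {p : MvPolynomial σ Ω}
    (hp : chart (k := Ω) (Fk := F) i₀ p ∈ gaussRing O σ F) :
    ∃ p' : MvPolynomial σ O, MvPolynomial.map O.subtype p' = p := by
  classical
  have hX : algebraMap (MvPolynomial σ Ω) F (X i₀) ∈ gaussRing O σ F :=
    ⟨X i₀, 1, primitive_one O, by rw [map_one, mul_one, toF, RingHom.comp_apply, MvPolynomial.map_X]⟩
  obtain ⟨a, ha⟩ := coeff_mem O (show algebraMap (MvPolynomial σ Ω) F (homog i₀ p.totalDegree p) ∈ gaussRing O σ F by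
    rw [← chart_mul_pow i₀ (le_refl p.totalDegree)]
    exact mul_mem hp (pow_mem hX _))
  have hmem : ∀ e, p.coeff e ∈ O := fun e => by
    by_cases he : e ∈ p.support
    · rw [← coeff_homog i₀ le_rfl he, ← ha, coeff_map]
      exact (a.coeff _).2
    · rw [notMem_support_iff.1 he]; exact zero_mem _
  refine ⟨∑ e ∈ p.support, monomial e ⟨p.coeff e, hmem e⟩, ?_⟩
  rw [map_sum]
  conv_rhs => rw [p.as_sum]
  simp only [MvPolynomial.map_monomial]
  rfl

theorem gRes_chart (O : ValuationSubring Ω) (i₀ : σ) (p : MvPolynomial σ O) :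
    gRes (F := F) O ⟨_, chart_map_mem O i₀ p⟩ =
      chart (k := ResidueField O) (Fk := ResField O σ) i₀ (MvPolynomial.map (residue O) p) := by
  let f : MvPolynomial σ O →+* gaussRing O σ F :=
    ((chart (k := Ω) (Fk := F) i₀).toRingHom.comp (MvPolynomial.map O.subtype)).codRestrict _
      (fun q => chart_map_mem O i₀ q)
  suffices (gRes (F := F) O).comp f =
      (chart (k := ResidueField O) (Fk := ResField O σ) i₀).toRingHom.comp (MvPolynomial.map (residue O)) from
    RingHom.congr_fun this p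
  refine MvPolynomial.ringHom_ext (fun a => ?_) (fun i => ?_)
  · show gRes O (f (C a)) = chart i₀ (MvPolynomial.map (residue O) (C a))
    have h1 : ((f (C a) : gaussRing O σ F) : F) * toF O σ F 1 = toF O σ F (C a) := by
      rw [map_one, mul_one]
      show chart i₀ (MvPolynomial.map O.subtype (C a)) = _
      rw [MvPolynomial.map_C, ← MvPolynomial.algebraMap_eq, AlgHom.commutes, toF, RingHom.comp_apply,
        MvPolynomial.map_C, algebraMap_eq_C (σ := σ)]
    rw [gaussRes_eq O _ _ _ (primitive_one O) h1, map_one, div_one, red, RingHom.comp_apply, MvPolynomial.map_C,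
      ← MvPolynomial.algebraMap_eq, AlgHom.commutes, ← IsScalarTower.algebraMap_apply]
  · show gRes O (f (X i)) = chart i₀ (MvPolynomial.map (residue O) (X i))
    have hq : Primitive O σ (X i₀) := by rw [Primitive, MvPolynomial.map_X]; exact X_ne_zero i₀
    have h1 : ((f (X i) : gaussRing O σ F) : F) * toF O σ F (X i₀) =
        toF O σ F (if i = i₀ then 1 else X i) := by
      show chart i₀ (MvPolynomial.map O.subtype (X i)) * _ = _
      rw [MvPolynomial.map_X, chart, aeval_X, toF, RingHom.comp_apply, RingHom.comp_apply, MvPolynomial.map_X,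
        mul_assoc, inv_mul_cancel₀ (X_ne_zero' i₀), mul_one]
      split_ifs <;> simp
    rw [gaussRes_eq O _ _ _ hq h1, red, RingHom.comp_apply, RingHom.comp_apply, MvPolynomial.map_X,
      MvPolynomial.map_X, chart, aeval_X, div_eq_mul_inv]
    split_ifs <;> simp

variable {E : Type u} [CommRing E] [IsReduced E] [Algebra F E] [Algebra Ω E] [IsScalarTower Ω F E]

section charts

variable [Algebra (MvPolynomial σ Ω) E] [IsScalarTower (MvPolynomial σ Ω) F E] [Module.Finite F E]

omit [IsAlgClosed Ω] [Fintype σ] [DecidableEq σ] [IsReduced E] [Algebra Ω F] [IsScalarTower Ω (MvPolynomial σ Ω) F] [Algebra Ω E] [IsScalarTower Ω F E] in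
theorem minpoly_coeff_poly {f : E} (hf : IsIntegral (MvPolynomial σ Ω) f) (j : ℕ) :
    ∃ p : MvPolynomial σ Ω, algebraMap (MvPolynomial σ Ω) F p = (minpoly F f).coeff j := by
  obtain ⟨g, hg, hgf⟩ := hf
  have hdvd : minpoly F f ∣ g.map (algebraMap (MvPolynomial σ Ω) F) := minpoly.dvd F f (by
    rw [Polynomial.aeval_map_algebraMap]; exact hgf)
  exact IsIntegrallyClosed.isIntegral_iff.1 (Polynomial.isIntegral_coeff_of_dvd g (minpoly F f) hg
    (minpoly.monic (IsIntegral.of_finite F f)) hdvd j)

/-- Integrality along a chart. -/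
theorem exists_chart_shift {e : E} (he : IsIntegral (MvPolynomial σ Ω) e) :
    ∃ D : ℕ, ∀ i₀ : σ, ((algebraMap F E).comp (chart (k := Ω) (Fk := F) i₀).toRingHom).IsIntegralElem
      (((algebraMap (MvPolynomial σ Ω) F (X i₀)) ^ D)⁻¹ • e) := by
  choose p hp using minpoly_coeff_poly (F := F) he
  obtain ⟨n, hn⟩ : ∃ n, n = (minpoly F e).natDegree := ⟨_, rfl⟩
  refine ⟨(Finset.range n).sup fun j => (p j).totalDegree, fun i₀ => ?_⟩
  obtain ⟨D, hD⟩ : ∃ D, D = (Finset.range n).sup fun j => (p j).totalDegree := ⟨_, rfl⟩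
  rw [← hD]
  have hmon := minpoly.monic (IsIntegral.of_finite F e)
  let t := ((algebraMap (MvPolynomial σ Ω) F (X i₀)) ^ D)⁻¹
  have hcoeff : ∀ j, ((minpoly F e).scaleRoots t).coeff j ∈ Set.range (chart (k := Ω) (Fk := F) i₀).toRingHom := by
    intro j
    rw [Polynomial.coeff_scaleRoots, ← hn]
    rcases lt_trichotomy j n with hlt | rfl | hgt
    · rw [← hp, inv_pow, ← pow_mul]
      refine exists_chart_eq i₀ (le_trans ?_ (Nat.le_mul_of_pos_right D (Nat.sub_pos_of_lt hlt)))
      rw [hD]
      exact Finset.le_sup (f := fun j => (p j).totalDegree) (Finset.mem_range.2 hlt)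
    · rw [hn, hmon.coeff_natDegree, Nat.sub_self, pow_zero, mul_one]
      exact ⟨1, map_one _⟩
    · rw [Polynomial.coeff_eq_zero_of_natDegree_lt (hn ▸ hgt), zero_mul]
      exact ⟨0, map_zero _⟩
  obtain ⟨g, hg, -, hgm⟩ := Polynomial.lifts_and_degree_eq_and_monic
    ((Polynomial.lifts_iff_coeff_lifts _).2 hcoeff) ((Polynomial.monic_scaleRoots_iff t).2 hmon)
  refine ⟨g, hgm, ?_⟩
  rw [← Polynomial.eval₂_map, hg, Algebra.smul_def]
  exact Polynomial.scaleRoots_aeval_eq_zero (minpoly.aeval F e)

end charts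

omit [IsAlgClosed Ω] in
theorem coeff_of_dvd_chart (i₀ : σ) (G₀ : Polynomial (MvPolynomial σ Ω)) (hG₀ : G₀.Monic) (q : Polynomial F)
    (hq : q.Monic) (hdvd : q ∣ G₀.map (chart (k := Ω) (Fk := F) i₀).toRingHom) (j : ℕ) :
    ∃ p, chart (k := Ω) (Fk := F) i₀ p = q.coeff j := by
  let ψ := chart (k := Ω) (Fk := F) i₀
  obtain ⟨hinj, hgen⟩ : Function.Injective ψ ∧ ∀ z : F, ∃ a b, ψ b ≠ 0 ∧ z * ψ b = ψ a :=
    ⟨chart_injective i₀, chart_generates i₀⟩
  letI : Algebra (MvPolynomial σ Ω) F := ψ.toRingHom.toAlgebra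
  haveI : FaithfulSMul (MvPolynomial σ Ω) F := (faithfulSMul_iff_algebraMap_injective _ _).2 hinj
  haveI : IsFractionRing (MvPolynomial σ Ω) F := IsFractionRing.of_field _ _ fun z => by
    obtain ⟨a, b, hb, hab⟩ := hgen z
    exact ⟨a, b, (eq_div_iff hb).2 hab⟩
  exact IsIntegrallyClosed.isIntegral_iff.1 (Polynomial.isIntegral_coeff_of_dvd G₀ q hG₀ hq hdvd j)

omit [IsAlgClosed Ω] [IsReduced E] [Algebra Ω F] [IsScalarTower Ω (MvPolynomial σ Ω) F] [Algebra Ω E]
  [IsScalarTower Ω F E] [Fintype σ] [DecidableEq σ] in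
theorem transfer {O : ValuationSubring Ω} [Algebra (gaussRing O σ F) E] [IsScalarTower (gaussRing O σ F) F E]
    {S : Type u} [CommRing S] {mkS : integralClosure (gaussRing O σ F) E →+* S} {f : E}
    (hf : f ∈ integralClosure (gaussRing O σ F) E) {R : Type u} [CommRing R] (ψ : R →+* F)
    (hψ : ∀ q, ψ q ∈ gaussRing O σ F) (G : Polynomial R) (hG : G.map ψ = minpoly F f) :
    G.eval₂ ((mkS.comp (algebraMap (gaussRing O σ F) (integralClosure (gaussRing O σ F) E))).comp
      (ψ.codRestrict (gaussRing O σ F).toSubring hψ)) (mkS ⟨f, hf⟩) = 0 := by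
  rw [RingHom.comp_assoc, ← Polynomial.hom_eval₂]
  refine (congrArg mkS (Subtype.ext ?_)).trans (map_zero mkS)
  show (integralClosure (gaussRing O σ F) E).val.toRingHom _ = 0
  rw [Polynomial.hom_eval₂, show (integralClosure (gaussRing O σ F) E).val.toRingHom.comp
    ((algebraMap (gaussRing O σ F) (integralClosure (gaussRing O σ F) E)).comp
      (ψ.codRestrict (gaussRing O σ F).toSubring hψ)) = (algebraMap F E).comp ψ from RingHom.ext fun q =>
    IsScalarTower.algebraMap_apply (gaussRing O σ F) F E ⟨ψ q, hψ q⟩, ← Polynomial.eval₂_map, hG]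
  exact minpoly.aeval F f

/-- Lifts of independent residues have coefficients in the valuation ring. -/
theorem lift_coeff_mem {K V k' S : Type*} [Field K] [CommRing V] [Algebra K V] [Field k'] [CommRing S]
    [Algebra k' S] {G : ValuationSubring K} [Algebra G V] [IsScalarTower G K V] {M : Subalgebra G V} (r : G →+* k')
    (hr : ∀ a : G, G.valuation (a : K) < 1 → r a = 0) (π : M →+* S)
    (hπ : ∀ a : G, algebraMap k' S (r a) = π (algebraMap G M a))
    {ι : Type*} [Fintype ι] (z : ι → M) (hz : LinearIndependent k' (fun i => π (z i))) (a : ι → K) (f : M)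
    (hsum : ∑ i, a i • (z i : V) = (f : V)) (i : ι) : a i ∈ G := by
  classical
  have hπ' : ∀ (a : G) (y : M), π (a • y) = r a • π y := fun a y => by
    rw [Algebra.smul_def, map_mul, ← hπ, ← Algebra.smul_def]
  by_contra hbad
  obtain ⟨i₁, -, hi₁⟩ := Finset.exists_max_image Finset.univ
    (fun i => G.valuation (a i)) ⟨i, Finset.mem_univ _⟩
  have hbig : 1 < G.valuation (a i₁) := by
    refine lt_of_lt_of_le ?_ (hi₁ i (Finset.mem_univ _))
    rw [← not_le, ValuationSubring.valuation_le_one_iff]
    exact hbad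
  have ha0 : a i₁ ≠ 0 := fun h => by rw [h, map_zero] at hbig; exact not_lt_zero hbig
  have hmem : ∀ j, a j / a i₁ ∈ G := fun j => by
    rw [← ValuationSubring.valuation_le_one_iff, map_div₀, div_le_one₀ (zero_lt_one.trans hbig)]
    exact hi₁ j (Finset.mem_univ _)
  have hinv : (a i₁)⁻¹ ∈ G := by
    rw [← ValuationSubring.valuation_le_one_iff, map_inv₀]
    exact inv_le_one_of_one_le₀ hbig.le
  have hinvm : r (⟨_, hinv⟩ : G) = 0 := hr _ (by
    show G.valuation (a i₁)⁻¹ < 1
    rw [map_inv₀]
    exact inv_lt_one_of_one_lt₀ hbig)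
  have heq : ∑ j, (⟨_, hmem j⟩ : G) • z j = (⟨_, hinv⟩ : G) • f := by
    refine Subtype.ext ?_
    rw [AddSubmonoidClass.coe_finsetSum]
    simp only [Subalgebra.coe_smul, ← algebraMap_smul K (_ : G) (_ : V)]
    show ∑ j, (a j / a i₁) • (z j : V) = (a i₁)⁻¹ • (f : V)
    rw [← hsum, Finset.smul_sum]
    simp only [smul_smul, inv_mul_eq_div]
  have h1 := congrArg π heq
  rw [map_sum, hπ', hinvm, zero_smul] at h1
  simp only [hπ'] at h1
  have h2 := (Fintype.linearIndependent_iff.1 hz) _ h1 i₁
  have h3 : (⟨_, hmem i₁⟩ : G) = 1 := Subtype.ext (div_self ha0)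
  rw [h3, map_one] at h2
  exact one_ne_zero h2

/-- Lifts of independent residues are independent. -/
theorem lift_independent {K V k' S : Type*} [Field K] [CommRing V] [Algebra K V] [Field k'] [CommRing S]
    [Algebra k' S] {G : ValuationSubring K} [Algebra G V] [IsScalarTower G K V] {M : Subalgebra G V} (r : G →+* k')
    (hr : ∀ a : G, G.valuation (a : K) < 1 → r a = 0) (π : M →+* S)
    (hπ : ∀ a : G, algebraMap k' S (r a) = π (algebraMap G M a))
    {ι : Type*} [Fintype ι] (z : ι → M) (hz : LinearIndependent k' (fun i => π (z i))) :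
    LinearIndependent K (fun i => (z i : V)) := by
  have hπ' : ∀ (a : G) (y : M), π (a • y) = r a • π y := fun a y => by
    rw [Algebra.smul_def, map_mul, ← hπ, ← Algebra.smul_def]
  rw [Fintype.linearIndependent_iff]
  intro a hsum i
  by_contra hai
  -- otherwise rescale by an arbitrarily large factor
  have hmem : ∀ t : K, t * a i ∈ G := fun t =>
    lift_coeff_mem r hr π hπ z hz (fun j => t * a j) 0 (by
      simp only [mul_smul, ← Finset.smul_sum, hsum, smul_zero, ZeroMemClass.coe_zero]) i
  have hall : ∀ x : K, x ∈ G := fun x => by simpa [div_mul_cancel₀ x hai] using hmem (x / a i)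
  -- so `G` is the whole field, and independence descends
  have h1 : ∑ j, (⟨a j, hall _⟩ : G) • z j = 0 := Subtype.ext (by
    rw [AddSubmonoidClass.coe_finsetSum, ZeroMemClass.coe_zero]
    simp only [Subalgebra.coe_smul, ← algebraMap_smul K (_ : G) (_ : V)]
    exact hsum)
  have h2 := congrArg π h1
  rw [map_sum, map_zero] at h2
  simp only [hπ'] at h2
  have h3 := (Fintype.linearIndependent_iff.1 hz) _ h2 i
  have h4 : IsUnit (⟨a i, hall _⟩ : G) := isUnit_iff_exists_inv.2 ⟨⟨(a i)⁻¹, hall _⟩, Subtype.ext (mul_inv_cancel₀ hai)⟩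
  exact (h4.map r).ne_zero h3

section reduction

variable (v hv σ F E)
variable [Algebra (gaussRing (absO v hv) σ F) E]

/-- The integral elements over the Gauss ring. -/
noncomputable abbrev IntE : Subalgebra (gaussRing (absO v hv) σ F) E := integralClosure (gaussRing (absO v hv) σ F) E

/-- The ideal of topologically nilpotent elements. -/
noncomputable abbrev NilJ : Ideal (IntE v hv σ F E) :=
  ((maximalIdeal (gaussRing (absO v hv) σ F)).map (algebraMap _ (IntE v hv σ F E))).radical

variable {v hv σ F E}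
variable [IsScalarTower (gaussRing (absO v hv) σ F) F E] [Module.Finite F E]
  {S : Type u} [CommRing S] [Algebra (ResField (absO v hv) σ) S]
  {mkS : IntE v hv σ F E →+* S}

theorem smul_residue {c : absO v hv} (y : IntE v hv σ F E) [Algebra (ResidueField (absO v hv)) S]
    [IsScalarTower (ResidueField (absO v hv)) (ResField (absO v hv) σ) S]
    (htoS : ∀ a, algebraMap (ResField (absO v hv) σ) S (gRes (F := F) (absO v hv) a) = mkS (algebraMap _ _ a))
    (h : (c : Ω) • (y : E) ∈ IntE v hv σ F E) : mkS ⟨_, h⟩ = residue _ c • mkS y := by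
  obtain ⟨a, ha⟩ : ∃ a : gaussRing (absO v hv) σ F, a = ⟨algebraMap Ω F (c : Ω), (algebraMap_mem_gauss _).2 c.2⟩ := ⟨_, rfl⟩
  have h1 : gRes (absO v hv) a = algebraMap (ResidueField (absO v hv)) (ResField (absO v hv) σ) (residue _ c) := by
    rw [ha, gaussRes_eq (absO v hv) _ _ _ (primitive_one _) (p := C c) (by
      rw [map_one, mul_one, toF, RingHom.comp_apply, MvPolynomial.map_C]
      exact (algebraMap_eq_C (σ := σ) (c : Ω))), map_one, div_one, red, RingHom.comp_apply, MvPolynomial.map_C,
      IsScalarTower.algebraMap_apply (ResidueField (absO v hv)) (MvPolynomial σ (ResidueField (absO v hv))) (ResField (absO v hv) σ),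
      MvPolynomial.algebraMap_eq]
  rw [← algebraMap_smul (ResField (absO v hv) σ) (residue _ c) (mkS y), ← h1,
    Algebra.smul_def (gRes (absO v hv) a) (mkS y), htoS, ← map_mul]
  refine congrArg mkS (Subtype.ext ?_)
  show (c : Ω) • (y : E) = algebraMap (gaussRing (absO v hv) σ F) E a * (y : E)
  rw [IsScalarTower.algebraMap_apply (gaussRing (absO v hv) σ F) F E, ← Algebra.smul_def,
    ← algebraMap_smul F (c : Ω) (y : E), ha]
  rfl

theorem bounded_of_int [Algebra (MvPolynomial σ Ω) E] [IsScalarTower (MvPolynomial σ Ω) F E]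
    (htoS : ∀ a, algebraMap (ResField (absO v hv) σ) S (gRes (F := F) (absO v hv) a) = mkS (algebraMap _ _ a))
    {f : E} (hf : f ∈ IntE v hv σ F E) (hP : IsIntegral (MvPolynomial σ Ω) f) (M : ℕ)
    (hM : ∀ i₀, ((algebraMap F E).comp (chart (k := Ω) (Fk := F) i₀).toRingHom).IsIntegralElem
      (((algebraMap (MvPolynomial σ Ω) F (X i₀)) ^ M)⁻¹ • f)) :
    Bounded (σ := σ) (k := ResidueField (absO v hv)) (Fk := ResField (absO v hv) σ) M (mkS ⟨f, hf⟩) := by
  classical
  constructor
  · choose p hp using minpoly_coeff_poly (F := F) hP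
    choose p' hp' using fun j => coeff_mem (absO v hv) (show algebraMap (MvPolynomial σ Ω) F (p j) ∈
      gaussRing (absO v hv) σ F from (hp j).symm ▸ minpoly_coeff_mem _ hf j)
    obtain ⟨G, hG, -, hGm⟩ := Polynomial.lifts_and_degree_eq_and_monic (f := toF (absO v hv) σ F)
      (p := minpoly F f)
      ((Polynomial.lifts_iff_coeff_lifts _).2 fun j => ⟨p' j, by rw [toF, RingHom.comp_apply, hp', hp]⟩)
      (minpoly.monic (IsIntegral.of_finite F _))
    refine ⟨G.map (MvPolynomial.map (residue (absO v hv))), hGm.map _, ?_⟩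
    have key := transfer (mkS := mkS) hf (toF (absO v hv) σ F) (fun q => toF_mem _ q) G hG
    rw [Polynomial.eval₂_map]
    refine Eq.trans ?_ key
    refine Polynomial.eval₂_congr (RingHom.ext fun q => ?_) rfl rfl
    show algebraMap (ResField (absO v hv) σ) S (algebraMap _ (ResField (absO v hv) σ) (MvPolynomial.map (residue _) q)) =
      mkS (algebraMap _ _ (⟨toF (absO v hv) σ F q, toF_mem _ q⟩ : gaussRing (absO v hv) σ F))
    rw [← htoS, gaussRes_toF]; rfl
  · intro i₀
    obtain ⟨G₀, hG₀, hG₀0⟩ := hM i₀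
    have hXunit : ((algebraMap (MvPolynomial σ Ω) F (X i₀)) ^ M)⁻¹ ∈ gaussRing (absO v hv) σ F :=
      ⟨1, X i₀ ^ M, by rw [Primitive, map_pow, MvPolynomial.map_X]; exact pow_ne_zero _ (X_ne_zero i₀), by
        rw [map_one, map_pow, toF, RingHom.comp_apply, MvPolynomial.map_X,
          inv_mul_cancel₀ (pow_ne_zero _ (X_ne_zero' i₀))]⟩
    have hf' : (((algebraMap (MvPolynomial σ Ω) F (X i₀)) ^ M)⁻¹ • f) ∈ IntE v hv σ F E := by
      rw [Algebra.smul_def]
      refine mul_mem ?_ hf
      have h := isIntegral_algebraMap (R := gaussRing (absO v hv) σ F) (A := E) (x := ⟨_, hXunit⟩)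
      rwa [IsScalarTower.algebraMap_apply (gaussRing (absO v hv) σ F) F E] at h
    have hsm : ((algebraMap (MvPolynomial σ (ResidueField (absO v hv))) (ResField (absO v hv) σ) (X i₀)) ^ M)⁻¹ • mkS ⟨f, hf⟩ =
        mkS ⟨_, hf'⟩ := by
      have hres : gRes (absO v hv) (⟨_, hXunit⟩ : gaussRing (absO v hv) σ F) =
          ((algebraMap (MvPolynomial σ (ResidueField (absO v hv))) (ResField (absO v hv) σ) (X i₀)) ^ M)⁻¹ := by
        rw [gaussRes_eq (absO v hv) _ _ _ (q := X i₀ ^ M)
          (by rw [Primitive, map_pow, MvPolynomial.map_X]; exact pow_ne_zero _ (X_ne_zero i₀)) (p := 1) (by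
            rw [map_one, map_pow, toF, RingHom.comp_apply, MvPolynomial.map_X,
              inv_mul_cancel₀ (pow_ne_zero _ (X_ne_zero' i₀))]),
          red, RingHom.comp_apply, RingHom.comp_apply, map_one, map_one, map_pow, MvPolynomial.map_X, map_pow,
          one_div]
      rw [← hres, Algebra.smul_def, htoS, ← map_mul]
      refine congrArg mkS (Subtype.ext ?_)
      show algebraMap (gaussRing (absO v hv) σ F) E _ * f = ((algebraMap (MvPolynomial σ Ω) F (X i₀)) ^ M)⁻¹ • f
      rw [IsScalarTower.algebraMap_apply (gaussRing (absO v hv) σ F) F E, Algebra.smul_def]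
      rfl
    show ((algebraMap (ResField (absO v hv) σ) S).comp _).IsIntegralElem _
    rw [hsm]
    have hdvd : minpoly F (((algebraMap (MvPolynomial σ Ω) F (X i₀)) ^ M)⁻¹ • f) ∣
        G₀.map (chart (k := Ω) (Fk := F) i₀).toRingHom := minpoly.dvd F _ (by
      rw [Polynomial.aeval_def, Polynomial.eval₂_map]; exact hG₀0)
    have hcl : ∀ j, ∃ q : MvPolynomial σ Ω, chart (k := Ω) (Fk := F) i₀ q =
        (minpoly F (((algebraMap (MvPolynomial σ Ω) F (X i₀)) ^ M)⁻¹ • f)).coeff j :=
      fun j => coeff_of_dvd_chart i₀ G₀ hG₀ _ (minpoly.monic (IsIntegral.of_finite F _)) hdvd j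
    choose p hp using hcl
    choose p' hp' using fun j => coeff_mem_of_chart (absO v hv) i₀ (show chart (k := Ω) (Fk := F) i₀ (p j) ∈
      gaussRing (absO v hv) σ F from (hp j).symm ▸ minpoly_coeff_mem _ hf' j)
    obtain ⟨G, hG, -, hGm⟩ := Polynomial.lifts_and_degree_eq_and_monic
      (f := (chart (k := Ω) (Fk := F) i₀).toRingHom.comp (MvPolynomial.map (absO v hv).subtype))
      (p := minpoly F (((algebraMap (MvPolynomial σ Ω) F (X i₀)) ^ M)⁻¹ • f))
      ((Polynomial.lifts_iff_coeff_lifts _).2 fun j => ⟨p' j, by rw [RingHom.comp_apply, hp']; exact hp j⟩)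
      (minpoly.monic (IsIntegral.of_finite F _))
    refine ⟨G.map (MvPolynomial.map (residue (absO v hv))), hGm.map _, ?_⟩
    have key := transfer (mkS := mkS) hf' _ (fun q => chart_map_mem (absO v hv) i₀ q) G hG
    rw [Polynomial.eval₂_map]
    refine Eq.trans ?_ key
    refine Polynomial.eval₂_congr (RingHom.ext fun q => ?_) rfl rfl
    show algebraMap (ResField (absO v hv) σ) S (chart i₀ (MvPolynomial.map (residue _) q)) = mkS (algebraMap _ _ (⟨_, chart_map_mem (F := F) (absO v hv) i₀ q⟩ : gaussRing (absO v hv) σ F))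
    rw [← gRes_chart (F := F), htoS]

theorem dim_bound [IsReduced S] [Algebra (ResidueField (absO v hv)) S]
    [IsScalarTower (ResidueField (absO v hv)) (ResField (absO v hv) σ) S] [Module.Finite (ResField (absO v hv) σ) S]
    (htoS : ∀ a, algebraMap (ResField (absO v hv) σ) S (gRes (F := F) (absO v hv) a) = mkS (algebraMap _ _ a))
    (hker : ∀ y, mkS y = 0 → y ∈ NilJ v hv σ F E) (hB : BallsMeet v) {n : ℕ} (e : Module.Basis (Fin n) F E)
    (he : ∀ i, ((algebraMap F E).comp (algebraMap (MvPolynomial σ Ω) F)).IsIntegralElem (e i)) :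
    ∃ c : ℕ, ∀ m, n * nMon σ m ≤ Module.finrank (ResField (absO v hv) σ) S * nMon σ (m + c) := by
  classical
  letI : Algebra (MvPolynomial σ Ω) E := ((algebraMap F E).comp (algebraMap (MvPolynomial σ Ω) F)).toAlgebra
  haveI : IsScalarTower (MvPolynomial σ Ω) F E := IsScalarTower.of_algebraMap_eq fun _ => rfl
  have hN := isVNorm_spec (σ := σ) (F := F) (E := E) (v := v) (hv := hv)
  choose D hD using fun i => exists_chart_shift (σ := σ) (F := F) (E := E) (he i)
  obtain ⟨D₀, hD₀⟩ : ∃ D₀, ∀ i, D i ≤ D₀ := ⟨Finset.univ.sup D, fun i => Finset.le_sup (Finset.mem_univ i)⟩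
  obtain ⟨c₀, hc₀⟩ := exists_bound σ (ResidueField (absO v hv)) (ResField (absO v hv) σ) S
  refine ⟨D₀ + c₀, fun m => ?_⟩
  let W := Fin n → restrictTotalDegree σ Ω m
  let Ψ : W →ₗ[Ω] E :=
    { toFun := fun w => ∑ i, algebraMap (MvPolynomial σ Ω) F (w i : MvPolynomial σ Ω) • e i
      map_add' := fun w w' => by
        rw [← Finset.sum_add_distrib]
        refine Finset.sum_congr rfl fun i _ => ?_
        show algebraMap (MvPolynomial σ Ω) F ((w i : MvPolynomial σ Ω) + (w' i : MvPolynomial σ Ω)) • e i = _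
        rw [map_add, add_smul]
      map_smul' := fun a w => by
        rw [RingHom.id_apply, Finset.smul_sum]
        refine Finset.sum_congr rfl fun i _ => ?_
        show algebraMap (MvPolynomial σ Ω) F (a • (w i : MvPolynomial σ Ω)) • e i = _
        rw [Algebra.smul_def a (w i : MvPolynomial σ Ω), map_mul, mul_smul, ← IsScalarTower.algebraMap_apply,
          algebraMap_smul] }
  have hΨ : Function.Injective Ψ := fun w w' h => funext fun i => Subtype.ext
    (IsFractionRing.injective (MvPolynomial σ Ω) F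
      (Fintype.linearIndependent_iffₛ.1 e.linearIndependent _ _ h i))
  have hNW : IsVNorm v (fun w => spec v hv σ F (Ψ w)) :=
    ⟨fun a w => by rw [map_smul]; exact hN.smul a _, fun w w' => by rw [map_add]; exact hN.add_le _ _,
      fun w h => hΨ (by rw [hN.eq_zero _ h, map_zero]), fun w => hN.value _⟩
  obtain ⟨b, hb1, hb⟩ := exists_orth v hB hNW
  have hbint : ∀ j, Ψ (b j) ∈ IntE v hv σ F E := fun j => isIntegral_iff_spec.2 (hb1 j).le
  let g : Fin (Module.finrank Ω W) → S := fun j => mkS ⟨_, hbint j⟩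
  have hmemO : ∀ cf : Fin (Module.finrank Ω W) → absO v hv, Ψ (∑ j, (cf j : Ω) • b j) ∈ IntE v hv σ F E :=
    fun cf => by
      refine isIntegral_iff_spec.2 (hNW.sum_le v _ _ zero_le_one fun j _ => ?_)
      rw [hNW.smul, hb1, mul_one]
      exact (cf j).2
  have hmk : ∀ (cf : Fin (Module.finrank Ω W) → absO v hv),
      mkS ⟨_, hmemO cf⟩ = ∑ j, residue _ (cf j) • g j := fun cf => by
    have h1 : ∀ j, (cf j : Ω) • Ψ (b j) ∈ IntE v hv σ F E := fun j => isIntegral_smul _ (cf j).2 (hbint j)
    have h2 : (⟨_, hmemO cf⟩ : IntE v hv σ F E) = ∑ j, ⟨_, h1 j⟩ :=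
      Subtype.ext (by rw [AddSubmonoidClass.coe_finsetSum]; simp only [map_sum, map_smul])
    rw [h2, map_sum]
    exact Finset.sum_congr rfl fun j _ => smul_residue ⟨_, hbint j⟩ htoS (h1 j)
  have hindep : LinearIndependent (ResidueField (absO v hv)) g := by
    rw [Fintype.linearIndependent_iff]
    intro a ha j
    choose cf hcf using fun j => residue_surjective (a j)
    have h0 : mkS ⟨_, hmemO cf⟩ = 0 := by rw [hmk]; simp only [hcf]; exact ha
    have hlt : spec v hv σ F (Ψ (∑ j, (cf j : Ω) • b j)) < 1 :=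
      (spec_lt_one_iff (⟨_, hmemO cf⟩ : IntE v hv σ F E)).2 (hker _ h0)
    rw [← hcf, residue_eq_zero_iff, mem_maximalIdeal]
    intro hu
    obtain ⟨d, hd⟩ := hu.exists_right_inv
    have h1 : v (cf j : Ω) * v (d : Ω) = 1 := by
      rw [← map_mul, show (cf j : Ω) * (d : Ω) = 1 from congrArg Subtype.val hd, map_one]
    have h2 : v (cf j : Ω) < 1 := lt_of_le_of_lt (hb (fun j => (cf j : Ω)) j) hlt
    have h3 : v (d : Ω) ≤ 1 := d.2
    nlinarith [v.nonneg (cf j : Ω), v.nonneg (d : Ω)]
  obtain ⟨U, hUdef⟩ : ∃ U : Submodule (ResidueField (absO v hv)) S, U = Submodule.span _ (Set.range g) := ⟨_, rfl⟩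
  have hU : Module.finrank (ResidueField (absO v hv)) U = n * nMon σ m := by
    rw [hUdef, finrank_span_eq_card hindep, Fintype.card_fin, Module.finrank_pi_fintype, Finset.sum_const,
      Finset.card_univ, Fintype.card_fin, smul_eq_mul, finrank_restrictTotalDegree]
  have hbd : ∀ u ∈ U, Bounded (σ := σ) (k := ResidueField (absO v hv)) (Fk := ResField (absO v hv) σ) (m + D₀) u := by
    intro u hu
    rw [hUdef] at hu
    obtain ⟨a, rfl⟩ := (Submodule.mem_span_range_iff_exists_fun _).1 hu
    choose cf hcf using fun j => residue_surjective (a j)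
    have hu' : ∑ j, a j • g j = mkS ⟨_, hmemO cf⟩ := by rw [hmk cf]; simp only [hcf]
    rw [hu']
    refine bounded_of_int htoS _ ?_ _ fun i₀ => ?_
    · show IsIntegral (MvPolynomial σ Ω) (∑ i, _ • e i)
      refine IsIntegral.sum _ fun i _ => ?_
      rw [algebraMap_smul]
      exact IsIntegral.smul _ (he i)
    · letI : Algebra (MvPolynomial σ Ω) E := ((algebraMap F E).comp (chart (k := Ω) (Fk := F) i₀).toRingHom).toAlgebra
      have hmul : ∀ (q : F), q ∈ (chart (k := Ω) (Fk := F) i₀).range → ∀ y : E,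
          IsIntegral (MvPolynomial σ Ω) y → IsIntegral (MvPolynomial σ Ω) (q • y) := by
        rintro _ ⟨q, rfl⟩ y hy
        rw [Algebra.smul_def]
        exact IsIntegral.mul (isIntegral_algebraMap (R := MvPolynomial σ Ω) (A := E) (x := q)) hy
      generalize (∑ j, (cf j : Ω) • b j) = w
      show IsIntegral (MvPolynomial σ Ω) (_ • ∑ i, _ • e i)
      rw [Finset.smul_sum]
      refine IsIntegral.sum _ fun i _ => ?_
      have hsplit : ((algebraMap (MvPolynomial σ Ω) F (X i₀)) ^ (m + D₀))⁻¹ •
          algebraMap (MvPolynomial σ Ω) F (w i : MvPolynomial σ Ω) • e i =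
          (algebraMap (MvPolynomial σ Ω) F (w i : MvPolynomial σ Ω) * ((algebraMap (MvPolynomial σ Ω) F (X i₀)) ^ m)⁻¹) •
          ((algebraMap (MvPolynomial σ Ω) F 1) * ((algebraMap (MvPolynomial σ Ω) F (X i₀)) ^ (D₀ - D i))⁻¹) •
          (((algebraMap (MvPolynomial σ Ω) F (X i₀)) ^ (D i))⁻¹ • e i) := by
        rw [smul_smul, smul_smul, smul_smul]
        congr 1
        have e1 : m + D₀ = m + (D₀ - D i) + D i := by have := hD₀ i; omega
        rw [map_one, one_mul, e1, pow_add, pow_add, mul_inv, mul_inv]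
        ring
      rw [hsplit]
      refine hmul _ (exists_chart_eq i₀ ((mem_restrictTotalDegree _ _ _).1 (w i).2)) _ ?_
      exact hmul _ (exists_chart_eq i₀ (by rw [totalDegree_one]; exact Nat.zero_le _)) _ (hD i i₀)
  have h := hc₀ (m + D₀) U hbd
  rw [hU, add_assoc] at h
  exact h

omit [IsScalarTower Ω F E] [Algebra Ω E] [IsReduced E] in
theorem table_of_rank [Nontrivial S] {n : ℕ} (e : Module.Basis (Fin n) F E)
    (htoS : ∀ a, algebraMap (ResField (absO v hv) σ) S (gRes (F := F) (absO v hv) a) = mkS (algebraMap _ _ a))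
    (hmkS : Function.Surjective mkS) [Module.Finite (ResField (absO v hv) σ) S]
    (hrank : Module.finrank (ResField (absO v hv) σ) S = n) :
    ∃ (θ : Module.Basis (Fin n) F E) (c : Fin n → Fin n → Fin n → gaussRing (absO v hv) σ F)
      (one : Fin n → gaussRing (absO v hv) σ F) (s : Module.Basis (Fin n) (ResField (absO v hv) σ) S),
      (∀ i j, θ i * θ j = ∑ l, (c i j l : F) • θ l) ∧ (1 = ∑ l, (one l : F) • θ l) ∧
      (∀ i j, s i * s j = ∑ l, gRes (absO v hv) (c i j l) • s l) ∧
      (1 = ∑ l, gRes (absO v hv) (one l) • s l) := by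
  classical
  have hr : ∀ a : gaussRing (absO v hv) σ F, (gaussRing (absO v hv) σ F).valuation (a : F) < 1 →
      gRes (absO v hv) a = 0 := fun a ha =>
    (gaussRes_eq_zero_iff _ _ _ _ a).2 (((gaussRing (absO v hv) σ F).valuation_lt_one_iff a).2 ha)
  let s := Module.finBasisOfFinrankEq (ResField (absO v hv) σ) S hrank
  choose z hz using fun i : Fin n => hmkS (s i)
  have hsli : LinearIndependent (ResField (absO v hv) σ) (fun i => mkS (z i)) := by
    have : (fun i => mkS (z i)) = s := funext hz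
    rw [this]; exact s.linearIndependent
  have hθli : LinearIndependent F (fun i : Fin n => (z i : E)) := lift_independent (gRes (absO v hv)) hr mkS htoS z hsli
  let θ : Module.Basis (Fin n) F E := Module.Basis.mk hθli (by
    rw [hθli.span_eq_top_of_card_eq_finrank' (by rw [Fintype.card_fin, Module.finrank_eq_card_basis e, Fintype.card_fin])])
  have hθ : ∀ i, θ i = (z i : E) := fun i => Module.Basis.mk_apply _ _ i
  have hcoord : ∀ f : IntE v hv σ F E, ∀ l, θ.repr (f : E) l ∈ gaussRing (absO v hv) σ F := fun f l => by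
    refine lift_coeff_mem (gRes (absO v hv)) hr mkS htoS z hsli (fun i => θ.repr (f : E) i) f ?_ l
    conv_rhs => rw [← θ.sum_repr (f : E)]
    refine Finset.sum_congr rfl fun i _ => ?_
    rw [hθ]
  have hred : ∀ f : IntE v hv σ F E, mkS f = ∑ l, gRes (absO v hv) (⟨_, hcoord f l⟩ : gaussRing (absO v hv) σ F) • s l := fun f => by
    simp only [← hz, Algebra.smul_def, htoS, ← map_mul, ← map_sum]
    refine congrArg mkS (Subtype.ext ?_)
    conv_lhs => rw [← θ.sum_repr (f : E)]
    simp only [AddSubmonoidClass.coe_finsetSum, Subalgebra.coe_mul, Subalgebra.coe_algebraMap]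
    refine Finset.sum_congr rfl fun i _ => ?_
    rw [hθ, Algebra.smul_def, IsScalarTower.algebraMap_apply (gaussRing (absO v hv) σ F) F E]
    rfl
  refine ⟨θ, fun i j l => ⟨_, hcoord (z i * z j) l⟩, fun l => ⟨_, hcoord 1 l⟩, s, fun i j => ?_, ?_, fun i j => ?_, ?_⟩
  · rw [hθ, hθ, ← Subalgebra.coe_mul]
    exact (θ.sum_repr _).symm
  · exact (θ.sum_repr _).symm
  · rw [← hred, map_mul, hz, hz]
  · rw [← hred, map_one]

theorem spec_one_not_lt [Nontrivial E] : ¬ spec v hv σ F (1 : E) < 1 := fun h => by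
  obtain ⟨c, hc⟩ := exists_spec_eq (σ := σ) (F := F) (v := v) (hv := hv) (1 : E)
  rw [hc] at h
  rcases eq_or_ne c 0 with rfl | hc0
  · rw [map_zero] at hc
    exact one_ne_zero (spec_eq_zero hc)
  have h1 := (spec_le_iff hc0).1 hc.le
  rw [Algebra.smul_def, mul_one, IsScalarTower.algebraMap_apply Ω F E,
    isIntegral_algebraMap_iff (algebraMap F E).injective] at h1
  obtain ⟨y, hy⟩ := IsIntegrallyClosed.isIntegral_iff.1 h1
  have h3 : algebraMap Ω F c⁻¹ ∈ gaussRing (absO v hv) σ F := by rw [← hy]; exact y.2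
  have h2 : v c⁻¹ ≤ 1 := (algebraMap_mem_gauss (σ := σ) (absO v hv)).1 h3
  rw [map_inv₀, inv_le_one₀ (v.pos hc0)] at h2
  exact absurd h (not_lt.2 h2)

end reduction

/-- Stability of the Gauss valuation. -/
theorem stability (hB : BallsMeet v) {n : ℕ} (e : Module.Basis (Fin n) F E) [Nontrivial E]
    (he : ∀ i, ((algebraMap F E).comp (algebraMap (MvPolynomial σ Ω) F)).IsIntegralElem (e i)) :
    ∃ (θ : Module.Basis (Fin n) F E) (c : Fin n → Fin n → Fin n → gaussRing (absO v hv) σ F)
      (one : Fin n → gaussRing (absO v hv) σ F)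
      (S : Type u) (_ : CommRing S) (_ : IsReduced S) (_ : Algebra (ResField (absO v hv) σ) S)
      (s : Module.Basis (Fin n) (ResField (absO v hv) σ) S),
      (∀ i j, θ i * θ j = ∑ l, (c i j l : F) • θ l) ∧ (1 = ∑ l, (one l : F) • θ l) ∧
      (∀ i j, s i * s j = ∑ l, gRes (absO v hv) (c i j l) • s l) ∧
      (1 = ∑ l, gRes (absO v hv) (one l) • s l) := by
  classical
  letI : Algebra (gaussRing (absO v hv) σ F) E := ((algebraMap F E).comp (gaussRing (absO v hv) σ F).subtype).toAlgebra
  haveI : IsScalarTower (gaussRing (absO v hv) σ F) F E := IsScalarTower.of_algebraMap_eq fun _ => rfl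
  haveI : Module.Finite F E := Module.Finite.of_basis e
  obtain ⟨S, _, _, mkS, hmkS, hker⟩ : ∃ (S : Type u) (_ : CommRing S) (_ : IsReduced S)
      (mkS : IntE v hv σ F E →+* S), Function.Surjective mkS ∧ ∀ y, mkS y = 0 ↔ y ∈ NilJ v hv σ F E :=
    ⟨IntE v hv σ F E ⧸ NilJ v hv σ F E, inferInstance,
      (Ideal.isRadical_iff_quotient_reduced _).1 (Ideal.radical_isRadical _), Ideal.Quotient.mk _,
      Ideal.Quotient.mk_surjective, fun y => Ideal.Quotient.eq_zero_iff_mem⟩
  have hsurj : Function.Surjective (gRes (σ := σ) (F := F) (absO v hv)) :=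
    gaussRes_surjective _ _ _ _ residue_surjective
  obtain ⟨toS, htoS⟩ : ∃ toS : ResField (absO v hv) σ →+* S,
      ∀ z, toS (gRes (absO v hv) z) = mkS (algebraMap _ _ z) :=
    ⟨(gRes (σ := σ) (F := F) (absO v hv)).liftOfSurjective hsurj
      ⟨mkS.comp (algebraMap (gaussRing (absO v hv) σ F) (IntE v hv σ F E)), fun z hz => by
        rw [RingHom.mem_ker, RingHom.comp_apply, hker]
        exact Ideal.le_radical (Ideal.mem_map_of_mem _ ((gaussRes_eq_zero_iff _ _ _ _ z).1 hz))⟩,
      fun z => RingHom.liftOfRightInverse_comp_apply _ _ _ _ z⟩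
  letI : Algebra (ResField (absO v hv) σ) S := toS.toAlgebra
  letI : Algebra (ResidueField (absO v hv)) S := (toS.comp (algebraMap (ResidueField (absO v hv)) (ResField (absO v hv) σ))).toAlgebra
  haveI : IsScalarTower (ResidueField (absO v hv)) (ResField (absO v hv) σ) S := IsScalarTower.of_algebraMap_eq fun _ => rfl
  haveI : Nontrivial S := nontrivial_of_ne 1 0 fun h => by
    rw [← map_one mkS, hker, ← spec_lt_one_iff] at h
    exact absurd h (spec_one_not_lt (σ := σ) (F := F) (E := E))
  have hr : ∀ a : gaussRing (absO v hv) σ F, (gaussRing (absO v hv) σ F).valuation (a : F) < 1 →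
      gRes (absO v hv) a = 0 := fun a ha =>
    (gaussRes_eq_zero_iff _ _ _ _ a).2 (((gaussRing (absO v hv) σ F).valuation_lt_one_iff a).2 ha)
  have hcard : ∀ (ι : Type) [Fintype ι] (f : ι → S), LinearIndependent (ResField (absO v hv) σ) f →
      Fintype.card ι ≤ n := by
    intro ι _ f hf
    choose z hz using fun i => hmkS (f i)
    have hli : LinearIndependent (ResField (absO v hv) σ) (fun i => mkS (z i)) := by
      have : (fun i => mkS (z i)) = f := funext hz
      rw [this]; exact hf
    have h := (lift_independent (gRes (absO v hv)) hr mkS htoS z hli).fintype_card_le_finrank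
    rwa [Module.finrank_eq_card_basis e, Fintype.card_fin] at h
  haveI : Module.Finite (ResField (absO v hv) σ) S := by
    refine Module.rank_lt_aleph0_iff.1 (lt_of_le_of_lt (rank_le (n := n) fun t ht => ?_) (Cardinal.natCast_lt_aleph0))
    have h := hcard (Fin t.card) (fun i => ((t.equivFin.symm i : t) : S)) (ht.comp _ t.equivFin.symm.injective)
    rwa [Fintype.card_fin] at h
  have hle : Module.finrank (ResField (absO v hv) σ) S ≤ n := by
    have h := hcard _ _ (Module.finBasis (ResField (absO v hv) σ) S).linearIndependent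
    rwa [Fintype.card_fin] at h
  obtain ⟨c, hc⟩ := dim_bound (mkS := mkS) htoS (fun y => (hker y).1) hB e he
  obtain ⟨θ, c, one, s, h⟩ := table_of_rank (mkS := mkS) e htoS hmkS (le_antisymm hle (le_of_forall_nMon hc))
  exact ⟨θ, c, one, S, inferInstance, inferInstance, inferInstance, s, h⟩

end Groth.Agent.H1Stab
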