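import Groth.Agent.H1Stab.Table
import Groth.Agent.H1Stab.FracMap
import Groth.Agent.H1Stab.Stability
import Groth.Agent.H1Ram.Deform
import Groth.Agent.H1Ram.Generic
import Groth.Agent.H1Ram.ASStep
import Mathlib

/-!
# Local extensions generated by an order with geometrically reduced special fibre
-/

set_option autoImplicit false

universe u

open MvPolynomial IsLocalRing TensorProduct

namespace Groth.Agent.H1Stab

/-- The property asked of a local extension. -/
def GoodExt {K1 M : Type u} [Field K1] [Field M] (W : ValuationSubring M) (f : K1 →+* M) : Prop :=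
  letI : Algebra (W.comap f) W := (EtRam.inclOfComap W f).toAlgebra
  EtRam.IsWeaklyUnramified (W.comap f) W ∧
    @Algebra.IsGeometricallyReduced (IsLocalRing.ResidueField (W.comap f)) (IsLocalRing.ResidueField W) _ _
      (IsLocalRing.ResidueField.map (EtRam.inclOfComap W f)).toAlgebra

/-- Goodness is invariant under automorphisms of the constants. -/
theorem goodExt_twist {K1 M : Type u} [Field K1] [Field M] (W : ValuationSubring M) (f : K1 →+* M) (s : K1 ≃+* K1)
    (h : GoodExt W (f.comp s.toRingHom)) : GoodExt W f := by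
  let ι : W.comap (f.comp s.toRingHom) →+* W.comap f :=
    (s.toRingHom.comp (W.comap (f.comp s.toRingHom)).subtype).codRestrict (W.comap f).toSubring fun x => x.2
  have hι : Function.Bijective ι := by
    refine ⟨fun a b hab => Subtype.ext (s.injective (congrArg Subtype.val hab)), fun y => ?_⟩
    refine ⟨⟨s.symm y, ?_⟩, Subtype.ext (s.apply_symm_apply _)⟩
    show f (s (s.symm y)) ∈ W
    rw [s.apply_symm_apply]; exact y.2
  haveI : IsLocalHom ι := IsLocalHom.mk fun a ha => by
    obtain ⟨b, hb⟩ := ha.exists_right_inv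
    obtain ⟨c, rfl⟩ := hι.2 b
    exact IsUnit.of_mul_eq_one c (hι.1 (by rw [map_mul, hb, map_one]))
  have hcomp : (EtRam.inclOfComap W f).comp ι = EtRam.inclOfComap W (f.comp s.toRingHom) :=
    RingHom.ext fun _ => Subtype.ext rfl
  obtain ⟨h1, h2⟩ := h
  refine ⟨?_, ?_⟩
  · show Ideal.map (EtRam.inclOfComap W f) (maximalIdeal _) = maximalIdeal W
    refine le_antisymm ?_ ?_
    · rw [Ideal.map_le_iff_le_comap]
      intro a ha hu
      exact ha (isUnit_of_map_unit (EtRam.inclOfComap W f) a hu)
    · refine le_of_eq_of_le h1.symm ?_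
      show Ideal.map (EtRam.inclOfComap W (f.comp s.toRingHom)) (maximalIdeal _) ≤ _
      rw [← hcomp, ← Ideal.map_map]
      refine Ideal.map_mono ?_
      rw [Ideal.map_le_iff_le_comap]
      exact fun a ha hu => ha (isUnit_of_map_unit ι a hu)
  · refine Groth.Agent.H1Ram.geomReduced_congr (ResidueField.map (EtRam.inclOfComap W (f.comp s.toRingHom)))
      (ResidueField.map (EtRam.inclOfComap W f)) (ResidueField.map ι) ?_ (RingHom.id _) Function.surjective_id ?_ h2
    · intro y
      obtain ⟨y, rfl⟩ := residue_surjective y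
      obtain ⟨z, rfl⟩ := hι.2 y
      exact ⟨residue _ z, ResidueField.map_residue ι z⟩
    · refine RingHom.ext fun y => ?_
      obtain ⟨y, rfl⟩ := residue_surjective y
      simp only [RingHom.comp_apply, RingHom.id_apply, ResidueField.map_residue]
      exact congrArg (residue W) (RingHom.congr_fun hcomp y).symm

theorem goodExt_of_order {K1 M N : Type u} [Field K1] [Field M] [Field N] (W : ValuationSubring M) (f : K1 →+* M)
    (W1 : ValuationSubring K1) (hW1 : W.comap f = W1) [IsDiscreteValuationRing W1] {σ : Type u} [Finite σ]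
    (fF : FractionRing (MvPolynomial σ K1) →+* M)
    (hfF : ∀ c, fF (algebraMap (MvPolynomial σ K1) _ (C c)) = f c)
    (hG : ∀ z ∈ gaussRing W1 σ (FractionRing (MvPolynomial σ K1)), fF z ∈ W)
    (mM : M →+* N) {E : Type u} [CommRing E] (jE : FractionRing (MvPolynomial σ K1) →+* E) (χ : E →+* N)
    (hχ : ∀ z, χ (jE z) = mM (fF z)) {n : ℕ} (θ : Fin n → E)
    (hθ : ∀ a : Fin n → FractionRing (MvPolynomial σ K1), ∑ l, jE (a l) * θ l = 0 → a = 0)
    {g : MvPolynomial σ W1} (hg : Primitive W1 σ g) (Cm : Fin n → Fin n → Fin n → MvPolynomial σ W1)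
    (U : Fin n → MvPolynomial σ W1)
    (hC : ∀ i j, θ i * θ j = ∑ l, jE (toF W1 σ _ (Cm i j l) / toF W1 σ _ g) * θ l)
    (hU : 1 = ∑ l, jE (toF W1 σ _ (U l) / toF W1 σ _ g) * θ l)
    (hgeo : ∀ (S : Type u) [CommRing S] [Algebra (ResField W1 σ) S] [Algebra (ResidueField W1) S]
      [IsScalarTower (ResidueField W1) (ResField W1 σ) S] (s : Module.Basis (Fin n) (ResField W1 σ) S),
      (∀ i m, algebraMap _ (ResField W1 σ) (MvPolynomial.map (residue W1) g) • (s i * s m) =
        ∑ l, algebraMap _ (ResField W1 σ) (MvPolynomial.map (residue W1) (Cm i m l)) • s l) →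
      Algebra.IsGeometricallyReduced (ResidueField W1) S)
    (hθM : ∀ i, χ (θ i) ∈ mM.range)
    (hgen : ∀ y : M, ∃ a : Fin n → FractionRing (MvPolynomial σ K1), mM y = ∑ l, χ (jE (a l)) * χ (θ l)) :
    GoodExt W f := by
  classical
  subst hW1
  obtain ⟨W1, hW1⟩ : ∃ W1 : ValuationSubring K1, W1 = W.comap f := ⟨_, rfl⟩
  obtain ⟨ϖ, hϖ⟩ := IsDiscreteValuationRing.exists_irreducible (W.comap f)
  have hϖm : maximalIdeal (W.comap f) = Ideal.span {ϖ} := hϖ.maximalIdeal_eq
  let F1 := FractionRing (MvPolynomial σ K1)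
  let G := gaussRing (W.comap f) σ F1
  haveI : IsNoetherianRing G := isNoetherianRing_gauss (W.comap f) σ F1
  letI : Algebra G E := (jE.comp G.subtype).toAlgebra
  have hGE : ∀ (a : G) (y : E), a • y = jE (a : F1) * y := fun a y => rfl
  have hli : LinearIndependent G θ := by
    rw [Fintype.linearIndependent_iff]
    intro a ha l
    exact Subtype.ext (congrFun (hθ (fun l => (a l : F1)) (by simpa only [hGE] using ha)) l)
  let c : Fin n → Fin n → Fin n → G := fun i j l => ⟨_, div_mem (F := F1) (W.comap f) (Cm i j l) hg⟩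
  obtain ⟨T, _, _, _, ε, bT, hbT, hbTmul⟩ := exists_order_of_table θ hli c (fun l => ⟨_, div_mem (F := F1) (W.comap f) (U l) hg⟩)
    (fun i j => by simp only [hGE]; exact hC i j) (by simp only [hGE]; exact hU)
  haveI : IsNoetherianRing T := IsNoetherianRing.of_finite G T
  -- the map to `M`
  have hχG : ∀ a : G, χ (ε (algebraMap G T a)) = mM (fF (a : F1)) := fun a => by
    rw [AlgHom.commutes]; exact hχ a
  have hrange : ∀ t : T, χ (ε t) ∈ mM.range := by
    intro t
    rw [← bT.sum_repr t, map_sum, map_sum]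
    refine Subring.sum_mem _ fun l _ => ?_
    rw [Algebra.smul_def, map_mul, map_mul, hχG, hbT]
    exact Subring.mul_mem _ ⟨_, rfl⟩ (hθM l)
  choose φ0 hφ0 using hrange
  let φ : T →+* M :=
    { toFun := φ0
      map_one' := mM.injective (by rw [hφ0, map_one, map_one, map_one])
      map_mul' := fun a b => mM.injective (by rw [hφ0, map_mul, map_mul, map_mul, hφ0, hφ0])
      map_zero' := mM.injective (by rw [hφ0, map_zero, map_zero, map_zero])
      map_add' := fun a b => mM.injective (by rw [hφ0, map_add, map_add, map_add, hφ0, hφ0]) }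
  have hφ : ∀ t, mM (φ t) = χ (ε t) := hφ0
  have hφG : ∀ a : G, φ (algebraMap G T a) = fF (a : F1) := fun a => mM.injective (by rw [hφ, hχG])
  have hTW : ∀ t, φ t ∈ W := by
    intro t
    obtain ⟨p, hp, hpt⟩ := Algebra.IsIntegral.isIntegral (R := G) t
    have h1 := congrArg φ hpt
    rw [Polynomial.hom_eval₂, map_zero] at h1
    let ψ : G →+* W := (fF.comp G.subtype).codRestrict W.toSubring fun a => hG a a.2
    have h2 : IsIntegral W (φ t) := by
      refine ⟨p.map ψ, hp.map _, ?_⟩
      rw [Polynomial.eval₂_map, ← h1]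
      exact Polynomial.eval₂_congr (RingHom.ext fun a => (hφG a).symm) rfl rfl
    obtain ⟨w, hw⟩ := IsIntegrallyClosed.isIntegral_iff.1 h2
    exact hw ▸ w.2
  let cG : W.comap f →+* G := constG (W.comap f) σ F1
  have hcG : ∀ w : W.comap f, φ (algebraMap G T (cG w)) = f (w : K1) := fun w => by
    rw [hφG, constG_coe, hfF]
  let ρ : T := algebraMap G T (cG ϖ)
  have hρ : φ ρ = f (ϖ : K1) := hcG ϖ
  have hρ0 : φ ρ ≠ 0 := by
    rw [hρ]; exact (map_ne_zero f).2 fun h => hϖ.ne_zero (Subtype.ext h)
  have hρlt : W.valuation (φ ρ) < 1 := by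
    rw [hρ]
    exact (Groth.Agent.H1Ram.comap_valuation_lt_one W f (ϖ : K1)).1
      (((W.comap f).valuation_lt_one_iff ϖ).1 ((mem_maximalIdeal ϖ).2 hϖ.not_isUnit))
  -- the special fibre
  letI algGR : Algebra G (ResField (W.comap f) σ) :=
    (gaussRes (W.comap f) (residue (W.comap f)) (ker_residue (R := W.comap f)) (ResField (W.comap f) σ)).toAlgebra
  have hsurjG : Function.Surjective (algebraMap G (ResField (W.comap f) σ)) :=
    gaussRes_surjective _ _ _ _ residue_surjective
  let S := ResField (W.comap f) σ ⊗[G] T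
  let hS : T →+* S := (Algebra.TensorProduct.includeRight (R := G) (A := ResField (W.comap f) σ)).toRingHom
  have hSsurj : Function.Surjective hS := by
    intro z
    induction z using TensorProduct.induction_on with
    | zero => exact ⟨0, map_zero _⟩
    | tmul a t =>
      obtain ⟨b, rfl⟩ := hsurjG a
      refine ⟨b • t, ?_⟩
      show (1 : ResField (W.comap f) σ) ⊗ₜ[G] (b • t) = _
      rw [← TensorProduct.smul_tmul, ← Algebra.algebraMap_eq_smul_one]
    | add a b ha hb =>
      obtain ⟨s, rfl⟩ := ha; obtain ⟨t, rfl⟩ := hb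
      exact ⟨s + t, map_add _ _ _⟩
  let bS := bT.baseChange (ResField (W.comap f) σ)
  have hSker : ∀ t, hS t = 0 → ρ ∣ t := by
    intro t ht
    have h1 : ∀ l, ρ ∣ algebraMap G T (bT.repr t l) := by
      intro l
      have h2 : bS.repr (hS t) l = 0 := by rw [ht, map_zero, Finsupp.zero_apply]
      change bS.repr ((1 : ResField (W.comap f) σ) ⊗ₜ[G] t) l = 0 at h2
      rw [Module.Basis.baseChange_repr_tmul, ← Algebra.algebraMap_eq_smul_one, RingHom.algebraMap_toAlgebra,
        gaussRes_eq_zero_iff, maximalIdeal_gauss (W.comap f) σ F1 hϖm, Ideal.mem_span_singleton] at h2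
      exact map_dvd _ h2
    rw [← bT.sum_repr t]
    exact Finset.dvd_sum fun l _ => by rw [Algebra.smul_def]; exact (h1 l).mul_right _
  have hsS : ∀ i m, algebraMap _ (ResField (W.comap f) σ) (MvPolynomial.map (residue (W.comap f)) g) • (bS i * bS m) =
      ∑ l, algebraMap _ (ResField (W.comap f) σ) (MvPolynomial.map (residue (W.comap f)) (Cm i m l)) • bS l := by
    intro i m
    simp only [bS, Module.Basis.baseChange_apply, Algebra.TensorProduct.tmul_mul_tmul, one_mul, hbTmul,
      TensorProduct.tmul_sum, Finset.smul_sum]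
    refine Finset.sum_congr rfl fun l _ => ?_
    rw [TensorProduct.tmul_smul, ← algebraMap_smul (ResField (W.comap f) σ) (c i m l), smul_smul]
    congr 1
    rw [RingHom.algebraMap_toAlgebra, gaussRes_eq (W.comap f) _ _ _ hg (p := Cm i m l)
      (div_mul_cancel₀ _ (toF_ne_zero (W.comap f) hg)), red, RingHom.comp_apply, RingHom.comp_apply, mul_div_cancel₀]
    exact (map_ne_zero_iff _ (IsFractionRing.injective _ _)).2 hg
  haveI hgr : Algebra.IsGeometricallyReduced (ResidueField (W.comap f)) S := hgeo S bS hsS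
  haveI : Module.Finite (ResField (W.comap f) σ) S := Module.Finite.of_basis bS
  haveI : IsArtinianRing S := IsArtinianRing.of_finite (ResField (W.comap f) σ) S
  haveI : IsReduced S := Algebra.isReduced_of_isGeometricallyReduced (ResidueField (W.comap f))
  have hvn : ∀ t : T, ∃ u, ρ ∣ t * (1 - t * u) := fun t => by
    obtain ⟨y, hy⟩ := Groth.Agent.H1Ram.exists_sq (hS t)
    obtain ⟨u, rfl⟩ := hSsurj y
    refine ⟨u, hSker _ ?_⟩
    rw [map_mul, map_sub, map_one, map_mul]
    linear_combination hy
  have hunit : ∀ t u, W.valuation (φ t) < 1 → W.valuation (φ (1 - t * u)) = 1 := fun t u ht => by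
    rw [map_sub, map_one, map_mul]
    refine W.valuation.map_one_sub_of_lt ?_
    rw [map_mul]
    exact mul_lt_one_of_lt_of_le ht ((W.valuation_le_one_iff _).2 (hTW u))
  have hfrac : ∀ y : M, ∃ a b, φ b ≠ 0 ∧ y * φ b = φ a := by
    intro y
    obtain ⟨a, ha⟩ := hgen y
    obtain ⟨δ, hδ⟩ := IsLocalization.exist_integer_multiples (nonZeroDivisors G) Finset.univ a
    choose b hb using fun l => hδ l (Finset.mem_univ l)
    refine ⟨∑ l, b l • bT l, algebraMap G T δ, ?_, mM.injective ?_⟩
    · rw [hφG]
      exact (map_ne_zero fF).2 fun h => nonZeroDivisors.coe_ne_zero δ (Subtype.ext h)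
    · rw [map_mul, hφG, ha, map_sum, map_sum, Finset.sum_mul]
      refine Finset.sum_congr rfl fun l _ => ?_
      rw [Algebra.smul_def, map_mul, map_mul, hφ, hφ, hχG, hbT, show ((b l : G) : F1) = ((δ : G) : F1) * a l from hb l,
        map_mul, map_mul]
      simp only [← hχ]
      ring
  obtain ⟨hW, hmax⟩ := Groth.Agent.H1Ram.center_structure φ W hTW (ρ := ρ) hρlt hρ0
    (fun t ht => by
      obtain ⟨u, hu⟩ := hvn t
      exact ⟨1 - t * u, hunit t u ht, by rwa [mul_comm]⟩) hfrac
  letI : Algebra (W.comap f) W := (EtRam.inclOfComap W f).toAlgebra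
  refine ⟨?_, ?_⟩
  · show Ideal.map (EtRam.inclOfComap W f) (maximalIdeal _) = maximalIdeal W
    rw [hϖm, Ideal.map_span, Set.image_singleton]
    refine le_antisymm ((Ideal.span_singleton_le_iff_mem _).2 ?_) fun z hz => ?_
    · refine (W.valuation_lt_one_iff _).2 ?_
      show W.valuation (f (ϖ : K1)) < 1
      rw [← hρ]; exact hρlt
    · obtain ⟨w, hwW, hw⟩ := hmax (z : M) ((W.valuation_lt_one_iff z).1 hz)
      exact Ideal.mem_span_singleton.2 ⟨⟨w, hwW⟩, Subtype.ext (show (z : M) = f (ϖ : K1) * w by rw [hw, hρ])⟩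
  · letI : Algebra (ResidueField (W.comap f)) (ResidueField W) := (ResidueField.map (EtRam.inclOfComap W f)).toAlgebra
    let r : T →+* ResidueField W := (residue W).comp (φ.codRestrict W.toSubring hTW)
    have hrρ : r ρ = 0 := (residue_eq_zero_iff _).2 ((W.valuation_lt_one_iff _).2 hρlt)
    let Φ : S →+* ResidueField W := hS.liftOfSurjective hSsurj ⟨r, fun t ht => by
      obtain ⟨u, rfl⟩ := hSker t (RingHom.mem_ker.1 ht)
      rw [RingHom.mem_ker, map_mul, hrρ, zero_mul]⟩
    have hΦ : ∀ t, Φ (hS t) = r t := fun t => RingHom.liftOfRightInverse_comp_apply _ _ _ _ t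
    have hΦc : ∀ z, Φ (algebraMap (ResidueField (W.comap f)) S z) = algebraMap _ (ResidueField W) z := by
      intro z
      obtain ⟨w, rfl⟩ := residue_surjective z
      have h1 : algebraMap (ResidueField (W.comap f)) S (residue _ w) = hS (algebraMap G T (cG w)) := by
        show algebraMap (ResField (W.comap f) σ) S (algebraMap _ _ (residue _ w)) = (1 : ResField (W.comap f) σ) ⊗ₜ[G] algebraMap G T (cG w)
        rw [Algebra.algebraMap_eq_smul_one (R := G) (A := T), ← TensorProduct.smul_tmul, ← Algebra.algebraMap_eq_smul_one,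
          RingHom.algebraMap_toAlgebra, gaussRes_constG, ← MvPolynomial.algebraMap_eq, ← IsScalarTower.algebraMap_apply,
          Algebra.TensorProduct.algebraMap_apply]
        rfl
      rw [h1, hΦ, RingHom.algebraMap_toAlgebra, ResidueField.map_residue]
      exact congrArg (residue W) (Subtype.ext (hcG w))
    let Φ' : S →ₐ[ResidueField (W.comap f)] ResidueField W := { Φ with commutes' := hΦc }
    refine Groth.Agent.H1Ram.geomReduced_of_surjective (ResidueField (W.comap f)) Φ' fun z => ?_
    obtain ⟨w, rfl⟩ := residue_surjective z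
    obtain ⟨a, s, hs, has⟩ := hW (w : M) w.2
    obtain ⟨y, hy⟩ := Groth.Agent.H1Ram.exists_sq (hS s)
    refine ⟨hS a * y, ?_⟩
    show Φ (hS a * y) = residue W w
    have hrs : r s ≠ 0 := fun h => (((W.valuation_lt_one_iff _).1 ((residue_eq_zero_iff _).1 h))).ne hs
    have h3 : r s * Φ y = 1 := by
      have h4 := congrArg Φ hy
      rw [map_mul, map_mul, hΦ] at h4
      exact mul_left_cancel₀ hrs (by rw [mul_one, ← mul_assoc]; exact h4.symm)
    have hra : residue W w * r s = r a := by
      show residue W w * residue W _ = residue W _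
      rw [← map_mul]
      exact congrArg (residue W) (Subtype.ext has)
    rw [map_mul, hΦ, ← hra, mul_assoc, h3, mul_one]

end Groth.Agent.H1Stab
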