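import Mathlib

/-!
# Valuation rings of algebraic extensions dominating a discrete valuation ring
-/

set_option autoImplicit false

universe u

open IsLocalRing

namespace Groth.Agent.H1Stab

theorem isAlgClosed_residueField {Ω : Type u} [Field Ω] [IsAlgClosed Ω] (O : ValuationSubring Ω) :
    IsAlgClosed (ResidueField O) := by
  refine IsAlgClosed.of_exists_root _ fun p hp hirr => ?_
  obtain ⟨P, hP, hdeg, hPm⟩ := Polynomial.lifts_and_degree_eq_and_monic (f := residue O) (p := p)
    ((Polynomial.lifts_iff_coeff_lifts _).2 fun i => residue_surjective _) hp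
  have hd : (P.map (algebraMap O Ω)).degree ≠ 0 := by
    rw [Polynomial.degree_map_eq_of_injective (FaithfulSMul.algebraMap_injective O Ω), hdeg]
    exact (Polynomial.degree_pos_of_irreducible hirr).ne'
  obtain ⟨z, hz⟩ := IsAlgClosed.exists_root _ hd
  have hzint : IsIntegral O z := ⟨P, hPm, by rw [← Polynomial.eval_map]; exact hz⟩
  obtain ⟨y, hy⟩ := IsIntegrallyClosed.isIntegral_iff.1 hzint
  refine ⟨residue O y, ?_⟩
  have h0 : P.eval y = 0 := FaithfulSMul.algebraMap_injective O Ω (by
    rw [map_zero, ← Polynomial.eval_map_apply, hy]; exact hz)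
  rw [← hP, Polynomial.eval_map_apply, h0, map_zero]

section dvr

variable {A K : Type u} [CommRing A] [IsDomain A] [IsDiscreteValuationRing A] [Field K] [Algebra A K]
  [IsFractionRing A K] {E : Type u} [Field E] [Algebra K E] [Algebra A E] [IsScalarTower A K E]

theorem valuation_algebraMap_unit (V : ValuationSubring E) (hA : ∀ a : A, algebraMap A E a ∈ V) (u : Aˣ) :
    V.valuation (algebraMap A E u) = 1 := by
  refine le_antisymm ((V.valuation_le_one_iff _).2 (hA _)) ?_
  have h : V.valuation (algebraMap A E u) * V.valuation (algebraMap A E (↑u⁻¹ : A)) = 1 := by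
    rw [← map_mul, ← map_mul, u.mul_inv, map_one, map_one]
  calc (1 : V.ValueGroup) = _ := h.symm
    _ ≤ V.valuation (algebraMap A E u) * 1 := by
        gcongr
        exact (V.valuation_le_one_iff _).2 (hA _)
    _ = _ := mul_one _

/-- The valuation of a nonzero algebraic element is rationally a power of that of the uniformiser. -/
theorem exists_zpow_eq [Algebra.IsAlgebraic K E] (V : ValuationSubring E) (hA : ∀ a : A, algebraMap A E a ∈ V)
    {π : A} (hπ : Irreducible π) {x : E} (hx : x ≠ 0) :
    ∃ b : ℕ, 0 < b ∧ ∃ a : ℤ, V.valuation x ^ b = V.valuation (algebraMap A E π) ^ a := by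
  classical
  obtain ⟨p, hp0, hp⟩ := Algebra.IsAlgebraic.isAlgebraic (R := K) x
  have hne : p.support.Nonempty := Polynomial.nonempty_support_iff.2 hp0
  let f : ℕ → E := fun i => algebraMap K E (p.coeff i) * x ^ i
  obtain ⟨i, hi, hmax⟩ := p.support.exists_max_image (fun i => V.valuation (f i)) hne
  have hfi : ∀ j ∈ p.support, f j ≠ 0 := fun j hj =>
    mul_ne_zero ((_root_.map_ne_zero _).2 (Polynomial.mem_support_iff.1 hj)) (pow_ne_zero _ hx)
  obtain ⟨j, hj, hji, heq⟩ : ∃ j ∈ p.support, j ≠ i ∧ V.valuation (f j) = V.valuation (f i) := by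
    by_contra hno
    push Not at hno
    have h1 : ∀ j ∈ p.support.erase i, V.valuation (f j) < V.valuation (f i) := fun j hj =>
      lt_of_le_of_ne (hmax j (Finset.mem_of_mem_erase hj))
        (hno j (Finset.mem_of_mem_erase hj) (Finset.ne_of_mem_erase hj))
    have h2 : V.valuation (∑ j ∈ p.support.erase i, f j) < V.valuation (f i) :=
      V.valuation.map_sum_lt ((V.valuation.ne_zero_iff).2 (hfi i hi)) h1
    have h3 : f i + ∑ j ∈ p.support.erase i, f j = 0 := by
      rw [Finset.add_sum_erase _ _ hi, ← hp, Polynomial.aeval_def, Polynomial.eval₂_eq_sum, Polynomial.sum_def]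
    have h4 := V.valuation.map_add_eq_of_lt_left h2
    rw [h3, map_zero] at h4
    exact (V.valuation.ne_zero_iff).2 (hfi i hi) h4.symm
  have hπ0 : V.valuation (algebraMap A E π) ≠ 0 := (V.valuation.ne_zero_iff).2 fun h => hπ.ne_zero (by
    rw [IsScalarTower.algebraMap_apply A K E] at h
    exact IsFractionRing.injective A K (((algebraMap K E).injective (h.trans (map_zero _).symm)).trans (map_zero _).symm))
  have hK : ∀ c : K, c ≠ 0 → ∃ n : ℤ, V.valuation (algebraMap K E c) = V.valuation (algebraMap A E π) ^ n := by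
    intro c hc
    obtain ⟨a, s, hs, rfl⟩ := IsFractionRing.div_surjective (A := A) c
    have ha : a ≠ 0 := fun h => hc (by rw [h, map_zero, zero_div])
    obtain ⟨n, u, hu⟩ := IsDiscreteValuationRing.eq_unit_mul_pow_irreducible ha hπ
    obtain ⟨m, w, hw⟩ := IsDiscreteValuationRing.eq_unit_mul_pow_irreducible (nonZeroDivisors.ne_zero hs) hπ
    refine ⟨(n : ℤ) - m, ?_⟩
    rw [map_div₀, ← IsScalarTower.algebraMap_apply, ← IsScalarTower.algebraMap_apply, map_div₀, hu, hw,
      map_mul, map_mul, map_mul, map_mul, map_pow, map_pow, map_pow, map_pow, valuation_algebraMap_unit V hA,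
      valuation_algebraMap_unit V hA, one_mul, one_mul, zpow_sub₀ hπ0, zpow_natCast, zpow_natCast]
  have key : ∀ i j : ℕ, i < j → i ∈ p.support → j ∈ p.support → V.valuation (f i) = V.valuation (f j) →
      ∃ b : ℕ, 0 < b ∧ ∃ a : ℤ, V.valuation x ^ b = V.valuation (algebraMap A E π) ^ a := by
    intro i j hij hi hj heq
    obtain ⟨n, hn⟩ := hK _ (Polynomial.mem_support_iff.1 hi)
    obtain ⟨m, hm⟩ := hK _ (Polynomial.mem_support_iff.1 hj)
    refine ⟨j - i, Nat.sub_pos_of_lt hij, n - m, ?_⟩
    simp only [f, map_mul, map_pow, hn, hm] at heq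
    have hxi : V.valuation x ^ i ≠ 0 := pow_ne_zero _ ((V.valuation.ne_zero_iff).2 hx)
    rw [zpow_sub₀ hπ0, eq_div_iff (zpow_ne_zero _ hπ0)]
    refine mul_right_cancel₀ hxi ?_
    rw [heq, mul_right_comm, ← pow_add, Nat.sub_add_cancel hij.le, mul_comm]
  rcases lt_or_gt_of_ne hji with h | h
  · exact key j i h hj hi heq
  · exact key i j h hi hj heq.symm

/-- A real absolute value attached to a valuation ring of an algebraic extension of a discretely valued field. -/
theorem exists_absoluteValue [Algebra.IsAlgebraic K E] (V : ValuationSubring E) (hA : ∀ a : A, algebraMap A E a ∈ V)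
    (hm : ∀ a ∈ maximalIdeal A, V.valuation (algebraMap A E a) < 1) :
    ∃ v : AbsoluteValue E ℝ, IsNonarchimedean v ∧ ∀ x, v x ≤ 1 ↔ x ∈ V := by
  classical
  obtain ⟨π, hπ⟩ := IsDiscreteValuationRing.exists_irreducible A
  have hπ1 : V.valuation (algebraMap A E π) < 1 := hm π ((mem_maximalIdeal _).2 hπ.not_isUnit)
  have hπ0 : V.valuation (algebraMap A E π) ≠ 0 := (V.valuation.ne_zero_iff).2 fun h => hπ.ne_zero (by
    rw [IsScalarTower.algebraMap_apply A K E] at h
    exact IsFractionRing.injective A K (((algebraMap K E).injective (h.trans (map_zero _).symm)).trans (map_zero _).symm))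
  have hanti : StrictAnti fun n : ℤ => V.valuation (algebraMap A E π) ^ n :=
    zpow_right_strictAnti₀ (zero_lt_iff.2 hπ0) hπ1
  choose! b hb a hab using fun x (hx : x ≠ (0 : E)) => exists_zpow_eq (K := K) V hA hπ hx
  have huniq : ∀ x ≠ (0 : E), ∀ (b' : ℕ) (a' : ℤ), 0 < b' →
      V.valuation x ^ b' = V.valuation (algebraMap A E π) ^ a' → (a' : ℝ) / b' = (a x : ℝ) / b x := by
    intro x hx b' a' hb' h
    have h1 : a' * (b x : ℤ) = a x * (b' : ℤ) := hanti.injective (by
      simp only [zpow_mul, zpow_natCast]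
      rw [← h, ← hab x hx, ← pow_mul, ← pow_mul, mul_comm])
    rw [div_eq_div_iff (Nat.cast_ne_zero.2 hb'.ne') (Nat.cast_ne_zero.2 (hb x hx).ne')]
    exact_mod_cast h1
  let ρ : E → ℝ := fun x => (a x : ℝ) / b x
  have hρ : ∀ x y, x ≠ 0 → y ≠ 0 → ρ (x * y) = ρ x + ρ y := fun x y hx hy => by
    have h := huniq (x * y) (mul_ne_zero hx hy) (b x * b y) (a x * b y + a y * b x) (Nat.mul_pos (hb x hx) (hb y hy)) (by
      rw [map_mul, mul_pow, pow_mul, hab x hx, mul_comm (b x), pow_mul, hab y hy, ← zpow_natCast, ← zpow_natCast,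
        ← zpow_mul, ← zpow_mul, ← zpow_add₀ hπ0])
    rw [show ρ (x * y) = _ from h.symm]
    push_cast
    simp only [ρ]
    field_simp [Nat.cast_ne_zero.2 (hb x hx).ne', Nat.cast_ne_zero.2 (hb y hy).ne']
  have hρle : ∀ x ≠ 0, 0 ≤ ρ x ↔ x ∈ V := fun x hx => by
    rw [← V.valuation_le_one_iff, ← pow_le_one_iff (hb x hx).ne', hab x hx, ← zpow_zero (V.valuation (algebraMap A E π)),
      hanti.le_iff_ge]
    simp only [ρ]
    rw [le_div_iff₀ (Nat.cast_pos.2 (hb x hx)), zero_mul]
    exact Int.cast_nonneg_iff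
  let w : E → ℝ := fun x => if x = 0 then 0 else (2 : ℝ) ^ (-ρ x)
  have hw0 : ∀ x, 0 ≤ w x := fun x => by simp only [w]; split_ifs <;> positivity
  have hwmul : ∀ x y, w (x * y) = w x * w y := fun x y => by
    by_cases hx : x = 0
    · simp [w, hx]
    by_cases hy : y = 0
    · simp [w, hy]
    simp only [w, if_neg hx, if_neg hy, if_neg (mul_ne_zero hx hy), hρ x y hx hy, neg_add]
    exact Real.rpow_add two_pos _ _
  have hweq : ∀ x, w x = 0 ↔ x = 0 := fun x => ⟨fun h => by
    by_contra hx
    simp only [w, if_neg hx] at h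
    exact (Real.rpow_pos_of_pos two_pos _).ne' h, fun h => if_pos h⟩
  have hwle : ∀ x, w x ≤ 1 ↔ x ∈ V := fun x => by
    by_cases hx : x = 0
    · simp [w, hx]
    simp only [w, if_neg hx]
    rw [← Real.rpow_zero 2, Real.rpow_le_rpow_left_iff one_lt_two, neg_nonpos]
    exact hρle x hx
  have hadd1 : ∀ x y, y ≠ 0 → w x ≤ w y → w (x + y) ≤ w y := by
    intro x y hy h
    have hy' : 0 < w y := lt_of_le_of_ne (hw0 y) fun h0 => hy ((hweq y).1 h0.symm)
    have h1 : x / y ∈ V := (hwle _).1 (by
      have h2 : w (x / y) * w y = w x := by rw [← hwmul, div_mul_cancel₀ x hy]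
      exact le_of_mul_le_mul_right (by rw [h2, one_mul]; exact h) hy')
    rw [show x + y = (x / y + 1) * y by rw [add_mul, div_mul_cancel₀ x hy, one_mul], hwmul]
    exact mul_le_of_le_one_left (hw0 y) ((hwle _).2 (add_mem h1 (one_mem V)))
  have hna : ∀ x y, w (x + y) ≤ max (w x) (w y) := by
    intro x y
    by_cases hx : x = 0
    · rw [hx, zero_add]; exact le_max_right _ _
    by_cases hy : y = 0
    · rw [hy, add_zero]; exact le_max_left _ _
    rcases le_total (w x) (w y) with h | h
    · exact (hadd1 x y hy h).trans (le_max_right _ _)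
    · rw [add_comm]; exact (hadd1 y x hx h).trans (le_max_left _ _)
  exact ⟨{ toFun := w, map_mul' := hwmul, nonneg' := hw0, eq_zero' := hweq,
            add_le' := fun x y => (hna x y).trans (max_le_add_of_nonneg (hw0 x) (hw0 y)) }, hna, hwle⟩

/-- Dominating valuation rings are determined by their centres on the integral closure. -/
theorem le_of_centre_le [Algebra.IsAlgebraic K E] (V V' : ValuationSubring E) (hA : ∀ a : A, algebraMap A E a ∈ V)
    (hm : ∀ a ∈ maximalIdeal A, V.valuation (algebraMap A E a) < 1) (hA' : ∀ a : A, algebraMap A E a ∈ V')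
    (hc : ∀ t : E, IsIntegral A t → V'.valuation t < 1 → V.valuation t < 1) : V ≤ V' := by
  classical
  intro x hxV
  have halg : IsAlgebraic A x := (IsFractionRing.isAlgebraic_iff A K E).2 (Algebra.IsAlgebraic.isAlgebraic x)
  obtain ⟨p, hp0, hp⟩ := halg
  obtain ⟨π, hπ⟩ := IsDiscreteValuationRing.exists_irreducible A
  -- make the relation primitive
  obtain ⟨q, hq, j, hj⟩ : ∃ q : Polynomial A, Polynomial.aeval x q = 0 ∧ ∃ j, IsUnit (q.coeff j) := by
    obtain ⟨i, hi, hmin⟩ := p.support.exists_min_image (fun i => IsDiscreteValuationRing.addVal A (p.coeff i))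
      (Polynomial.nonempty_support_iff.2 hp0)
    have hi0 : p.coeff i ≠ 0 := Polynomial.mem_support_iff.1 hi
    have hdvd : Polynomial.C (p.coeff i) ∣ p := by
      rw [Polynomial.C_dvd_iff_dvd_coeff]
      intro k
      by_cases hk : k ∈ p.support
      · exact IsDiscreteValuationRing.addVal_le_iff_dvd.1 (hmin k hk)
      · rw [Polynomial.notMem_support_iff.1 hk]; exact dvd_zero _
    obtain ⟨q, hq⟩ := hdvd
    refine ⟨q, ?_, i, ?_⟩
    · rw [hq, map_mul, Polynomial.aeval_C, mul_eq_zero] at hp
      refine hp.resolve_left fun h => hi0 ?_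
      rw [IsScalarTower.algebraMap_apply A K E, map_eq_zero] at h
      exact IsFractionRing.injective A K (h.trans (map_zero _).symm)
    · have := congrArg (fun r => r.coeff i) hq
      simp only [Polynomial.coeff_C_mul] at this
      exact isUnit_iff_exists_inv.2 ⟨1, by rw [mul_one]; exact mul_left_cancel₀ hi0 (this.symm.trans (mul_one _).symm)⟩ -- (mul_left_cancel₀ hi0 (this.symm.trans (mul_one _).symm))
  let J := (Finset.range (q.natDegree + 1)).filter fun k => IsUnit (q.coeff k)
  have hjJ : j ∈ J := Finset.mem_filter.2 ⟨Finset.mem_range.2 (Nat.lt_succ_of_le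
    (Polynomial.le_natDegree_of_ne_zero hj.ne_zero)), hj⟩
  let m := J.max' ⟨j, hjJ⟩
  have hmJ : IsUnit (q.coeff m) := (Finset.mem_filter.1 (J.max'_mem ⟨j, hjJ⟩)).2
  have hgt : ∀ k, m < k → q.coeff k ∈ maximalIdeal A := fun k hk => (mem_maximalIdeal _).2 fun hu =>
    absurd (J.le_max' k (Finset.mem_filter.2 ⟨Finset.mem_range.2 (Nat.lt_succ_of_le
      (Polynomial.le_natDegree_of_ne_zero hu.ne_zero)), hu⟩)) (not_le.2 hk)
  obtain ⟨N, hN⟩ : ∃ N, N = q.natDegree + 1 := ⟨_, rfl⟩
  let t : E := ∑ k ∈ Finset.range N, if m ≤ k then algebraMap A E (q.coeff k) * x ^ (k - m) else 0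
  have hsum : ∑ k ∈ Finset.range N, algebraMap A E (q.coeff k) * x ^ k = 0 := by
    rw [hN, ← hq, Polynomial.aeval_eq_sum_range]
    simp only [Algebra.smul_def]
  have hint : ∀ W : ValuationSubring E, (∀ a : A, algebraMap A E a ∈ W) → t ∈ W ∧ t * x ∈ W := by
    intro W hW
    rcases W.mem_or_inv_mem x with hx | hx
    · have ht : t ∈ W := sum_mem fun k _ => by
        split_ifs
        exacts [mul_mem (hW _) (pow_mem hx _), zero_mem _]
      exact ⟨ht, mul_mem ht hx⟩
    · by_cases hx0 : x = 0
      · subst hx0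
        exact ⟨sum_mem fun k _ => by
          split_ifs
          exacts [mul_mem (hW _) (pow_mem (zero_mem _) _), zero_mem _], by rw [mul_zero]; exact zero_mem _⟩
      let s : E := ∑ k ∈ Finset.range N, if m ≤ k then 0 else algebraMap A E (q.coeff k) * x⁻¹ ^ (m - k)
      let s' : E := ∑ k ∈ Finset.range N, if m ≤ k then 0 else algebraMap A E (q.coeff k) * x⁻¹ ^ (m - k - 1)
      have hts : x ^ m * t + x ^ m * s = 0 := by
        rw [← hsum, ← mul_add, ← Finset.sum_add_distrib, Finset.mul_sum]
        refine Finset.sum_congr rfl fun k _ => ?_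
        split_ifs with h
        · rw [add_zero, mul_left_comm, ← pow_add, Nat.add_sub_cancel' h]
        · rw [zero_add, mul_left_comm, inv_pow, ← pow_sub₀ x hx0 (Nat.sub_le m k), Nat.sub_sub_self (le_of_not_ge h)]
      rw [← mul_add, mul_eq_zero] at hts
      have hts' : t = -s := eq_neg_of_add_eq_zero_left (hts.resolve_left (pow_ne_zero _ hx0))
      refine ⟨?_, ?_⟩
      · rw [hts']
        exact neg_mem (sum_mem fun k _ => by
          split_ifs
          exacts [zero_mem _, mul_mem (hW _) (pow_mem hx _)])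
      · have : s * x = s' := by
          rw [Finset.sum_mul]
          refine Finset.sum_congr rfl fun k _ => ?_
          split_ifs with h
          · rw [zero_mul]
          · rw [mul_assoc]
            congr 1
            obtain ⟨e, he⟩ := Nat.exists_eq_add_of_lt (not_le.1 h)
            rw [show m - k = e + 1 by omega, pow_succ, mul_assoc, inv_mul_cancel₀ hx0, mul_one]
            simp
        rw [hts', neg_mul, this]
        exact neg_mem (sum_mem fun k _ => by
          split_ifs
          exacts [zero_mem _, mul_mem (hW _) (pow_mem hx _)])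
  have hI : ∀ y : E, (∀ W : ValuationSubring E, (∀ a : A, algebraMap A E a ∈ W) → y ∈ W) → IsIntegral A y := by
    intro y hy
    by_contra hni
    haveI : IsIntegrallyClosedIn (integralClosure A E).toSubring E :=
      Subring.isIntegrallyClosedIn_iff.2 fun {z} hz =>
        by
          haveI : Algebra.IsIntegral A (integralClosure A E) := IsIntegralClosure.isIntegral_algebra A E
          exact isIntegral_trans (R := A) (A := integralClosure A E) z hz
    obtain ⟨W, hW, hyW⟩ := Subring.exists_le_valuationSubring_of_isIntegrallyClosedIn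
      (R := (integralClosure A E).toSubring) (x := y) hni
    exact hyW (hy W fun a => hW (Subalgebra.algebraMap_mem _ a))
  have hti : IsIntegral A t := hI t fun W hW => (hint W hW).1
  have hmN : m ∈ Finset.range N := hN ▸ (Finset.mem_filter.1 (J.max'_mem ⟨j, hjJ⟩)).1
  have hVt : V.valuation t = 1 := by
    have hlead : V.valuation (algebraMap A E (q.coeff m)) = 1 := valuation_algebraMap_unit V hA hmJ.unit
    have ht : t = algebraMap A E (q.coeff m) +
        ∑ k ∈ (Finset.range N).erase m, if m ≤ k then algebraMap A E (q.coeff k) * x ^ (k - m) else 0 := by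
      show ∑ k ∈ Finset.range N, _ = _
      rw [← Finset.add_sum_erase _ _ hmN, if_pos le_rfl, Nat.sub_self, pow_zero, mul_one]
    rw [ht, ← hlead]
    refine V.valuation.map_add_eq_of_lt_left ?_
    rw [hlead]
    refine V.valuation.map_sum_lt one_ne_zero fun k hk => ?_
    split_ifs with h
    · rw [map_mul, map_pow]
      exact mul_lt_one_of_lt_of_le (hm _ (hgt k (lt_of_le_of_ne h (Finset.ne_of_mem_erase hk).symm)))
        (pow_le_one₀ zero_le ((V.valuation_le_one_iff x).2 hxV))
    · rw [map_zero]; exact zero_lt_one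
  obtain ⟨ht', htx'⟩ := hint V' hA'
  have hV't : V'.valuation t = 1 := le_antisymm ((V'.valuation_le_one_iff t).2 ht') (not_lt.1 fun h =>
    (hc t hti h).ne hVt)
  rw [← V'.valuation_le_one_iff] at htx' ⊢
  rwa [map_mul, hV't, one_mul] at htx'

/-- Valuation rings of a normal extension dominating the discrete valuation ring are conjugate. -/
theorem exists_conjugate [Module.Finite K E] [Normal K E] (V W : ValuationSubring E)
    (hA : ∀ a : A, algebraMap A E a ∈ V) (hm : ∀ a ∈ maximalIdeal A, V.valuation (algebraMap A E a) < 1)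
    (hA' : ∀ a : A, algebraMap A E a ∈ W) (hm' : ∀ a ∈ maximalIdeal A, W.valuation (algebraMap A E a) < 1) :
    ∃ σ : E ≃ₐ[K] E, W.comap σ.toRingEquiv.toRingHom = V := by
  classical
  let C := integralClosure A E
  have hCmem : ∀ (U : ValuationSubring E), (∀ a : A, algebraMap A E a ∈ U) → ∀ c : C, (c : E) ∈ U := by
    intro U hU c
    letI : Algebra A U := ((algebraMap A E).codRestrict U.toSubring hU).toAlgebra
    haveI : IsScalarTower A U E := IsScalarTower.of_algebraMap_eq fun _ => rfl
    obtain ⟨y, hy⟩ := IsIntegrallyClosed.isIntegral_iff.1 (c.2.tower_top (A := U))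
    exact hy ▸ y.2
  let cen : ∀ (U : ValuationSubring E), (∀ a : A, algebraMap A E a ∈ U) → Ideal C := fun U hU =>
    (maximalIdeal U).comap (C.val.toRingHom.codRestrict U.toSubring (hCmem U hU))
  have hcen : ∀ (U : ValuationSubring E) (hU : ∀ a : A, algebraMap A E a ∈ U) (c : C),
      c ∈ cen U hU ↔ U.valuation (c : E) < 1 := fun U hU c =>
    U.valuation_lt_one_iff (C.val.toRingHom.codRestrict U.toSubring (hCmem U hU) c)
  have hσA : ∀ (σ : E ≃ₐ[K] E) (a : A), σ (algebraMap A E a) = algebraMap A E a := fun σ a => by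
    rw [IsScalarTower.algebraMap_apply A K E, AlgEquiv.commutes]
  have hint : ∀ (σ : E ≃ₐ[K] E) {z : E}, IsIntegral A z → IsIntegral A (σ z) := fun σ z hz =>
    hz.map (σ.toAlgHom.restrictScalars A)
  let act : ∀ σ : E ≃ₐ[K] E, C →+* C := fun σ =>
    (σ.toRingEquiv.toRingHom.comp C.val.toRingHom).codRestrict C.toSubring fun c => hint σ c.2
  have hsub : (cen V hA : Set C) ⊆ ⋃ σ ∈ (Finset.univ : Finset (E ≃ₐ[K] E)), ((cen W hA').comap (act σ) : Set C) := by
    intro c hc
    by_contra hno
    simp only [Set.mem_iUnion, SetLike.mem_coe, Ideal.mem_comap, not_exists, Finset.mem_univ, forall_true_left] at hno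
    obtain ⟨z, hz⟩ : ∃ z, z = ∏ σ : E ≃ₐ[K] E, σ (c : E) := ⟨_, rfl⟩
    have hfix : ∀ τ : E ≃ₐ[K] E, τ z = z := fun τ => by
      rw [hz, map_prod]
      exact Fintype.prod_equiv (Equiv.mulLeft τ) _ _ fun σ => rfl
    obtain ⟨q, hq⟩ := ExpChar.exists K
    have hzi : IsIntegral K z := IsIntegral.of_finite K z
    have hsep : (minpoly K z).natSepDegree = 1 := by
      rw [Polynomial.natSepDegree_eq_of_splits (E := E) _ (Normal.splits inferInstance z), Finset.card_eq_one]
      refine ⟨z, Finset.eq_singleton_iff_unique_mem.2 ⟨?_, fun y hy => ?_⟩⟩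
      · rw [Multiset.mem_toFinset, Polynomial.mem_aroots]
        exact ⟨minpoly.ne_zero hzi, minpoly.aeval K z⟩
      · rw [Multiset.mem_toFinset, Polynomial.mem_aroots] at hy
        have hy' : minpoly K y = minpoly K z :=
          (minpoly.eq_of_irreducible_of_monic (minpoly.irreducible hzi) hy.2 (minpoly.monic hzi)).symm
        obtain ⟨τ, hτ⟩ := MulAction.mem_orbit_iff.1 (Normal.minpoly_eq_iff_mem_orbit (E := E) |>.1 hy')
        rw [← hτ]
        exact hfix τ
    obtain ⟨e, k, hk'⟩ := (minpoly.natSepDegree_eq_one_iff_pow_mem q).1 hsep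
    have hzint : IsIntegral A z := hz ▸ IsIntegral.prod _ fun σ _ => hint σ c.2
    have hki : IsIntegral A k := by
      have := hzint.pow (q ^ e)
      rw [← hk', isIntegral_algebraMap_iff (algebraMap K E).injective] at this
      exact this
    obtain ⟨a, ha⟩ := IsIntegrallyClosed.isIntegral_iff.1 hki
    have haE : algebraMap A E a = z ^ (q ^ e) := by rw [IsScalarTower.algebraMap_apply A K E, ha, hk']
    have hqe : q ^ e ≠ 0 := pow_ne_zero _ (expChar_pos K q).ne'
    have hW1 : W.valuation z = 1 := by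
      rw [hz, map_prod]
      refine Finset.prod_eq_one fun σ _ => le_antisymm ((W.valuation_le_one_iff _).2 (hCmem W hA' ⟨_, hint σ c.2⟩))
        (not_lt.1 fun h => hno σ ((hcen W hA' (act σ c)).2 h))
    have hVz : V.valuation (z ^ (q ^ e)) < 1 := by
      rw [map_pow]
      refine pow_lt_one₀ zero_le ?_ hqe
      rw [hz, ← Finset.mul_prod_erase _ _ (Finset.mem_univ (1 : E ≃ₐ[K] E)), map_mul, map_prod]
      refine mul_lt_one_of_lt_of_le ((hcen V hA c).1 hc) (Finset.prod_le_one' fun σ _ => ?_)
      exact (V.valuation_le_one_iff _).2 (hCmem V hA ⟨_, hint σ c.2⟩)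
    have hamax : a ∈ maximalIdeal A := (mem_maximalIdeal _).2 fun hu => hVz.ne (by
      rw [← haE]; exact valuation_algebraMap_unit V hA hu.unit)
    have := hm' a hamax
    rw [haE, map_pow, hW1, one_pow] at this
    exact lt_irrefl _ this
  haveI hcp : ∀ U hU, (cen U hU).IsPrime := fun U hU => Ideal.IsPrime.comap _
  obtain ⟨σ, -, hle⟩ := (Ideal.subset_union_prime (1 : E ≃ₐ[K] E) 1 fun σ _ _ _ => Ideal.IsPrime.comap _).1 hsub
  have hunder : ∀ (U : ValuationSubring E) (hU : ∀ a : A, algebraMap A E a ∈ U),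
      (∀ a ∈ maximalIdeal A, U.valuation (algebraMap A E a) < 1) → (cen U hU).comap (algebraMap A C) = maximalIdeal A :=
    fun U hU h => ((maximalIdeal.isMaximal A).eq_of_le (Ideal.IsPrime.comap (K := cen U hU) (algebraMap A C)).ne_top
      fun a ha => (hcen U hU (algebraMap A C a)).2 (h a ha)).symm
  haveI : Algebra.IsIntegral A C := IsIntegralClosure.isIntegral_algebra A E
  haveI : (cen V hA).IsMaximal := Ideal.isMaximal_of_isIntegral_of_isMaximal_comap _
    (by rw [hunder V hA hm]; exact maximalIdeal.isMaximal A)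
  have heq : cen V hA = (cen W hA').comap (act σ) :=
    Ideal.IsMaximal.eq_of_le ‹_› (Ideal.IsPrime.comap _).ne_top hle
  haveI : Algebra.IsAlgebraic K E := Algebra.IsAlgebraic.of_finite K E
  have hAσ : ∀ a : A, algebraMap A E a ∈ W.comap σ.toRingEquiv.toRingHom := fun a => by
    show σ (algebraMap A E a) ∈ W
    rw [hσA]; exact hA' a
  have hval : ∀ t : E, (W.comap σ.toRingEquiv.toRingHom).valuation t < 1 ↔ W.valuation (σ t) < 1 := by
    intro t
    rw [← ValuationSubring.mem_nonunits_iff, ← ValuationSubring.mem_nonunits_iff,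
      ValuationSubring.mem_nonunits_iff_exists_mem_maximalIdeal, ValuationSubring.mem_nonunits_iff_exists_mem_maximalIdeal]
    refine ⟨fun ⟨ht, hmem⟩ => ⟨ht, fun hu => hmem ?_⟩, fun ⟨ht, hmem⟩ => ⟨ht, fun hu => hmem ?_⟩⟩
    · obtain ⟨w, hw⟩ := hu.exists_right_inv
      refine isUnit_iff_exists_inv.2 ⟨⟨σ.symm w, by show σ (σ.symm w) ∈ W; rw [σ.apply_symm_apply]; exact w.2⟩, Subtype.ext ?_⟩
      show t * σ.symm w = 1
      refine σ.injective ?_
      rw [map_mul, σ.apply_symm_apply, map_one]
      exact congrArg Subtype.val hw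
    · obtain ⟨w, hw⟩ := hu.exists_right_inv
      refine isUnit_iff_exists_inv.2 ⟨⟨σ w, w.2⟩, Subtype.ext ?_⟩
      show σ t * σ w = 1
      rw [← map_mul, show t * (w : E) = 1 from congrArg Subtype.val hw, map_one]
  have hmσ : ∀ a ∈ maximalIdeal A, (W.comap σ.toRingEquiv.toRingHom).valuation (algebraMap A E a) < 1 := fun a ha => by
    rw [hval, hσA]; exact hm' a ha
  refine ⟨σ, le_antisymm (le_of_centre_le (K := K) _ V hAσ hmσ hA fun t ht h => ?_)
    (le_of_centre_le (K := K) V _ hA hm hAσ fun t ht h => ?_)⟩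
  · have h1 : (⟨t, ht⟩ : C) ∈ cen V hA := (hcen V hA _).2 h
    rw [heq] at h1
    exact (hval t).2 ((hcen W hA' _).1 h1)
  · refine (hcen V hA ⟨t, ht⟩).1 ?_
    rw [heq]
    exact (hcen W hA' (act σ ⟨t, ht⟩)).2 ((hval t).1 h)

end dvr

end Groth.Agent.H1Stab
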