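import Groth.Agent.H1Stab.Gauss
import Mathlib

/-!
# Structure tables and their transport
-/

set_option autoImplicit false

universe u

open MvPolynomial

namespace Groth.Agent.H1Stab

theorem mul_expand {F E : Type*} [CommRing F] [CommRing E] [Algebra F E] {n : ℕ} (e : Fin n → E)
    (τ : Fin n → Fin n → Fin n → F) (he : ∀ i j, e i * e j = ∑ r, τ i j r • e r) (a b : Fin n → F) :
    (∑ i, a i • e i) * (∑ j, b j • e j) = ∑ r, (∑ i, ∑ j, a i * b j * τ i j r) • e r := by
  simp only [Finset.sum_mul, Finset.mul_sum, smul_mul_smul_comm, he, Finset.smul_sum, smul_smul, Finset.sum_smul]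
  rw [Finset.sum_comm]
  symm
  rw [Finset.sum_comm]
  refine Finset.sum_congr rfl fun i _ => ?_
  rw [Finset.sum_comm]

theorem comb_comb {F E : Type*} [CommRing F] [AddCommGroup E] [Module F E] {n : ℕ} (e : Fin n → E)
    (a : Fin n → F) (M : Fin n → Fin n → F) :
    ∑ l, a l • (∑ r, M l r • e r) = ∑ r, (∑ l, a l * M l r) • e r := by
  simp only [Finset.smul_sum, smul_smul, Finset.sum_smul]
  rw [Finset.sum_comm]

/-- Transporting a basis change with denominators between two algebras with the same structure table. -/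
theorem transport {R F F' E E' : Type*} [CommRing R] [Field F] [Field F'] [CommRing E] [CommRing E']
    [Algebra F E] [Algebra F' E'] {f : R →+* F} (hf : Function.Injective f) (f' : R →+* F') {n : ℕ}
    (τ : Fin n → Fin n → Fin n → R) (o : Fin n → R) (d : R)
    (e : Module.Basis (Fin n) F E) (e' : Module.Basis (Fin n) F' E')
    (he : ∀ i j, e i * e j = ∑ r, f (τ i j r) • e r) (ho : f d • (1 : E) = ∑ r, f (o r) • e r)
    (he' : ∀ i j, e' i * e' j = ∑ r, f' (τ i j r) • e' r) (ho' : f' d • (1 : E') = ∑ r, f' (o r) • e' r)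
    (hd' : f' d ≠ 0)
    (P Q : Fin n → Fin n → R) (C : Fin n → Fin n → Fin n → R) (U : Fin n → R) {g : R} (hg : g ≠ 0) (hg' : f' g ≠ 0)
    (θ : Fin n → E) (hθ : ∀ i, θ i = ∑ l, (f (P i l) / f g) • e l)
    (hC : ∀ i j, θ i * θ j = ∑ l, (f (C i j l) / f g) • θ l) (hU : 1 = ∑ l, (f (U l) / f g) • θ l)
    (hQ : ∀ i, e i = ∑ l, (f (Q i l) / f g) • θ l) :
    ∃ θ' : Fin n → E', (∀ i, θ' i = ∑ l, (f' (P i l) / f' g) • e' l) ∧
      (∀ i j, θ' i * θ' j = ∑ l, (f' (C i j l) / f' g) • θ' l) ∧ (1 = ∑ l, (f' (U l) / f' g) • θ' l) ∧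
      (∀ i, e' i = ∑ l, (f' (Q i l) / f' g) • θ' l) ∧ LinearIndependent F' θ' := by
  classical
  have hfg : f g ≠ 0 := (map_ne_zero_iff _ hf).2 hg
  -- the polynomial identities
  have hCR : ∀ i j r, ∑ l, ∑ m, P i l * P j m * τ l m r = ∑ l, C i j l * P l r := by
    intro i j r
    refine hf ?_
    have h := hC i j
    rw [hθ, hθ, mul_expand e (fun a b c => f (τ a b c)) he] at h
    simp only [hθ] at h
    rw [comb_comb e _ (fun l r => f (P l r) / f g)] at h
    have h1 := Fintype.linearIndependent_iffₛ.1 e.linearIndependent _ _ h r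
    simp only [map_sum, map_mul]
    simp only [div_mul_div_comm] at h1
    simp only [div_mul_eq_mul_div, ← Finset.sum_div] at h1
    rwa [div_left_inj' (mul_ne_zero hfg hfg)] at h1
  have hUR : ∀ r, d * ∑ l, U l * P l r = g * g * o r := by
    intro r
    refine hf ?_
    have h := congrArg (f d • ·) hU
    simp only [hθ] at h
    rw [comb_comb e _ (fun l r => f (P l r) / f g), ho, Finset.smul_sum] at h
    simp only [smul_smul] at h
    have h1 := Fintype.linearIndependent_iffₛ.1 e.linearIndependent _ _ h r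
    simp only [div_mul_div_comm, ← Finset.sum_div] at h1
    rw [← mul_div_assoc, eq_div_iff (mul_ne_zero hfg hfg)] at h1
    simp only [map_sum, map_mul]
    rw [← h1]; ring
  have hQR : ∀ i r, ∑ l, Q i l * P l r = if i = r then g * g else 0 := by
    intro i r
    refine hf ?_
    have h := hQ i
    simp only [hθ] at h
    rw [comb_comb e _ (fun l r => f (P l r) / f g)] at h
    have h0 : e i = ∑ r, (if i = r then (1 : F) else 0) • e r := by
      simp [ite_smul, Finset.sum_ite_eq]
    rw [h0] at h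
    have h1 := Fintype.linearIndependent_iffₛ.1 e.linearIndependent _ _ h r
    simp only [div_mul_div_comm, ← Finset.sum_div] at h1
    rw [eq_div_iff (mul_ne_zero hfg hfg)] at h1
    rw [map_sum]
    simp only [map_mul]
    rw [← h1]
    split_ifs <;> simp
  obtain ⟨θ', hθ'⟩ : ∃ θ' : Fin n → E', θ' = fun i => ∑ l, (f' (P i l) / f' g) • e' l := ⟨_, rfl⟩
  have hθ'i : ∀ i, θ' i = ∑ l, (f' (P i l) / f' g) • e' l := fun i => by rw [hθ']
  have hgg : f' g * f' g ≠ 0 := mul_ne_zero hg' hg'
  have hQ' : ∀ i, e' i = ∑ l, (f' (Q i l) / f' g) • θ' l := fun i => by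
    simp only [hθ'i]
    rw [comb_comb e' _ (fun l r => f' (P l r) / f' g)]
    have h : ∀ r, (∑ l, f' (Q i l) / f' g * (f' (P l r) / f' g)) = if i = r then (1 : F') else 0 := fun r => by
      simp only [div_mul_div_comm, ← Finset.sum_div, ← map_mul, ← map_sum]
      rw [hQR]
      split_ifs with h
      · exact div_self (by rw [map_mul]; exact hgg)
      · rw [map_zero, zero_div]
    simp only [h, ite_smul, one_smul, zero_smul, Finset.sum_ite_eq, Finset.mem_univ, if_true]
  refine ⟨θ', hθ'i, fun i j => ?_, ?_, hQ', ?_⟩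
  · simp only [hθ'i]
    rw [mul_expand e' (fun a b c => f' (τ a b c)) he', comb_comb e' _ (fun l r => f' (P l r) / f' g)]
    refine Finset.sum_congr rfl fun r _ => congrArg (· • e' r) ?_
    simp only [div_mul_div_comm]
    simp only [div_mul_eq_mul_div, ← Finset.sum_div, ← map_mul, ← map_sum, hCR]
  · haveI : Nontrivial F' := inferInstance
    refine smul_right_injective E' hd' ?_
    show f' d • (1 : E') = f' d • _
    rw [ho']
    simp only [hθ'i]
    rw [comb_comb e' _ (fun l r => f' (P l r) / f' g), Finset.smul_sum]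
    refine Finset.sum_congr rfl fun r _ => ?_
    rw [smul_smul]
    congr 1
    simp only [div_mul_div_comm, ← Finset.sum_div, ← map_mul, ← map_sum]
    rw [← mul_div_assoc, ← map_mul f' d, hUR, map_mul, map_mul, mul_div_cancel_left₀ _ hgg]
  · refine linearIndependent_of_top_le_span_of_card_eq_finrank ?_ (Module.finrank_eq_card_basis e').symm
    rw [← e'.span_eq, Submodule.span_le]
    rintro _ ⟨i, rfl⟩
    rw [hQ' i]
    exact Submodule.sum_mem _ fun l _ => Submodule.smul_mem _ _ (Submodule.subset_span ⟨l, rfl⟩)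

/-- The order spanned by a table. -/
theorem exists_order_of_table {G E : Type u} [CommRing G] [CommRing E] [Algebra G E] {n : ℕ} (θ : Fin n → E)
    (hli : LinearIndependent G θ) (c : Fin n → Fin n → Fin n → G) (one : Fin n → G)
    (hc : ∀ i j, θ i * θ j = ∑ l, c i j l • θ l) (h1 : 1 = ∑ l, one l • θ l) :
    ∃ (T : Type u) (_ : CommRing T) (_ : Algebra G T) (_ : Module.Finite G T) (ε : T →ₐ[G] E)
      (b : Module.Basis (Fin n) G T), (∀ i, ε (b i) = θ i) ∧ ∀ i j, b i * b j = ∑ l, c i j l • b l := by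
  let S : Submodule G E := Submodule.span G (Set.range θ)
  have hmul : ∀ x y, x ∈ S → y ∈ S → x * y ∈ S := by
    intro x y hx hy
    obtain ⟨a, rfl⟩ := (Submodule.mem_span_range_iff_exists_fun G).1 hx
    obtain ⟨b, rfl⟩ := (Submodule.mem_span_range_iff_exists_fun G).1 hy
    rw [mul_expand θ c hc]
    exact Submodule.sum_mem _ fun r _ => Submodule.smul_mem _ _ (Submodule.subset_span ⟨r, rfl⟩)
  have hone : (1 : E) ∈ S := h1 ▸ Submodule.sum_mem _ fun r _ => Submodule.smul_mem _ _ (Submodule.subset_span ⟨r, rfl⟩)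
  let T : Subalgebra G E := S.toSubalgebra hone hmul
  let b : Module.Basis (Fin n) G T := Module.Basis.span hli
  have hb : ∀ i, (b i : E) = θ i := fun i => congrArg Subtype.val (Module.Basis.span_apply hli i)
  refine ⟨T, inferInstance, inferInstance, Module.Finite.of_basis b, T.val, b, hb, fun i j => Subtype.ext ?_⟩
  rw [Subalgebra.coe_mul, hb, hb, hc]
  simp only [AddSubmonoidClass.coe_finsetSum, Subalgebra.coe_smul, hb]

variable {Ω : Type u} [Field Ω] {O : ValuationSubring Ω} {σ : Type u}

/-- Common primitive denominators. -/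
theorem exists_common {F : Type u} [Field F] [Algebra (MvPolynomial σ Ω) F] [IsFractionRing (MvPolynomial σ Ω) F]
    {ι : Type*} [Finite ι] (z : ι → F) : ∃ g : MvPolynomial σ O, Primitive O σ g ∧
      ∀ i, ∃ p : MvPolynomial σ Ω, z i = algebraMap _ F p / toF O σ F g ∧
        (z i ∈ gaussRing O σ F → ∃ p' : MvPolynomial σ O, MvPolynomial.map O.subtype p' = p) := by
  classical
  haveI := Fintype.ofFinite ι
  have h : ∀ i, ∃ (q : MvPolynomial σ O) (p : MvPolynomial σ Ω), Primitive O σ q ∧
      z i * toF O σ F q = algebraMap _ F p ∧ (z i ∈ gaussRing O σ F → ∃ p' : MvPolynomial σ O, MvPolynomial.map O.subtype p' = p) := by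
    intro i
    by_cases hz : z i ∈ gaussRing O σ F
    · obtain ⟨p, q, hq, he⟩ := hz
      exact ⟨q, MvPolynomial.map O.subtype p, hq, he, fun _ => ⟨p, rfl⟩⟩
    · have hz0 : z i ≠ 0 := fun h => hz (h ▸ zero_mem _)
      obtain ⟨c, p, q, -, -, hq, he⟩ := exists_primitive_fraction (σ := σ) O hz0
      refine ⟨q, C c * MvPolynomial.map O.subtype p, hq, ?_, fun h => absurd h hz⟩
      rw [he, map_mul]; rfl
  choose q p hq he hp using h
  have hprim : ∀ s : Finset ι, Primitive O σ (∏ i ∈ s, q i) := fun s => by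
    induction s using Finset.induction_on with
    | empty => rw [Finset.prod_empty]; exact primitive_one O
    | insert i s hi ih => rw [Finset.prod_insert hi]; exact (hq i).mul ih
  refine ⟨∏ i, q i, hprim _, fun i => ⟨p i * MvPolynomial.map O.subtype (∏ j ∈ Finset.univ.erase i, q j), ?_, ?_⟩⟩
  · rw [eq_div_iff (toF_ne_zero O (hprim _)), ← Finset.mul_prod_erase _ _ (Finset.mem_univ i), map_mul,
      ← mul_assoc, he, map_mul]
    rfl
  · intro h
    obtain ⟨p', hp'⟩ := hp i h
    exact ⟨p' * ∏ j ∈ Finset.univ.erase i, q j, by rw [map_mul, hp']⟩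

end Groth.Agent.H1Stab
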