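import Groth.Agent.FBaseLib.Reduced
import Groth.Agent.H1Stab.Table
import Mathlib

/-!
# Reducedness after extending the algebraically closed constant field
-/

set_option autoImplicit false

universe u

open MvPolynomial TensorProduct

namespace Groth.Agent.H1Stab

theorem isReduced_baseExt {k Ω : Type u} [Field k] [IsAlgClosed k] [Field Ω] [Algebra k Ω] {σ : Type u}
    {F FΩ : Type u} [Field F] [Field FΩ] [Algebra (MvPolynomial σ k) F] [IsFractionRing (MvPolynomial σ k) F]
    [Algebra (MvPolynomial σ Ω) FΩ] [IsFractionRing (MvPolynomial σ Ω) FΩ] [Algebra k F]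
    [IsScalarTower k (MvPolynomial σ k) F] [Algebra F FΩ]
    (hcompat : ∀ p, algebraMap F FΩ (algebraMap (MvPolynomial σ k) F p) =
      algebraMap (MvPolynomial σ Ω) FΩ (MvPolynomial.map (algebraMap k Ω) p))
    {E : Type u} [CommRing E] [IsReduced E] [Algebra F E] [Algebra k E] [IsScalarTower k F E]
    {n : ℕ} (e : Module.Basis (Fin n) F E) (τ : Fin n → Fin n → Fin n → MvPolynomial σ k)
    (he : ∀ i j, e i * e j = ∑ r, algebraMap _ F (τ i j r) • e r) :
    IsReduced (FΩ ⊗[F] E) := by
  classical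
  haveI hT : IsReduced (Ω ⊗[k] E) := FBaseLib.isReduced_field_tensor_of_isAlgClosed E Ω
  letI : Algebra k FΩ := ((algebraMap F FΩ).comp (algebraMap k F)).toAlgebra
  haveI : IsScalarTower k F FΩ := IsScalarTower.of_algebraMap_eq fun _ => rfl
  let j : Ω →ₐ[k] FΩ :=
    { (algebraMap (MvPolynomial σ Ω) FΩ).comp MvPolynomial.C with
      commutes' := fun r => by
        show algebraMap (MvPolynomial σ Ω) FΩ (C (algebraMap k Ω r)) = algebraMap F FΩ (algebraMap k F r)
        rw [IsScalarTower.algebraMap_apply k (MvPolynomial σ k) F, hcompat, MvPolynomial.algebraMap_eq, MvPolynomial.map_C] }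
  let Φ : Ω ⊗[k] E →ₐ[k] FΩ ⊗[F] E :=
    Algebra.TensorProduct.lift ((Algebra.TensorProduct.includeLeft (R := F) (S := k)).comp j)
      (Algebra.TensorProduct.includeRight.restrictScalars k) fun _ _ => Commute.all _ _
  let χ : MvPolynomial σ Ω →+* Ω ⊗[k] E := MvPolynomial.eval₂Hom Algebra.TensorProduct.includeLeftRingHom
    (fun i => (1 : Ω) ⊗ₜ[k] algebraMap F E (algebraMap _ F (X i : MvPolynomial σ k)))
  have hΦχ : ∀ p, Φ (χ p) = algebraMap FΩ (FΩ ⊗[F] E) (algebraMap _ FΩ p) := fun p => by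
    induction p using MvPolynomial.induction_on with
    | C a =>
      simp only [χ, MvPolynomial.eval₂Hom_C]
      simp [Φ, j, Algebra.TensorProduct.includeLeftRingHom_apply, Algebra.TensorProduct.algebraMap_apply]
    | add p q hp hq => simp only [map_add, hp, hq]
    | mul_X p i hp =>
      rw [map_mul, map_mul, hp, map_mul, map_mul]
      congr 1
      simp only [χ, MvPolynomial.eval₂Hom_X']
      simp only [Φ, Algebra.TensorProduct.lift_tmul, map_one, one_mul, AlgHom.restrictScalars_apply,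
        Algebra.TensorProduct.includeRight_apply]
      rw [Algebra.algebraMap_eq_smul_one (R := F) (A := E), ← TensorProduct.smul_tmul, Algebra.TensorProduct.algebraMap_apply]
      congr 1
      rw [← Algebra.algebraMap_eq_smul_one, hcompat, MvPolynomial.map_X]
      rfl
  have hχτ : ∀ q : MvPolynomial σ k, χ (MvPolynomial.map (algebraMap k Ω) q) =
      (1 : Ω) ⊗ₜ[k] algebraMap F E (algebraMap _ F q) := fun q => by
    induction q using MvPolynomial.induction_on with
    | C a =>
      rw [MvPolynomial.map_C, MvPolynomial.eval₂Hom_C, Algebra.TensorProduct.includeLeftRingHom_apply,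
        ← MvPolynomial.algebraMap_eq, ← IsScalarTower.algebraMap_apply k (MvPolynomial σ k) F, ← IsScalarTower.algebraMap_apply k F E,
        Algebra.algebraMap_eq_smul_one, TensorProduct.smul_tmul, ← Algebra.algebraMap_eq_smul_one]
    | add p q hp hq => simp only [map_add, hp, hq, TensorProduct.tmul_add]
    | mul_X p i hp =>
      rw [map_mul, map_mul, hp, MvPolynomial.map_X, MvPolynomial.eval₂Hom_X', map_mul, map_mul,
        Algebra.TensorProduct.tmul_mul_tmul, one_mul]
  let w : (Fin n → MvPolynomial σ Ω) → Ω ⊗[k] E := fun p => ∑ i, χ (p i) * ((1 : Ω) ⊗ₜ[k] e i)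
  have hw : ∀ p, Φ (w p) = ∑ i, algebraMap _ FΩ (p i) • ((1 : FΩ) ⊗ₜ[F] e i) := fun p => by
    simp only [w, map_sum, map_mul, hΦχ]
    refine Finset.sum_congr rfl fun i _ => ?_
    rw [Algebra.smul_def]
    simp [Φ]
  have hw0 : ∀ p, Φ (w p) = 0 → w p = 0 := fun p hp => by
    rw [hw] at hp
    obtain ⟨a, ha⟩ : ∃ a : Fin n → FΩ, a = fun i => algebraMap _ FΩ (p i) := ⟨_, rfl⟩
    have hp' : ∑ i, a i • (e.baseChange FΩ) i = 0 := by
      simp only [Module.Basis.baseChange_apply, ha]
      exact hp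
    have h1 := Fintype.linearIndependent_iff.1 (e.baseChange FΩ).linearIndependent a hp'
    have h0 : ∀ i, p i = 0 := fun i => IsFractionRing.injective (MvPolynomial σ Ω) FΩ (by
      rw [map_zero]
      have := h1 i
      rw [ha] at this
      exact this)
    simp only [w, h0, map_zero, zero_mul, Finset.sum_const_zero]
  have hwmul : ∀ p q, ∃ r, w p * w q = w r := fun p q => by
    refine ⟨fun r => ∑ i, ∑ l, p i * q l * MvPolynomial.map (algebraMap k Ω) (τ i l r), ?_⟩
    simp only [w, Finset.sum_mul, Finset.mul_sum, map_sum, map_mul, hχτ]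
    have hterm : ∀ i l, χ (p i) * ((1 : Ω) ⊗ₜ[k] e i) * (χ (q l) * ((1 : Ω) ⊗ₜ[k] e l)) =
        ∑ r, χ (p i) * χ (q l) * ((1 : Ω) ⊗ₜ[k] algebraMap F E (algebraMap _ F (τ i l r))) * ((1 : Ω) ⊗ₜ[k] e r) := by
      intro i l
      rw [mul_mul_mul_comm, Algebra.TensorProduct.tmul_mul_tmul, one_mul, he, TensorProduct.tmul_sum, Finset.mul_sum]
      refine Finset.sum_congr rfl fun r _ => ?_
      rw [Algebra.smul_def, ← one_mul (1 : Ω), ← Algebra.TensorProduct.tmul_mul_tmul, one_mul, ← mul_assoc]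
    simp only [hterm]
    rw [Finset.sum_comm]
    refine Eq.trans ?_ (Finset.sum_comm)
    refine Finset.sum_congr rfl fun i _ => ?_
    exact Finset.sum_comm
  refine ⟨fun z hz => ?_⟩
  obtain ⟨d, hd⟩ := IsLocalization.exist_integer_multiples (nonZeroDivisors (MvPolynomial σ Ω)) Finset.univ
    (fun i => (e.baseChange FΩ).repr z i)
  choose p hp using fun i => hd i (Finset.mem_univ i)
  have hpz : Φ (w p) = algebraMap _ FΩ (d : MvPolynomial σ Ω) • z := by
    rw [hw]
    conv_rhs => rw [← (e.baseChange FΩ).sum_repr z, Finset.smul_sum]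
    refine Finset.sum_congr rfl fun i _ => ?_
    rw [hp, smul_smul, Module.Basis.baseChange_apply, Algebra.smul_def (d : MvPolynomial σ Ω)]
  obtain ⟨m, hm⟩ := hz
  have hpow : ∀ a : ℕ, ∃ r, w p ^ (a + 1) = w r := fun a => by
    induction a with
    | zero => exact ⟨p, pow_one _⟩
    | succ a ih =>
      obtain ⟨r, hr⟩ := ih
      obtain ⟨r', hr'⟩ := hwmul r p
      exact ⟨r', by rw [pow_succ, hr, hr']⟩
  obtain ⟨r, hr⟩ := hpow m
  have h1 : w r = 0 := hw0 r (by
    rw [← hr, map_pow, hpz, smul_pow, pow_succ z m, hm, zero_mul, smul_zero])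
  have h2 : w p = 0 := IsReduced.eq_zero _ ⟨m + 1, hr.trans h1⟩
  rw [h2, map_zero] at hpz
  exact (smul_eq_zero.1 hpz.symm).resolve_left
    ((map_ne_zero_iff _ (IsFractionRing.injective _ FΩ)).2 (nonZeroDivisors.coe_ne_zero d))

end Groth.Agent.H1Stab
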