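import Mathlib

/-!
# An open certificate for reducedness of a finite algebra over a rational function field
-/

set_option autoImplicit false

universe u

open MvPolynomial TensorProduct

namespace Groth.Agent.H1Stab

section table

variable {R : Type*} [CommRing R] {n : ℕ}

/-- The structure constants of the powers of basis vectors, cleared of denominators. -/
def powTable (C : Fin n → Fin n → Fin n → R) : ℕ → Fin n → Fin n → R
  | 0, i, l => if i = l then 1 else 0
  | j + 1, i, l => ∑ m, powTable C j i m * C m i l

theorem powTable_map {R' : Type*} [CommRing R'] (f : R →+* R') (C : Fin n → Fin n → Fin n → R) :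
    ∀ j i l, f (powTable C j i l) = powTable (fun a b c => f (C a b c)) j i l
  | 0, i, l => by simp only [powTable]; split_ifs <;> simp
  | j + 1, i, l => by simp only [powTable, map_sum, map_mul, powTable_map f C j]

theorem pow_table {K S : Type*} [Field K] [CommRing S] [Algebra K S] (s : Module.Basis (Fin n) K S)
    (C : Fin n → Fin n → Fin n → K) {g : K} (hs : ∀ i j, g • (s i * s j) = ∑ l, C i j l • s l) :
    ∀ j i, g ^ j • s i ^ (j + 1) = ∑ l, powTable C j i l • s l
  | 0, i => by simp [powTable, Finset.sum_ite_eq, ite_smul]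
  | j + 1, i => by
    have h := pow_table s C hs j i
    rw [pow_succ' g j, mul_smul, pow_succ (s i) (j + 1), ← smul_mul_assoc (g ^ j), h, Finset.sum_mul,
      Finset.smul_sum]
    simp only [powTable, Finset.sum_smul, mul_smul]
    rw [Finset.sum_comm]
    refine Finset.sum_congr rfl fun m _ => ?_
    rw [smul_mul_assoc, smul_comm, hs, Finset.smul_sum]

end table

section dec

variable {σ : Type*} [Fintype σ] [DecidableEq σ] {R : Type*} [CommRing R] (p : ℕ)

/-- The exponent vector divided by `p`. -/
noncomputable def eDiv (e : σ →₀ ℕ) : σ →₀ ℕ := Finsupp.equivFunOnFinite.symm fun i => e i / p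

/-- The residue of an exponent vector modulo `p`. -/
noncomputable def eMod [NeZero p] (e : σ →₀ ℕ) : σ → Fin p := fun i => Fin.ofNat p (e i)

/-- The exponent with the given class and quotient. -/
noncomputable def eCons [NeZero p] (a : σ → Fin p) (m : σ →₀ ℕ) : σ →₀ ℕ :=
  Finsupp.equivFunOnFinite.symm fun i => (a i : ℕ) + p * m i

omit [DecidableEq σ] in
theorem eCons_eq_iff [NeZero p] {a : σ → Fin p} {m e : σ →₀ ℕ} :
    eCons p a m = e ↔ eMod p e = a ∧ eDiv p e = m := by
  have hp := Nat.pos_of_ne_zero (NeZero.ne p)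
  constructor
  · rintro rfl
    refine ⟨funext fun i => Fin.ext ?_, Finsupp.ext fun i => ?_⟩
    · simp [eMod, eCons, Nat.mod_eq_of_lt (a i).isLt]
    · simp [eDiv, eCons, Nat.add_mul_div_left _ _ hp, Nat.div_eq_of_lt (a i).isLt]
  · rintro ⟨rfl, rfl⟩
    ext i
    simp [eMod, eDiv, eCons, Nat.mod_add_div]

/-- The component of a polynomial along a class of exponents modulo `p`. -/
noncomputable def dec [NeZero p] (a : σ → Fin p) : MvPolynomial σ R →ₗ[R] MvPolynomial σ R :=
  (basisMonomials σ R).constr R fun e => if eMod p e = a then monomial (eDiv p e) 1 else 0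

theorem dec_monomial [NeZero p] (a : σ → Fin p) (e : σ →₀ ℕ) (c : R) :
    dec p a (monomial e c) = if eMod p e = a then monomial (eDiv p e) c else 0 := by
  have h : (monomial e c : MvPolynomial σ R) = c • basisMonomials σ R e := by
    rw [coe_basisMonomials, smul_monomial, smul_eq_mul, mul_one]
  rw [h, map_smul, dec, Module.Basis.constr_basis]
  split_ifs
  · rw [smul_monomial, smul_eq_mul, mul_one]
  · rw [smul_zero]

theorem coeff_dec [NeZero p] (a : σ → Fin p) (f : MvPolynomial σ R) (m : σ →₀ ℕ) :
    (dec p a f).coeff m = f.coeff (eCons p a m) := by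
  induction f using MvPolynomial.induction_on' with
  | monomial e c =>
    rw [dec_monomial, coeff_monomial]
    by_cases h : eMod p e = a
    · rw [if_pos h, coeff_monomial]
      exact if_congr ⟨fun h' => ((eCons_eq_iff p).2 ⟨h, h'⟩).symm, fun h' => ((eCons_eq_iff p).1 h'.symm).2⟩ rfl rfl
    · rw [if_neg h, coeff_zero, if_neg fun h' => h ((eCons_eq_iff p).1 h'.symm).1]
  | add f g hf hg => rw [map_add, coeff_add, coeff_add, hf, hg]

theorem eq_zero_of_dec [NeZero p] {f : MvPolynomial σ R} (h : ∀ a : σ → Fin p, dec p a f = 0) : f = 0 := by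
  ext e
  have := congrArg (coeff (eDiv p e)) (h (eMod p e))
  rwa [coeff_dec, (eCons_eq_iff p).2 ⟨rfl, rfl⟩, coeff_zero] at this

theorem dec_expand_mul [NeZero p] (a : σ → Fin p) (β f : MvPolynomial σ R) :
    dec p a (expand p β * f) = β * dec p a f := by
  induction β using MvPolynomial.induction_on' with
  | monomial m c =>
    induction f using MvPolynomial.induction_on' with
    | monomial e d =>
      have hp := Nat.pos_of_ne_zero (NeZero.ne p)
      have hmod : eMod p (p • m + e) = eMod p e := funext fun i => Fin.ext (by simp [eMod])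
      have hdiv : eDiv p (p • m + e) = m + eDiv p e := Finsupp.ext fun i => by
        simp [eDiv, add_comm (p * m i), Nat.add_mul_div_left _ _ hp, add_comm (m i)]
      rw [expand_monomial, monomial_mul, dec_monomial, dec_monomial, hmod, hdiv]
      split_ifs
      · rw [monomial_mul]
      · rw [mul_zero]
    | add f g hf hg => rw [mul_add, map_add, hf, hg, map_add, mul_add]
  | add β γ hβ hγ => rw [map_add, add_mul, map_add, hβ, hγ, add_mul]

theorem dec_map [NeZero p] {R' : Type*} [CommRing R'] (g : R →+* R') (a : σ → Fin p) (f : MvPolynomial σ R) :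
    dec p a (MvPolynomial.map g f) = MvPolynomial.map g (dec p a f) := by
  ext m
  rw [coeff_dec, coeff_map, coeff_map, coeff_dec]

end dec

section linalg

variable {K : Type*} [Field K] {ι : Type*} [Fintype ι] {n : ℕ}

/-- An injective matrix has a nonvanishing maximal minor. -/
theorem exists_minor (H : Fin n → ι → K) (h : ∀ v : Fin n → K, (∀ c, ∑ i, v i * H i c = 0) → v = 0) :
    ∃ col : Fin n → ι, (Matrix.of fun i j => H i (col j)).det ≠ 0 := by
  classical
  have hspan : Submodule.span K (Set.range fun c => fun i => H i c) = ⊤ := by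
    by_contra hne
    obtain ⟨φ, hφ0, hφ⟩ := Submodule.exists_dual_map_eq_bot_of_lt_top (lt_top_iff_ne_top.2 hne) inferInstance
    refine hφ0 (LinearMap.ext fun x => ?_)
    have hv := h (fun i => φ (Pi.single i 1)) fun c => by
      have h0 : φ (fun i => H i c) = 0 := by
        rw [← Submodule.mem_bot K, ← hφ]
        exact Submodule.mem_map_of_mem (Submodule.subset_span ⟨c, rfl⟩)
      rw [pi_eq_sum_univ' (fun i => H i c), map_sum] at h0
      simpa [map_smul, mul_comm] using h0
    rw [pi_eq_sum_univ' x, map_sum, LinearMap.zero_apply]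
    refine Finset.sum_eq_zero fun i _ => ?_
    rw [map_smul, congrFun hv i, Pi.zero_apply, smul_zero]
  obtain ⟨κ, a, ha, hsp, hli⟩ := exists_linearIndependent' K (fun c => fun i => H i c)
  haveI : Fintype κ := Fintype.ofInjective a ha
  rw [hspan] at hsp
  let b := Module.Basis.mk hli hsp.ge
  have hcard : Fintype.card κ = n := by
    rw [← Module.finrank_eq_card_basis b, Module.finrank_fintype_fun_eq_card, Fintype.card_fin]
  let e : Fin n ≃ κ := (Fintype.equivFinOfCardEq hcard).symm
  refine ⟨fun j => a (e j), ?_⟩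
  have hu : IsUnit (Matrix.of fun i j => H i (a (e j))) := by
    rw [← Matrix.linearIndependent_cols_iff_isUnit]
    exact hli.comp _ e.injective
  exact ((Matrix.isUnit_iff_isUnit_det _).1 hu).ne_zero

theorem vecMul_minor_eq_zero {R : Type*} [CommRing R] [IsDomain R] {n : ℕ} {ι : Type*} (H : Fin n → ι → R)
    (col : Fin n → ι) (hdet : (Matrix.of fun i j => H i (col j)).det ≠ 0) (v : Fin n → R)
    (hv : ∀ c, ∑ i, v i * H i c = 0) : v = 0 :=
  Matrix.eq_zero_of_vecMul_eq_zero hdet (funext fun j => hv (col j))

end linalg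

section frobenius

variable {σ : Type u} [Fintype σ] [DecidableEq σ] {n : ℕ}
  {k : Type u} [Field k] {K : Type u} [Field K] [Algebra (MvPolynomial σ k) K] [IsFractionRing (MvPolynomial σ k) K]
  {S : Type u} [CommRing S] [Algebra K S]

/-- Entries of the Frobenius matrix, expanded along exponent classes. -/
noncomputable def frobMat (p : ℕ) [NeZero p] {D : Type*} [CommRing D] (C : Fin n → Fin n → Fin n → MvPolynomial σ D)
    (i : Fin n) (c : (σ → Fin p) × Fin n) : MvPolynomial σ D :=
  dec p c.1 (powTable C (p - 1) i c.2)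

theorem frobMat_map {p : ℕ} [NeZero p] {D D' : Type*} [CommRing D] [CommRing D'] (f : D →+* D')
    (C : Fin n → Fin n → Fin n → MvPolynomial σ D) (i : Fin n) (c : (σ → Fin p) × Fin n) :
    MvPolynomial.map f (frobMat p C i c) = frobMat p (fun a b d => MvPolynomial.map f (C a b d)) i c := by
  rw [frobMat, frobMat, ← dec_map, powTable_map (MvPolynomial.map f)]

variable (p : ℕ) [Fact p.Prime] [CharP k p] (s : Module.Basis (Fin n) K S)
  (C : Fin n → Fin n → Fin n → MvPolynomial σ k) {g : MvPolynomial σ k}

omit [Fintype σ] [DecidableEq σ] in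
theorem charP_frac (σ : Type u) (k : Type u) [Field k] (K : Type u) [Field K] [Algebra (MvPolynomial σ k) K]
    [IsFractionRing (MvPolynomial σ k) K] (p : ℕ) [CharP k p] : CharP K p :=
  charP_of_injective_ringHom (f := (algebraMap (MvPolynomial σ k) K).comp MvPolynomial.C)
    ((IsFractionRing.injective (MvPolynomial σ k) K).comp (C_injective σ k)) p

theorem frob_sum (hg : g ≠ 0)
    (hs : ∀ i j, algebraMap _ K g • (s i * s j) = ∑ l, algebraMap _ K (C i j l) • s l)
    (b : Fin n → MvPolynomial σ k) :
    algebraMap _ K (g ^ (p - 1)) • (∑ i, algebraMap _ K (b i) • s i) ^ p =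
      ∑ l, algebraMap _ K (∑ i, b i ^ p * powTable C (p - 1) i l) • s l := by
  rcases subsingleton_or_nontrivial S with _ | _
  · exact Subsingleton.elim _ _
  haveI := charP_frac σ k K p
  haveI : CharP S p := charP_of_injective_ringHom (algebraMap K S).injective p
  have hp : p - 1 + 1 = p := Nat.sub_add_cancel (Fact.out : p.Prime).pos
  rw [sum_pow_char, Finset.smul_sum]
  simp only [map_sum, Finset.sum_smul]
  rw [Finset.sum_comm (f := fun l i => algebraMap _ K (b i ^ p * powTable C (p - 1) i l) • s l)]
  refine Finset.sum_congr rfl fun i _ => ?_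
  have h := pow_table s (fun a c d => algebraMap _ K (C a c d)) hs (p - 1) i
  rw [hp] at h
  rw [smul_pow, smul_comm, map_pow (algebraMap (MvPolynomial σ k) K) g, h, Finset.smul_sum]
  refine Finset.sum_congr rfl fun l _ => ?_
  rw [smul_smul, ← map_pow, ← powTable_map (algebraMap (MvPolynomial σ k) K), ← map_mul]

theorem exists_clear (a : Fin n → K) : ∃ (d : MvPolynomial σ k) (b : Fin n → MvPolynomial σ k),
    d ≠ 0 ∧ ∀ i, algebraMap _ K d * a i = algebraMap _ K (b i) := by
  classical
  obtain ⟨d, hd⟩ := IsLocalization.exist_integer_multiples (nonZeroDivisors (MvPolynomial σ k)) Finset.univ a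
  choose b hb using fun i => hd i (Finset.mem_univ i)
  exact ⟨d, b, nonZeroDivisors.coe_ne_zero d, fun i => by rw [hb, Algebra.smul_def]⟩

theorem reduced_of_minor (hg : g ≠ 0)
    (hs : ∀ i j, algebraMap _ K g • (s i * s j) = ∑ l, algebraMap _ K (C i j l) • s l)
    (col : Fin n → (σ → Fin p) × Fin n) (hdet : (Matrix.of fun i j => frobMat p C i (col j)).det ≠ 0) :
    IsReduced S := by
  refine (isReduced_iff_pow_one_lt p (Fact.out : p.Prime).one_lt).2 fun y hy => ?_
  obtain ⟨d, b, hd, hb⟩ := exists_clear (σ := σ) (k := k) (fun i => s.repr y i)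
  have hyb : algebraMap _ K d • y = ∑ i, algebraMap _ K (b i) • s i := by
    conv_lhs => rw [← s.sum_repr y]
    rw [Finset.smul_sum]
    simp only [smul_smul, hb]
  have h := frob_sum p s C hg hs b
  rw [← hyb, smul_pow, hy, smul_zero, smul_zero] at h
  have hcoef : ∀ l, ∑ i, b i ^ p * powTable C (p - 1) i l = 0 := fun l => by
    refine IsFractionRing.injective (MvPolynomial σ k) K ?_
    rw [map_zero]
    exact Fintype.linearIndependent_iff.1 s.linearIndependent _ h.symm l
  have hv := vecMul_minor_eq_zero (frobMat p C) col hdet (fun i => MvPolynomial.map (frobenius k p) (b i))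
    fun c => by
      have := congrArg (dec p c.1) (hcoef c.2)
      rw [map_sum, map_zero] at this
      rw [← this]
      refine Finset.sum_congr rfl fun i _ => ?_
      rw [← map_frobenius_expand p, map_expand, dec_expand_mul]
      rfl
  have hb0 : ∀ i, b i = 0 := fun i =>
    MvPolynomial.map_injective _ (frobenius_inj k p) ((congrFun hv i).trans (map_zero _).symm)
  simp only [hb0, map_zero, zero_smul, Finset.sum_const_zero] at hyb
  exact (smul_eq_zero.1 hyb).resolve_left ((map_ne_zero_iff _ (IsFractionRing.injective _ K)).2 hd)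

theorem exists_minor_of_reduced [PerfectRing k p] [IsReduced S] (hg : g ≠ 0)
    (hs : ∀ i j, algebraMap _ K g • (s i * s j) = ∑ l, algebraMap _ K (C i j l) • s l) :
    ∃ col : Fin n → (σ → Fin p) × Fin n, (Matrix.of fun i j => frobMat p C i (col j)).det ≠ 0 := by
  obtain ⟨col, hcol⟩ := exists_minor (fun i c => algebraMap _ K (frobMat p C i c)) fun v hv => by
    obtain ⟨d, β, hd, hβ⟩ := exists_clear (σ := σ) (k := k) v
    choose b hb using fun i => MvPolynomial.map_surjective _ (surjective_frobenius k p) (β i)
    have hcol : ∀ c, ∑ i, β i * frobMat p C i c = 0 := fun c => by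
      refine IsFractionRing.injective (MvPolynomial σ k) K ?_
      simp only [map_sum, map_mul, ← hβ, mul_assoc, ← Finset.mul_sum, hv, mul_zero, map_zero]
    have hcoef : ∀ l, ∑ i, b i ^ p * powTable C (p - 1) i l = 0 := fun l => eq_zero_of_dec p fun a => by
      rw [map_sum, ← hcol (a, l)]
      refine Finset.sum_congr rfl fun i _ => ?_
      rw [← map_frobenius_expand p, map_expand, dec_expand_mul, hb]
      rfl
    have h := frob_sum p s C hg hs b
    simp only [hcoef, map_zero, zero_smul, Finset.sum_const_zero, smul_eq_zero] at h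
    have hy := IsReduced.eq_zero _ ⟨p, h.resolve_left ((map_ne_zero_iff _ (IsFractionRing.injective _ K)).2 (pow_ne_zero _ hg))⟩
    funext i
    have hbi : b i = 0 := IsFractionRing.injective (MvPolynomial σ k) K
      ((Fintype.linearIndependent_iff.1 s.linearIndependent _ hy i).trans (map_zero _).symm)
    have := hβ i
    rw [← hb, hbi, map_zero, map_zero] at this
    exact (mul_eq_zero.1 this).resolve_left ((map_ne_zero_iff _ (IsFractionRing.injective _ K)).2 hd)
  refine ⟨col, fun h0 => hcol ?_⟩
  have := congrArg (algebraMap (MvPolynomial σ k) K) h0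
  rw [map_zero, RingHom.map_det] at this
  exact this

end frobenius

section traceform

variable {σ : Type u} {n : ℕ} {k : Type u} [Field k] {K : Type u} [Field K]
  [Algebra (MvPolynomial σ k) K] [IsFractionRing (MvPolynomial σ k) K]
  {S : Type u} [CommRing S] [Algebra K S]

/-- The trace form, cleared of denominators. -/
def traceMat {D : Type*} [CommRing D] (C : Fin n → Fin n → Fin n → D) : Matrix (Fin n) (Fin n) D :=
  Matrix.of fun i j => ∑ m, C i j m * ∑ l, C m l l

theorem traceMat_map {D D' : Type*} [CommRing D] [CommRing D'] (f : D →+* D') (C : Fin n → Fin n → Fin n → D) :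
    f.mapMatrix (traceMat C) = traceMat (fun a b c => f (C a b c)) := by
  ext i j; simp [traceMat]

theorem trace_eq (s : Module.Basis (Fin n) K S) (C : Fin n → Fin n → Fin n → MvPolynomial σ k) {g : MvPolynomial σ k}
    (hs : ∀ i j, algebraMap _ K g • (s i * s j) = ∑ l, algebraMap _ K (C i j l) • s l) (i j : Fin n) :
    algebraMap _ K g * (algebraMap _ K g * Algebra.trace K S (s i * s j)) = algebraMap _ K (traceMat C i j) := by
  have htr : ∀ m, algebraMap _ K g * Algebra.trace K S (s m) = algebraMap _ K (∑ l, C m l l) := fun m => by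
    rw [Algebra.trace_eq_matrix_trace s, Matrix.trace, Finset.mul_sum, map_sum]
    refine Finset.sum_congr rfl fun l _ => ?_
    rw [Matrix.diag_apply, Algebra.leftMulMatrix_eq_repr_mul]
    have := congrArg (fun z => s.repr z l) (hs m l)
    simp only [map_smul, map_sum, Finsupp.smul_apply, smul_eq_mul, Finsupp.finsetSum_apply, Module.Basis.repr_self,
      Finsupp.single_apply, mul_ite, mul_one, mul_zero, Finset.sum_ite_eq', Finset.mem_univ, if_true] at this
    exact this
  rw [← smul_eq_mul (algebraMap _ K g) (Algebra.trace K S (s i * s j)), ← map_smul, hs, map_sum, Finset.mul_sum,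
    traceMat, Matrix.of_apply, map_sum]
  refine Finset.sum_congr rfl fun m _ => ?_
  rw [map_smul, smul_eq_mul, map_mul, ← htr]
  ring

theorem reduced_of_traceMat (s : Module.Basis (Fin n) K S) (C : Fin n → Fin n → Fin n → MvPolynomial σ k) {g : MvPolynomial σ k}
    (hs : ∀ i j, algebraMap _ K g • (s i * s j) = ∑ l, algebraMap _ K (C i j l) • s l)
    (hdet : (traceMat C).det ≠ 0) : IsReduced S := by
  refine ⟨fun y hy => ?_⟩
  haveI := Module.Finite.of_basis s
  obtain ⟨M, hM⟩ : ∃ M : Matrix (Fin n) (Fin n) K, M = (traceMat C).map (algebraMap (MvPolynomial σ k) K) := ⟨_, rfl⟩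
  have hMdet : M.det ≠ 0 := by
    rw [hM, ← RingHom.mapMatrix_apply, ← RingHom.map_det]
    exact (map_ne_zero_iff _ (IsFractionRing.injective _ K)).2 hdet
  have hv := Matrix.eq_zero_of_vecMul_eq_zero hMdet (v := fun i => s.repr y i) (funext fun j => by
    simp only [Matrix.vecMul, dotProduct, Pi.zero_apply, hM, Matrix.map_apply, ← trace_eq s C hs]
    have h0 : Algebra.trace K S (y * s j) = 0 :=
      (Algebra.isNilpotent_trace_of_isNilpotent (Commute.isNilpotent_mul_right (Commute.all _ _) hy)).eq_zero
    conv_lhs at h0 => rw [← s.sum_repr y, Finset.sum_mul, map_sum]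
    simp only [smul_mul_assoc, map_smul, smul_eq_mul] at h0
    have := congrArg (fun z => algebraMap _ K g * (algebraMap _ K g * z)) h0
    simp only [Finset.mul_sum, mul_zero] at this
    rw [← this]
    refine Finset.sum_congr rfl fun i _ => ?_
    ring)
  rw [← s.sum_repr y]
  exact Finset.sum_eq_zero fun i _ => by rw [congrFun hv i, Pi.zero_apply, zero_smul]

theorem traceMat_det_ne_zero [CharZero k] [IsReduced S] (s : Module.Basis (Fin n) K S)
    (C : Fin n → Fin n → Fin n → MvPolynomial σ k) {g : MvPolynomial σ k} (hg : g ≠ 0)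
    (hs : ∀ i j, algebraMap _ K g • (s i * s j) = ∑ l, algebraMap _ K (C i j l) • s l) :
    (traceMat C).det ≠ 0 := by
  classical
  haveI := Module.Finite.of_basis s
  haveI : CharZero K := charZero_of_injective_ringHom (f := (algebraMap (MvPolynomial σ k) K).comp MvPolynomial.C)
    ((IsFractionRing.injective (MvPolynomial σ k) K).comp (C_injective σ k))
  haveI : IsArtinianRing S := IsArtinianRing.of_finite K S
  intro h0
  have h0' : ((traceMat C).map (algebraMap (MvPolynomial σ k) K)).det = 0 := by
    rw [← RingHom.mapMatrix_apply, ← RingHom.map_det, h0, map_zero]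
  obtain ⟨v, hv0, hv⟩ := Matrix.exists_vecMul_eq_zero_iff.2 h0'
  obtain ⟨y, hy⟩ : ∃ y, y = ∑ i, v i • s i := ⟨_, rfl⟩
  have hrad : ∀ z : S, Algebra.trace K S (y * z) = 0 := fun z => by
    rw [← s.sum_repr z, Finset.mul_sum, map_sum]
    refine Finset.sum_eq_zero fun j _ => ?_
    rw [mul_smul_comm, map_smul]
    suffices Algebra.trace K S (y * s j) = 0 by rw [this, smul_zero]
    have hj := congrFun hv j
    simp only [Matrix.vecMul, dotProduct, Pi.zero_apply, Matrix.map_apply, ← trace_eq s C hs] at hj
    have hg0 : algebraMap _ K g ≠ 0 := (map_ne_zero_iff _ (IsFractionRing.injective _ K)).2 hg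
    refine mul_left_cancel₀ hg0 (mul_left_cancel₀ hg0 ?_)
    rw [mul_zero, mul_zero, hy, Finset.sum_mul, map_sum, Finset.mul_sum, Finset.mul_sum, ← hj]
    refine Finset.sum_congr rfl fun i _ => ?_
    rw [smul_mul_assoc, map_smul, smul_eq_mul]
    ring
  obtain ⟨N, w, hw⟩ := IsArtinian.exists_pow_succ_smul_dvd (M := S) y (1 : S)
  simp only [smul_eq_mul, mul_one] at hw
  have hsq : y = y * y * w := by
    have h2 : IsNilpotent (y - y * y * w) := ⟨N + 1, by
      rw [show y - y * y * w = y * (1 - y * w) by ring, mul_pow, pow_succ' (1 - y * w)]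
      rw [Nat.succ_eq_add_one] at hw
      linear_combination -(y * (1 - y * w) ^ N) * hw⟩
    exact sub_eq_zero.1 h2.eq_zero
  have he : IsIdempotentElem (y * w) := by
    show y * w * (y * w) = y * w
    linear_combination -w * hsq
  let μ := Algebra.lmul K S (y * w)
  have hμ : LinearMap.IsProj (LinearMap.range μ) μ :=
    ⟨fun x => LinearMap.mem_range_self μ x, by
      rintro _ ⟨x, rfl⟩
      show y * w * (y * w * x) = y * w * x
      rw [← mul_assoc, he.eq]⟩
  have htr : (Module.finrank K (LinearMap.range μ) : K) = 0 := by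
    rw [← hμ.trace]
    exact hrad w
  rw [Nat.cast_eq_zero, Submodule.finrank_eq_zero] at htr
  have hy0 : y = 0 := by
    have h1 : μ y = 0 := by
      rw [← Submodule.mem_bot K, ← htr]; exact LinearMap.mem_range_self μ y
    rw [hsq]
    have : y * w * y = 0 := h1
    linear_combination this
  exact hv0 (funext (Fintype.linearIndependent_iff.1 s.linearIndependent v (hy ▸ hy0)))

end traceform

/-- For a table over `D` with reduced fibre over a perfect field, there is a certificate in `D`. -/
theorem exists_certificate {σ : Type u} [Fintype σ] [DecidableEq σ] {n : ℕ} {D k : Type u} [CommRing D] [Field k] [PerfectField k]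
    (φ : D →+* k) (C : Fin n → Fin n → Fin n → MvPolynomial σ D) (g : MvPolynomial σ D)
    (hg : MvPolynomial.map φ g ≠ 0) (K : Type u) [Field K] [Algebra (MvPolynomial σ k) K]
    [IsFractionRing (MvPolynomial σ k) K] (S : Type u) [CommRing S] [IsReduced S] [Algebra K S]
    (s : Module.Basis (Fin n) K S)
    (hs : ∀ i j, algebraMap _ K (MvPolynomial.map φ g) • (s i * s j) =
      ∑ l, algebraMap _ K (MvPolynomial.map φ (C i j l)) • s l) :
    ∃ μ : D, φ μ ≠ 0 ∧ ∀ (κ : Type u) [Field κ] (ψ : D →+* κ), ψ μ ≠ 0 → ringChar κ = ringChar k →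
      MvPolynomial.map ψ g ≠ 0 ∧
      ∀ (K' : Type u) [Field K'] [Algebra (MvPolynomial σ κ) K'] [IsFractionRing (MvPolynomial σ κ) K']
        (S' : Type u) [CommRing S'] [Algebra K' S'] (s' : Module.Basis (Fin n) K' S'),
        (∀ i j, algebraMap _ K' (MvPolynomial.map ψ g) • (s' i * s' j) =
          ∑ l, algebraMap _ K' (MvPolynomial.map ψ (C i j l)) • s' l) → IsReduced S' := by
  classical
  obtain ⟨e, he⟩ := ne_zero_iff.1 hg
  rw [coeff_map] at he
  have hg' : ∀ (κ : Type u) [Field κ] (ψ : D →+* κ), ψ (g.coeff e) ≠ 0 → MvPolynomial.map ψ g ≠ 0 :=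
    fun κ _ ψ h0 h => h0 (by rw [← coeff_map, h, coeff_zero])
  rcases CharP.char_is_prime_or_zero k (ringChar k) with hp | h0
  · haveI : Fact (ringChar k).Prime := ⟨hp⟩
    haveI : PerfectRing k (ringChar k) := PerfectField.toPerfectRing _
    obtain ⟨col, hcol⟩ := exists_minor_of_reduced (ringChar k) s (fun a b c => MvPolynomial.map φ (C a b c)) hg hs
    obtain ⟨m, hm⟩ := ne_zero_iff.1 hcol
    let P : MvPolynomial σ D := (Matrix.of fun i j => frobMat (ringChar k) C i (col j)).det
    have hP : ∀ (κ : Type u) [Field κ] (ψ : D →+* κ), MvPolynomial.map ψ P =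
        (Matrix.of fun i j => frobMat (ringChar k) (fun a b c => MvPolynomial.map ψ (C a b c)) i (col j)).det :=
      fun κ _ ψ => by
        rw [RingHom.map_det]
        congr 1
        refine Matrix.ext fun i j => ?_
        exact frobMat_map ψ C i (col j)
    refine ⟨g.coeff e * P.coeff m, ?_, fun κ _ ψ hψ hch => ?_⟩
    · rw [map_mul, ← coeff_map φ P, hP]; exact mul_ne_zero he hm
    rw [map_mul, mul_ne_zero_iff, ← coeff_map ψ P, hP] at hψ
    haveI : CharP κ (ringChar k) := hch ▸ ringChar.charP κ
    refine ⟨hg' κ ψ hψ.1, fun K' _ _ _ S' _ _ s' hs' => ?_⟩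
    exact reduced_of_minor (ringChar k) s' _ (hg' κ ψ hψ.1) hs' col (fun h => hψ.2 (by rw [h, coeff_zero]))
  · haveI : CharP k 0 := h0 ▸ ringChar.charP k
    haveI : CharZero k := CharP.charP_to_charZero k
    have hdet := traceMat_det_ne_zero s (fun a b c => MvPolynomial.map φ (C a b c)) hg hs
    obtain ⟨m, hm⟩ := ne_zero_iff.1 hdet
    refine ⟨g.coeff e * (traceMat C).det.coeff m, ?_, fun κ _ ψ hψ hch => ?_⟩
    · rw [map_mul, ← coeff_map φ (traceMat C).det, RingHom.map_det, traceMat_map]; exact mul_ne_zero he hm
    rw [map_mul, mul_ne_zero_iff, ← coeff_map ψ (traceMat C).det, RingHom.map_det, traceMat_map] at hψ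
    refine ⟨hg' κ ψ hψ.1, fun K' _ _ _ S' _ _ s' hs' => ?_⟩
    exact reduced_of_traceMat s' _ hs' (fun h => hψ.2 (by rw [h, coeff_zero]))

/-- A basis of a field extension stays independent over rational functions. -/
theorem linearIndependent_const {σ κ κ' K L ι : Type*} [Field κ] [Field κ'] [Algebra κ κ'] [Field K] [Field L]
    [Algebra (MvPolynomial σ κ) K] [IsFractionRing (MvPolynomial σ κ) K] [Algebra (MvPolynomial σ κ') L]
    [IsFractionRing (MvPolynomial σ κ') L] [Algebra K L]
    (hKL : ∀ q : MvPolynomial σ κ, algebraMap K L (algebraMap _ K q) =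
      algebraMap _ L (MvPolynomial.map (algebraMap κ κ') q))
    (b : ι → κ') (hb : LinearIndependent κ b) :
    LinearIndependent K (fun m => algebraMap (MvPolynomial σ κ') L (C (b m))) := by
  classical
  rw [linearIndependent_iff']
  intro t a ha m hm
  obtain ⟨d, hd⟩ := IsLocalization.exist_integer_multiples (nonZeroDivisors (MvPolynomial σ κ)) t a
  choose! c hc using hd
  have h0 : ∑ x ∈ t, MvPolynomial.map (algebraMap κ κ') (c x) * C (b x) = 0 := by
    refine IsFractionRing.injective _ L ?_
    rw [map_zero, map_sum]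
    calc ∑ x ∈ t, algebraMap _ L (MvPolynomial.map (algebraMap κ κ') (c x) * C (b x))
        = ∑ x ∈ t, algebraMap K L (algebraMap _ K (d : MvPolynomial σ κ)) * (a x • algebraMap _ L (C (b x))) :=
          Finset.sum_congr rfl fun x hx => by
            rw [map_mul, ← hKL, hc x hx, Algebra.smul_def, map_mul, Algebra.smul_def, mul_assoc]
      _ = 0 := by rw [← Finset.mul_sum, ha, mul_zero]
  have hcm : c m = 0 := by
    ext e
    have := congrArg (coeff e) h0
    simp only [coeff_sum, mul_comm _ (C (b _)), coeff_C_mul, coeff_map, coeff_zero] at this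
    rw [coeff_zero]
    refine linearIndependent_iff'.1 hb t (fun x => (c x).coeff e) ?_ m hm
    rw [← this]
    exact Finset.sum_congr rfl fun x _ => by rw [Algebra.smul_def, mul_comm]
  have := hc m hm
  rw [hcm, map_zero, Algebra.smul_def] at this
  exact (mul_eq_zero.1 this.symm).resolve_left
    ((map_ne_zero_iff _ (IsFractionRing.injective _ K)).2 (nonZeroDivisors.coe_ne_zero d))

/-- An algebra over a rational function field that stays reduced after every extension of constants is
geometrically reduced over the constants. -/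
theorem geomReduced_of_table {σ : Type u} {n : ℕ} {κ : Type u} [Field κ]
    {K S : Type u} [Field K] [CommRing S] [Algebra (MvPolynomial σ κ) K] [IsFractionRing (MvPolynomial σ κ) K]
    [Algebra κ K] [IsScalarTower κ (MvPolynomial σ κ) K] [Algebra K S] [Algebra κ S] [IsScalarTower κ K S]
    (s : Module.Basis (Fin n) K S)
    (hred : ∀ (L : Type u) [Field L] [Algebra K L] [Algebra (MvPolynomial σ (AlgebraicClosure κ)) L]
      [IsFractionRing (MvPolynomial σ (AlgebraicClosure κ)) L],
      (∀ q : MvPolynomial σ κ, algebraMap K L (algebraMap _ K q) =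
        algebraMap _ L (MvPolynomial.map (algebraMap κ (AlgebraicClosure κ)) q)) → IsReduced (L ⊗[K] S)) :
    Algebra.IsGeometricallyReduced κ S := by
  classical
  rw [Algebra.isGeometricallyReduced_field_iff]
  obtain ⟨j, hj⟩ : ∃ j : MvPolynomial σ κ →+* FractionRing (MvPolynomial σ (AlgebraicClosure κ)),
      j = (algebraMap _ _).comp (MvPolynomial.map (algebraMap κ (AlgebraicClosure κ))) := ⟨_, rfl⟩
  have hjinj : Function.Injective j := hj ▸ (IsFractionRing.injective _ _).comp
    (MvPolynomial.map_injective _ (algebraMap κ (AlgebraicClosure κ)).injective)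
  letI : Algebra K (FractionRing (MvPolynomial σ (AlgebraicClosure κ))) := (IsFractionRing.lift hjinj).toAlgebra
  have hKL : ∀ q : MvPolynomial σ κ, algebraMap K (FractionRing (MvPolynomial σ (AlgebraicClosure κ))) (algebraMap _ K q) =
      algebraMap _ _ (MvPolynomial.map (algebraMap κ (AlgebraicClosure κ)) q) := fun q => by
    rw [RingHom.algebraMap_toAlgebra, IsFractionRing.lift_algebraMap, hj]; rfl
  haveI hT := hred (FractionRing (MvPolynomial σ (AlgebraicClosure κ))) hKL
  haveI : IsScalarTower κ K (FractionRing (MvPolynomial σ (AlgebraicClosure κ))) :=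
    IsScalarTower.of_algebraMap_eq fun r => by
      rw [IsScalarTower.algebraMap_apply κ (MvPolynomial σ κ) K, hKL, MvPolynomial.algebraMap_eq, MvPolynomial.map_C,
        IsScalarTower.algebraMap_apply κ (MvPolynomial σ (AlgebraicClosure κ)) (FractionRing _)]
      rfl
  let f : AlgebraicClosure κ →ₐ[κ] FractionRing (MvPolynomial σ (AlgebraicClosure κ)) := IsScalarTower.toAlgHom κ _ _
  let Φ : AlgebraicClosure κ ⊗[κ] S →ₐ[κ] FractionRing (MvPolynomial σ (AlgebraicClosure κ)) ⊗[K] S :=
    Algebra.TensorProduct.lift ((Algebra.TensorProduct.includeLeft (R := K) (S := κ)).comp f)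
      (Algebra.TensorProduct.includeRight.restrictScalars κ) fun _ _ => Commute.all _ _
  refine isReduced_of_injective Φ (RingHom.injective_iff_ker_eq_bot Φ.toRingHom |>.2 ((Submodule.eq_bot_iff _).2 fun z hz => ?_))
  obtain ⟨ι, b⟩ := Module.Free.exists_basis (R := κ) (M := AlgebraicClosure κ)
  obtain ⟨y, rfl⟩ := (TensorProduct.equivFinsuppOfBasisLeft (N := S) b).symm.surjective z
  rw [TensorProduct.equivFinsuppOfBasisLeft_symm_apply] at hz ⊢
  have hz' : ∑ m ∈ y.support, f (b m) ⊗ₜ[K] (y m) = 0 := by
    rw [RingHom.mem_ker, Finsupp.sum, map_sum] at hz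
    rw [← hz]
    exact Finset.sum_congr rfl fun m _ => by simp [Φ]
  have hli : LinearIndependent K (fun m => f (b m)) := by
    have := linearIndependent_const (L := FractionRing (MvPolynomial σ (AlgebraicClosure κ))) hKL b b.linearIndependent
    have hfb : (fun m => f (b m)) = fun m => algebraMap (MvPolynomial σ (AlgebraicClosure κ))
        (FractionRing (MvPolynomial σ (AlgebraicClosure κ))) (C (b m)) := funext fun m =>
      IsScalarTower.algebraMap_apply (AlgebraicClosure κ) (MvPolynomial σ (AlgebraicClosure κ)) _ (b m)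
    rw [hfb]
    exact this
  have hy : ∀ i, ∀ m ∈ y.support, s.repr (y m) i = 0 := fun i => by
    have := congrArg (fun w => (s.baseChange (FractionRing (MvPolynomial σ (AlgebraicClosure κ)))).repr w i) hz'
    simp only [map_sum, Finsupp.finsetSum_apply, map_zero, Finsupp.zero_apply, Module.Basis.baseChange_repr_tmul] at this
    exact linearIndependent_iff'.1 hli _ _ this
  have : ∀ m ∈ y.support, y m = 0 := fun m hm => s.ext_elem fun i => by rw [hy i m hm, map_zero, Finsupp.zero_apply]
  refine Finset.sum_eq_zero fun m hm => ?_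
  show b m ⊗ₜ[κ] y m = 0
  rw [this m hm, tmul_zero]

end Groth.Agent.H1Stab
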