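import Groth.Agent.H1Stab.Residue
import Groth.Agent.H1Stab.Valued
import Mathlib

/-!
# The fraction field is finite over the rational function field of Gauss coordinates
-/

set_option autoImplicit false

universe u

open MvPolynomial IsLocalRing

namespace Groth.Agent.H1Stab

theorem coord_injective {A B K L : Type u} [CommRing A] [IsDomain A] [IsDiscreteValuationRing A] [CommRing B]
    [IsDomain B] [IsLocalRing B] [Algebra A B] [IsLocalHom (algebraMap A B)] (hinj : Function.Injective (algebraMap A B))
    [Field K] [Field L] [Algebra A K] [IsFractionRing A K] [Algebra B L] [IsFractionRing B L]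
    [Algebra K L] [Algebra A L] [IsScalarTower A K L] [IsScalarTower A B L] {σ : Type u} (x : σ → B)
    (hx : Function.Injective (MvPolynomial.eval₂Hom (ResidueField.map (algebraMap A B)) (fun i => residue B (x i)))) :
    Function.Injective (MvPolynomial.aeval (R := K) (fun i => algebraMap B L (x i))) := by
  obtain ⟨π, hπ⟩ := IsDiscreteValuationRing.exists_irreducible A
  rw [injective_iff_map_eq_zero]
  intro p hp
  by_contra hp0
  obtain ⟨⟨d, hd⟩, hdp⟩ := IsLocalization.exist_integer_multiples (nonZeroDivisors A) p.support p.coeff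
  choose! a ha using hdp
  obtain ⟨q, hq⟩ : ∃ q : MvPolynomial σ A, MvPolynomial.map (algebraMap A K) q = MvPolynomial.C (algebraMap A K d) * p := by
    classical
    refine ⟨∑ m ∈ p.support, monomial m (a m), ?_⟩
    rw [map_sum]
    conv_rhs => rw [p.as_sum, Finset.mul_sum]
    refine Finset.sum_congr rfl fun m hm => ?_
    rw [MvPolynomial.map_monomial, MvPolynomial.C_mul_monomial, ha m hm, Algebra.smul_def]
  have hd0 : algebraMap A K d ≠ 0 := IsFractionRing.to_map_ne_zero_of_mem_nonZeroDivisors hd
  have hq0 : q ≠ 0 := fun h => by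
    rw [h, map_zero] at hq
    exact mul_ne_zero (fun hc => hd0 (MvPolynomial.C_eq_zero.1 hc)) hp0 hq.symm
  have hfin : FiniteMultiplicity (MvPolynomial.C π : MvPolynomial σ A) q := by
    refine FiniteMultiplicity.of_not_isUnit (fun hu => hπ.not_isUnit ?_) hq0
    simpa using hu.map (MvPolynomial.constantCoeff : MvPolynomial σ A →+* A)
  obtain ⟨q₁, hq₁, hnd⟩ := hfin.exists_eq_pow_mul_and_not_dvd
  have h1 : MvPolynomial.aeval (fun i => algebraMap B L (x i)) q = 0 := by
    rw [← MvPolynomial.aeval_map_algebraMap K, hq, map_mul, hp, mul_zero]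
  rw [hq₁, map_mul, map_pow, MvPolynomial.aeval_C, mul_eq_zero] at h1
  have hπL : algebraMap A L π ≠ 0 := by
    rw [IsScalarTower.algebraMap_apply A B L]
    exact (map_ne_zero_iff _ (IsFractionRing.injective B L)).2 ((map_ne_zero_iff _ hinj).2 hπ.ne_zero)
  have h2 := h1.resolve_left (pow_ne_zero _ hπL)
  have h3 : MvPolynomial.aeval x q₁ = (0 : B) := IsFractionRing.injective B L (by
    rw [map_zero, ← MvPolynomial.aeval_algebraMap_apply]; exact h2)
  have h4 : MvPolynomial.map (residue A) q₁ = 0 := hx (by
    rw [map_zero, MvPolynomial.eval₂Hom_map_hom]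
    have := congrArg (residue B) h3
    rw [map_zero, MvPolynomial.aeval_def, MvPolynomial.eval₂_comp_left] at this
    rw [← this]
    rfl)
  refine hnd ((MvPolynomial.C_dvd_iff_dvd_coeff _ _).2 fun m => ?_)
  have h5 := congrArg (coeff m) h4
  rw [coeff_map, coeff_zero, residue_eq_zero_iff, hπ.maximalIdeal_eq, Ideal.mem_span_singleton] at h5
  exact h5

/-- A local ring with Artinian special fibre generated by residues is quasi-finite over the coordinate ring. -/
theorem finite_quotient_pow {V B : Type u} [CommRing V] [CommRing B] [IsLocalRing B] [Algebra V B] {ϖ : B}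
    (hϖ : maximalIdeal B = Ideal.span {ϖ}) [Module.Finite V (ResidueField B)] :
    ∀ e : ℕ, Module.Finite V (B ⧸ Ideal.span {ϖ ^ e})
  | 0 => by
    haveI : Subsingleton (B ⧸ Ideal.span {ϖ ^ 0}) := Ideal.Quotient.subsingleton_iff.2 (by rw [pow_zero, Ideal.span_singleton_one])
    infer_instance
  | e + 1 => by
    haveI := finite_quotient_pow (V := V) hϖ e
    let π₁ : (B ⧸ Ideal.span {ϖ ^ (e + 1)}) →ₐ[V] B ⧸ Ideal.span {ϖ ^ e} :=
      Ideal.quotientMapₐ (Ideal.span {ϖ ^ e}) (AlgHom.id V B) (by
        rw [Ideal.span_singleton_le_iff_mem]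
        exact Ideal.mem_span_singleton.2 (pow_dvd_pow ϖ e.le_succ))
    let ι : B →ₗ[V] (B ⧸ Ideal.span {ϖ ^ (e + 1)}) :=
      ((Ideal.Quotient.mkₐ V _).toLinearMap).comp (LinearMap.mulLeft V (ϖ ^ e))
    haveI : Module.Finite V (LinearMap.range ι) := by
      have hker : LinearMap.ker (IsScalarTower.toAlgHom V B (ResidueField B)).toLinearMap ≤ LinearMap.ker ι := by
        intro b hb
        have hb' : residue B b = 0 := hb
        rw [residue_eq_zero_iff, hϖ, Ideal.mem_span_singleton] at hb'
        obtain ⟨c, rfl⟩ := hb'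
        rw [LinearMap.mem_ker]
        exact Ideal.Quotient.eq_zero_iff_mem.2 (Ideal.mem_span_singleton.2 ⟨c, by rw [LinearMap.mulLeft_apply]; ring⟩)
      have hsurj : Function.Surjective (IsScalarTower.toAlgHom V B (ResidueField B)).toLinearMap := residue_surjective
      let e₁ := LinearMap.quotKerEquivOfSurjective _ hsurj
      haveI : Module.Finite V (B ⧸ LinearMap.ker (IsScalarTower.toAlgHom V B (ResidueField B)).toLinearMap) :=
        Module.Finite.equiv e₁.symm
      exact Module.Finite.of_surjective
        ((Submodule.liftQ (LinearMap.ker (IsScalarTower.toAlgHom V B (ResidueField B)).toLinearMap) ι.rangeRestrict (by rw [LinearMap.ker_rangeRestrict]; exact hker)))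
        fun ⟨y, b, hb⟩ => ⟨Submodule.Quotient.mk b, Subtype.ext hb⟩
    have hk : LinearMap.ker π₁.toLinearMap = LinearMap.range ι := by
      ext z
      obtain ⟨b, rfl⟩ := Ideal.Quotient.mk_surjective z
      constructor
      · intro h
        obtain ⟨c, rfl⟩ := Ideal.mem_span_singleton.1 (Ideal.Quotient.eq_zero_iff_mem.1 (LinearMap.mem_ker.1 h))
        exact ⟨c, rfl⟩
      · rintro ⟨c, hc⟩
        rw [LinearMap.mem_ker, ← hc]
        exact Ideal.Quotient.eq_zero_iff_mem.2 (Ideal.mem_span_singleton.2 ⟨c, rfl⟩)
    haveI : Module.Finite V (LinearMap.ker π₁.toLinearMap) := hk ▸ inferInstance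
    haveI : Module.Finite V ((B ⧸ Ideal.span {ϖ ^ (e + 1)}) ⧸ LinearMap.ker π₁.toLinearMap) :=
      Module.Finite.equiv (LinearMap.quotKerEquivOfSurjective π₁.toLinearMap
        (fun z => by
          obtain ⟨b, rfl⟩ := Ideal.Quotient.mk_surjective z
          exact ⟨Ideal.Quotient.mk _ b, rfl⟩)).symm
    exact Module.Finite.of_submodule_quotient (LinearMap.ker π₁.toLinearMap)

/-- A local ring essentially of finite type with finite residue field and principal maximal ideal having a power in the extended ideal is quasi-finite. -/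
theorem quasiFinite_of_fibre {V B : Type u} [CommRing V] [CommRing B] [IsLocalRing B] [Algebra V B]
    [Algebra.EssFiniteType V B] [Module.Finite V (ResidueField B)] {ϖ : B} (hϖ : maximalIdeal B = Ideal.span {ϖ})
    {t : V} (ht : algebraMap V B t ∈ maximalIdeal B) {e : ℕ} {u : Bˣ} (hu : algebraMap V B t = u * ϖ ^ e) :
    Algebra.QuasiFinite V B := by
  haveI := finite_quotient_pow (V := V) hϖ e
  let C := Algebra.EssFiniteType.subalgebra V B
  let P : Ideal C := (maximalIdeal B).comap (algebraMap C B)
  haveI : P.IsPrime := Ideal.IsPrime.comap _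
  haveI hloc : IsLocalization.AtPrime B P := by
    have hM : Algebra.EssFiniteType.submonoid V B = P.primeCompl := Submonoid.ext fun c =>
      IsLocalRing.notMem_maximalIdeal.symm
    have := Algebra.EssFiniteType.isLocalization (R := V) (S := B)
    rw [hM] at this
    exact this
  let iso : Localization.AtPrime P ≃ₐ[C] B := IsLocalization.algEquiv P.primeCompl _ _
  let isoV : Localization.AtPrime P ≃ₐ[V] B := iso.restrictScalars V
  obtain ⟨I, hI⟩ : ∃ I : Ideal B, I = (P.under V).map (algebraMap V B) := ⟨_, rfl⟩
  have hle : Ideal.span {ϖ ^ e} ≤ I := by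
    rw [Ideal.span_singleton_le_iff_mem, hI]
    have hπP : t ∈ P.under V := by
      show algebraMap C B (algebraMap V C t) ∈ maximalIdeal B
      rw [← IsScalarTower.algebraMap_apply V C B]
      exact ht
    have h2 := Ideal.mem_map_of_mem (algebraMap V B) hπP
    rw [hu] at h2
    exact (Ideal.unit_mul_mem_iff_mem _ u.isUnit).1 h2
  haveI hfin : Module.Finite V (B ⧸ I) := by
    let f : (B ⧸ Ideal.span {ϖ ^ e}) →ₐ[V] B ⧸ I := Ideal.quotientMapₐ (I := Ideal.span {ϖ ^ e}) I (AlgHom.id V B) (fun z hz => hle hz)
    refine Module.Finite.of_surjective f.toLinearMap fun z => ?_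
    obtain ⟨b, rfl⟩ := Ideal.Quotient.mk_surjective z
    exact ⟨Ideal.Quotient.mk _ b, rfl⟩
  haveI hwq : Algebra.WeaklyQuasiFiniteAt V (S := C) P := by
    rw [Algebra.weaklyQuasiFiniteAt_iff]
    refine (Algebra.QuasiFinite.iff_of_algEquiv (Ideal.quotientEquivAlg _ _ isoV ?_)).2
      (inferInstance : Algebra.QuasiFinite V (B ⧸ I))
    rw [hI, Ideal.map_map]
    exact congrArg (fun h => Ideal.map h (P.under V)) (RingHom.ext fun v => (isoV.commutes v).symm)
  haveI : Algebra.QuasiFiniteAt V (S := C) P := Algebra.QuasiFiniteAt.of_weaklyQuasiFiniteAt P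
  exact (Algebra.QuasiFinite.iff_of_algEquiv isoV).1 inferInstance

theorem finite_over_coordinates {A B K L : Type u} [CommRing A] [IsDomain A] [IsDiscreteValuationRing A] [CommRing B]
    [IsDomain B] [IsDiscreteValuationRing B] [Algebra A B] [IsLocalHom (algebraMap A B)]
    (hinj : Function.Injective (algebraMap A B)) [Algebra.EssFiniteType A B]
    [Field K] [Field L] [Algebra A K] [IsFractionRing A K] [Algebra B L] [IsFractionRing B L]
    [Algebra K L] [Algebra A L] [IsScalarTower A K L] [IsScalarTower A B L] {σ : Type u} (x : σ → B)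
    (hx : Function.Injective (MvPolynomial.eval₂Hom (ResidueField.map (algebraMap A B)) (fun i => residue B (x i))))
    (halg : ∀ z : ResidueField B, ∃ P : Polynomial (ResidueField B), P ≠ 0 ∧ P.eval z = 0 ∧
      ∀ m, ∃ p : MvPolynomial σ A, residue B (MvPolynomial.aeval x p) = P.coeff m)
    {F : Type u} [Field F] [Algebra (MvPolynomial σ K) F] [IsFractionRing (MvPolynomial σ K) F] [Algebra F L]
    (hFL : ∀ p, algebraMap F L (algebraMap (MvPolynomial σ K) F p) = MvPolynomial.aeval (fun i => algebraMap B L (x i)) p) :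
    Module.Finite F L := by
  classical
  obtain ⟨π, hπ⟩ := IsDiscreteValuationRing.exists_irreducible A
  obtain ⟨ϖ, hϖ⟩ := IsDiscreteValuationRing.exists_irreducible B
  letI : Algebra (MvPolynomial σ A) B := (MvPolynomial.aeval x).toRingHom.toAlgebra
  haveI : IsScalarTower A (MvPolynomial σ A) B := IsScalarTower.of_algebraMap_eq fun a => (MvPolynomial.aeval x).commutes a |>.symm
  let q : Ideal (MvPolynomial σ A) := (maximalIdeal B).comap (algebraMap (MvPolynomial σ A) B)
  haveI : q.IsPrime := Ideal.IsPrime.comap _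
  let V := Localization.AtPrime q
  letI : Algebra V B := (IsLocalization.lift (M := q.primeCompl) (g := algebraMap (MvPolynomial σ A) B)
    fun y => IsLocalRing.notMem_maximalIdeal.1 y.2).toAlgebra
  haveI : IsScalarTower (MvPolynomial σ A) V B := IsScalarTower.of_algebraMap_eq fun p => (IsLocalization.lift_eq _ p).symm
  haveI : IsLocalHom (algebraMap V B) := IsLocalHom.mk fun v hv => by
    obtain ⟨p, y, rfl⟩ := IsLocalization.exists_mk'_eq q.primeCompl v
    refine (IsLocalization.AtPrime.isUnit_mk'_iff V q p y).2 fun hp => ?_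
    have h1 : IsLocalization.mk' V p y * algebraMap (MvPolynomial σ A) V y = algebraMap _ V p := IsLocalization.mk'_spec _ _ _
    have h2 := (hv.mul ((IsLocalization.map_units V y).map (algebraMap V B)))
    rw [← map_mul, h1, ← IsScalarTower.algebraMap_apply] at h2
    exact hp h2
  haveI : IsScalarTower A V B := IsScalarTower.of_algebraMap_eq fun a => by
    rw [IsScalarTower.algebraMap_apply A (MvPolynomial σ A) V, ← IsScalarTower.algebraMap_apply (MvPolynomial σ A) V B, ← IsScalarTower.algebraMap_apply]
  haveI : Algebra.EssFiniteType V B := Algebra.EssFiniteType.of_comp A V B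
  haveI : IsScalarTower V (ResidueField V) (ResidueField B) := IsScalarTower.of_algebraMap_eq fun v =>
    (ResidueField.map_residue (algebraMap V B) v).symm
  haveI : Algebra.EssFiniteType V (ResidueField B) := Algebra.EssFiniteType.comp V B (ResidueField B)
  haveI : Algebra.EssFiniteType (ResidueField V) (ResidueField B) := Algebra.EssFiniteType.of_comp V (ResidueField V) (ResidueField B)
  haveI : Algebra.IsAlgebraic (ResidueField V) (ResidueField B) := ⟨fun z => by
    obtain ⟨P, hP0, hPz, hPc⟩ := halg z
    obtain ⟨Q, hQ⟩ : P ∈ Polynomial.lifts (algebraMap (ResidueField V) (ResidueField B)) :=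
      (Polynomial.lifts_iff_coeff_lifts _).2 fun m => by
        obtain ⟨p, hp⟩ := hPc m
        refine ⟨residue V (algebraMap _ V p), ?_⟩
        rw [show algebraMap (ResidueField V) (ResidueField B) (residue V _) = residue B (algebraMap V B (algebraMap _ V p)) from
          ResidueField.map_residue (algebraMap V B) _, ← IsScalarTower.algebraMap_apply]
        exact hp
    refine ⟨Q, fun h => hP0 ?_, ?_⟩
    · rw [← hQ, h]; exact map_zero _
    · rw [← Polynomial.aeval_map_algebraMap (ResidueField B), ← Polynomial.coe_mapRingHom, hQ,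
        Polynomial.coe_aeval_eq_eval]
      exact hPz⟩
  haveI : Module.Finite (ResidueField V) (ResidueField B) := finite_of_essFiniteType _ _
  haveI : Module.Finite V (ResidueField V) := Module.Finite.of_surjective (Algebra.linearMap V _) residue_surjective
  haveI : Module.Finite V (ResidueField B) := Module.Finite.trans (ResidueField V) _
  obtain ⟨e, u, hu⟩ := IsDiscreteValuationRing.eq_unit_mul_pow_irreducible ((map_ne_zero_iff _ hinj).2 hπ.ne_zero) hϖ
  haveI : Algebra.QuasiFinite V B := quasiFinite_of_fibre hϖ.maximalIdeal_eq (t := algebraMap A V π)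
    (by
      rw [← IsScalarTower.algebraMap_apply A V B]
      exact (mem_maximalIdeal _).2 fun h => hπ.not_isUnit (isUnit_of_map_unit (algebraMap A B) π h))
    (e := e) (u := u) (by rw [← IsScalarTower.algebraMap_apply A V B]; exact hu)
  haveI : Algebra.QuasiFinite (MvPolynomial σ A) V := Algebra.QuasiFinite.of_isLocalization q.primeCompl
  haveI : Algebra.QuasiFinite (MvPolynomial σ A) B := Algebra.QuasiFinite.trans (MvPolynomial σ A) V B
  letI : Algebra (MvPolynomial σ A) L := ((algebraMap B L).comp (algebraMap (MvPolynomial σ A) B)).toAlgebra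
  haveI : IsScalarTower (MvPolynomial σ A) B L := IsScalarTower.of_algebraMap_eq fun _ => rfl
  haveI : Algebra.QuasiFinite (MvPolynomial σ A) L := Algebra.QuasiFinite.of_isLocalization (S := B) (nonZeroDivisors B)
  letI : Algebra (MvPolynomial σ A) F := ((algebraMap (MvPolynomial σ K) F).comp (MvPolynomial.map (algebraMap A K))).toAlgebra
  haveI : IsScalarTower (MvPolynomial σ A) F L := IsScalarTower.of_algebraMap_eq fun p => by
    show algebraMap B L (MvPolynomial.aeval x p) = algebraMap F L (algebraMap (MvPolynomial σ K) F (MvPolynomial.map (algebraMap A K) p))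
    rw [hFL, MvPolynomial.aeval_map_algebraMap, ← MvPolynomial.aeval_algebraMap_apply]
    rfl
  haveI : Algebra.QuasiFinite F L := Algebra.QuasiFinite.of_restrictScalars (MvPolynomial σ A) F L
  exact Module.Finite.of_quasiFinite

end Groth.Agent.H1Stab
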