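import Mathlib.RingTheory.Valuation.ValuationSubring
import Mathlib.RingTheory.MvPolynomial.Basic
import Mathlib.RingTheory.Localization.FractionRing
import Mathlib.RingTheory.LocalRing.ResidueField.Basic
import Mathlib.Algebra.MvPolynomial.NoZeroDivisors
import Mathlib.RingTheory.Polynomial.Basic

/-!
# The Gauss extension of a valuation ring to a rational function field

For a valuation ring `O` of a field `Ω` with residue field `κ`, a field `k` receiving `O` with kernel the
maximal ideal, and rational function fields `F` over `Ω` and `Fk` over `k` in the variables `σ`, the Gauss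
ring consists of the fractions `p / q` with `p, q` over `O` and `q` non-zero modulo the maximal ideal.
-/

set_option autoImplicit false

universe u v

open IsLocalRing MvPolynomial

namespace Groth.Agent.H1Stab

variable {Ω : Type u} [Field Ω] (O : ValuationSubring Ω) (σ : Type v)

/-- A polynomial over `O` is primitive when it is non-zero modulo the maximal ideal. -/
def Primitive (q : MvPolynomial σ O) : Prop := MvPolynomial.map (residue O) q ≠ 0

variable {σ}

theorem primitive_one : Primitive O σ 1 := by rw [Primitive, map_one]; exact one_ne_zero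

theorem Primitive.mul {O : ValuationSubring Ω} {p q : MvPolynomial σ O} (hp : Primitive O σ p)
    (hq : Primitive O σ q) : Primitive O σ (p * q) := by
  rw [Primitive, map_mul]; exact mul_ne_zero hp hq

theorem map_subtype_injective : Function.Injective (MvPolynomial.map (σ := σ) O.subtype) :=
  MvPolynomial.map_injective _ Subtype.val_injective

/-- Every non-zero polynomial is a scalar times a primitive one. -/
theorem exists_primitive {p : MvPolynomial σ Ω} (hp : p ≠ 0) :
    ∃ (c : Ω) (p₁ : MvPolynomial σ O), c ≠ 0 ∧ Primitive O σ p₁ ∧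
      p = C c * MvPolynomial.map O.subtype p₁ := by
  classical
  obtain ⟨d, hd, hmax⟩ := p.support.exists_max_image (fun d => O.valuation (p.coeff d))
    (Finset.nonempty_of_ne_empty (fun h => hp (support_eq_empty.1 h)))
  obtain ⟨c, hc⟩ : ∃ c, c = p.coeff d := ⟨_, rfl⟩
  have hc0 : c ≠ 0 := hc ▸ mem_support_iff.1 hd
  have hmem : ∀ e, p.coeff e / c ∈ O := fun e => by
    rw [← O.valuation_le_one_iff, map_div₀, div_le_one₀ (zero_lt_iff.2 ((O.valuation).ne_zero_iff.2 hc0))]
    by_cases he : e ∈ p.support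
    · exact hc ▸ hmax e he
    · rw [notMem_support_iff.1 he, map_zero]; exact zero_le'
  let p₁ : MvPolynomial σ O := ∑ e ∈ p.support, monomial e ⟨p.coeff e / c, hmem e⟩
  have hcoeff : ∀ e, ((p₁.coeff e : O) : Ω) = p.coeff e / c := fun e => by
    simp only [p₁, coeff_sum, coeff_monomial, Finset.sum_ite_eq']
    split_ifs with he
    · rfl
    · rw [notMem_support_iff.1 he, zero_div, ZeroMemClass.coe_zero]
  refine ⟨c, p₁, hc0, fun h => ?_, ?_⟩
  · have h1 := congrArg (coeff d) h
    rw [coeff_map, coeff_zero, show p₁.coeff d = 1 from Subtype.ext ((hcoeff d).trans (by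
      rw [hc, div_self (hc ▸ hc0)]; rfl)), map_one] at h1
    exact one_ne_zero h1
  · ext e
    rw [coeff_C_mul, coeff_map]
    show p.coeff e = c * ((p₁.coeff e : O) : Ω)
    rw [hcoeff, mul_div_cancel₀ _ hc0]

variable (σ) {F : Type*} [Field F] [Algebra (MvPolynomial σ Ω) F] [IsFractionRing (MvPolynomial σ Ω) F]

/-- Polynomials over `O` inside the rational function field. -/
noncomputable def toF (F : Type*) [Field F] [Algebra (MvPolynomial σ Ω) F] : MvPolynomial σ O →+* F :=
  (algebraMap (MvPolynomial σ Ω) F).comp (MvPolynomial.map O.subtype)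

variable {σ}

theorem toF_injective : Function.Injective (toF O σ F) :=
  (IsFractionRing.injective _ F).comp (map_subtype_injective O)

theorem toF_ne_zero {q : MvPolynomial σ O} (hq : Primitive O σ q) : toF O σ F q ≠ 0 := fun h =>
  hq (by rw [toF_injective O (h.trans (map_zero _).symm), map_zero])

theorem exists_primitive_fraction {z : F} (hz : z ≠ 0) :
    ∃ (c : Ω) (p q : MvPolynomial σ O), c ≠ 0 ∧ Primitive O σ p ∧ Primitive O σ q ∧
      z * toF O σ F q = algebraMap (MvPolynomial σ Ω) F (C c) * toF O σ F p := by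
  obtain ⟨a, b, hb, rfl⟩ := IsFractionRing.div_surjective (MvPolynomial σ Ω) z
  have hb0 : b ≠ 0 := nonZeroDivisors.ne_zero hb
  have ha0 : a ≠ 0 := fun h => hz (by rw [h, map_zero, zero_div])
  obtain ⟨ca, pa, hca, hpa, rfl⟩ := exists_primitive O ha0
  obtain ⟨cb, pb, hcb, hpb, rfl⟩ := exists_primitive O hb0
  refine ⟨ca / cb, pa, pb, div_ne_zero hca hcb, hpa, hpb, ?_⟩
  have h1 : algebraMap (MvPolynomial σ Ω) F (C (ca / cb)) * algebraMap (MvPolynomial σ Ω) F (C cb) =
      algebraMap (MvPolynomial σ Ω) F (C ca) := by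
    rw [← map_mul, ← map_mul, div_mul_cancel₀ _ hcb]
  have h2 : algebraMap (MvPolynomial σ Ω) F (C cb) ≠ 0 :=
    (map_ne_zero_iff _ (IsFractionRing.injective _ F)).2 (fun h => hcb (C_eq_zero.1 h))
  rw [map_mul, map_mul, ← h1]
  simp only [toF, RingHom.comp_apply]
  field_simp [h2, show algebraMap (MvPolynomial σ Ω) F (MvPolynomial.map O.subtype pb) ≠ 0 from toF_ne_zero O hpb]

variable (σ F)

theorem gauss_mem_or_inv (z : F) :
    (∃ p q : MvPolynomial σ O, Primitive O σ q ∧ z * toF O σ F q = toF O σ F p) ∨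
      ∃ p q : MvPolynomial σ O, Primitive O σ q ∧ z⁻¹ * toF O σ F q = toF O σ F p := by
  rcases eq_or_ne z 0 with rfl | hz
  · exact Or.inl ⟨0, 1, primitive_one O, by rw [zero_mul, map_zero]⟩
  obtain ⟨c, p, q, hc, hp, hq, h⟩ := exists_primitive_fraction (σ := σ) O hz
  have hC : ∀ d : O, algebraMap (MvPolynomial σ Ω) F (C (d : Ω)) = toF O σ F (C d) := fun d => by
    rw [toF, RingHom.comp_apply, MvPolynomial.map_C]; rfl
  rcases O.mem_or_inv_mem c with hmem | hmem
  · refine Or.inl ⟨C ⟨c, hmem⟩ * p, q, hq, ?_⟩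
    rw [h, map_mul, ← hC]
  · refine Or.inr ⟨C ⟨c⁻¹, hmem⟩ * q, p, hp, ?_⟩
    rw [map_mul, ← hC, inv_mul_eq_iff_eq_mul₀ hz]
    calc toF O σ F p = algebraMap (MvPolynomial σ Ω) F (C (c⁻¹ * c)) * toF O σ F p := by
          rw [inv_mul_cancel₀ hc, map_one, map_one, one_mul]
      _ = algebraMap (MvPolynomial σ Ω) F (C c⁻¹) * (z * toF O σ F q) := by
          rw [h, map_mul, map_mul, mul_assoc]
      _ = z * (algebraMap (MvPolynomial σ Ω) F (C c⁻¹) * toF O σ F q) := by ring

/-- The Gauss ring. -/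
noncomputable def gaussRing : ValuationSubring F where
  carrier := {z | ∃ p q : MvPolynomial σ O, Primitive O σ q ∧ z * toF O σ F q = toF O σ F p}
  mul_mem' := by
    rintro a b ⟨p, q, hq, h⟩ ⟨p', q', hq', h'⟩
    exact ⟨p * p', q * q', hq.mul hq', by rw [map_mul, map_mul, ← h, ← h']; ring⟩
  one_mem' := ⟨1, 1, primitive_one O, by rw [map_one, mul_one]⟩
  add_mem' := by
    rintro a b ⟨p, q, hq, h⟩ ⟨p', q', hq', h'⟩
    exact ⟨p * q' + p' * q, q * q', hq.mul hq', by rw [map_add, map_mul, map_mul, map_mul, ← h, ← h']; ring⟩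
  zero_mem' := ⟨0, 1, primitive_one O, by rw [zero_mul, map_zero]⟩
  neg_mem' := by
    rintro a ⟨p, q, hq, h⟩
    exact ⟨-p, q, hq, by rw [map_neg, ← h, neg_mul]⟩
  mem_or_inv_mem' := fun z => gauss_mem_or_inv O σ F z

variable {σ F}

theorem toF_mem (p : MvPolynomial σ O) : toF O σ F p ∈ gaussRing O σ F :=
  ⟨p, 1, primitive_one O, by rw [map_one, mul_one]⟩

theorem div_mem (p : MvPolynomial σ O) {q : MvPolynomial σ O} (hq : Primitive O σ q) :
    toF O σ F p / toF O σ F q ∈ gaussRing O σ F :=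
  ⟨p, q, hq, div_mul_cancel₀ _ (toF_ne_zero O hq)⟩

/-- A polynomial in the Gauss ring has coefficients in `O`. -/
theorem coeff_mem {a : MvPolynomial σ Ω} (ha : algebraMap (MvPolynomial σ Ω) F a ∈ gaussRing O σ F) :
    ∃ a' : MvPolynomial σ O, MvPolynomial.map O.subtype a' = a := by
  rcases eq_or_ne a 0 with rfl | ha0
  · exact ⟨0, map_zero _⟩
  obtain ⟨c, a₁, hc, hprim, hca⟩ := exists_primitive O ha0
  subst hca
  suffices c ∈ O by
    refine ⟨C ⟨c, this⟩ * a₁, ?_⟩
    rw [map_mul, MvPolynomial.map_C]; rfl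
  by_contra hcO
  obtain ⟨p, q, hq, h⟩ := ha
  have hinv : c⁻¹ ∈ O := (O.mem_or_inv_mem c).resolve_left hcO
  have h1 : a₁ * q = C ⟨c⁻¹, hinv⟩ * p := by
    refine toF_injective (F := F) O ?_
    have key : algebraMap (MvPolynomial σ Ω) F (C c⁻¹) * algebraMap (MvPolynomial σ Ω) F (C c) = 1 := by
      rw [← map_mul, ← map_mul, inv_mul_cancel₀ hc, map_one, map_one]
    have e : toF O σ F (C ⟨c⁻¹, hinv⟩) = algebraMap (MvPolynomial σ Ω) F (C c⁻¹) := by
      rw [toF, RingHom.comp_apply, MvPolynomial.map_C]; rfl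
    rw [map_mul, map_mul, ← h, e, map_mul]
    simp only [toF, RingHom.comp_apply]
    linear_combination (-(algebraMap (MvPolynomial σ Ω) F (MvPolynomial.map O.subtype a₁) *
      algebraMap (MvPolynomial σ Ω) F (MvPolynomial.map O.subtype q))) * key
  refine hprim.mul hq ?_
  rw [h1, map_mul, MvPolynomial.map_C, (residue_eq_zero_iff _).2, C_0, zero_mul]
  refine (mem_maximalIdeal _).2 fun hu => hcO ?_
  obtain ⟨d, hd⟩ := hu.exists_right_inv
  have h2 : c⁻¹ * (d : Ω) = 1 := congrArg Subtype.val hd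
  rw [show c = (d : Ω) from (eq_of_inv_mul_eq_one h2)]
  exact d.2

variable {k : Type*} [Field k] (ρ : O →+* k) (hρ : RingHom.ker ρ = maximalIdeal O)
  (Fk : Type*) [Field Fk] [Algebra (MvPolynomial σ k) Fk] [IsFractionRing (MvPolynomial σ k) Fk]

include hρ in
theorem primitive_iff {q : MvPolynomial σ O} : Primitive O σ q ↔ MvPolynomial.map ρ q ≠ 0 := by
  have key : ∀ f : O →+* k, RingHom.ker f = maximalIdeal O →
      (MvPolynomial.map f q = 0 ↔ ∀ d, q.coeff d ∈ maximalIdeal O) := fun f hf => by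
    rw [MvPolynomial.ext_iff]
    refine forall_congr' fun d => ?_
    rw [coeff_map, coeff_zero, ← hf, RingHom.mem_ker]
  rw [Primitive, not_iff_not, key ρ hρ, MvPolynomial.ext_iff]
  refine forall_congr' fun d => ?_
  rw [coeff_map, coeff_zero, residue_eq_zero_iff]

/-- Reduction of polynomials into the residual rational function field. -/
noncomputable def red : MvPolynomial σ O →+* Fk :=
  (algebraMap (MvPolynomial σ k) Fk).comp (MvPolynomial.map ρ)

include hρ in
theorem red_ne_zero {q : MvPolynomial σ O} (hq : Primitive O σ q) : red O ρ Fk q ≠ 0 :=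
  (map_ne_zero_iff _ (IsFractionRing.injective _ Fk)).2 ((primitive_iff O ρ hρ).1 hq)

include hρ in
theorem red_congr {z : F} {p q p' q' : MvPolynomial σ O} (hq : Primitive O σ q) (hq' : Primitive O σ q')
    (h : z * toF O σ F q = toF O σ F p) (h' : z * toF O σ F q' = toF O σ F p') :
    red O ρ Fk p / red O ρ Fk q = red O ρ Fk p' / red O ρ Fk q' := by
  rw [div_eq_div_iff (red_ne_zero O ρ hρ Fk hq) (red_ne_zero O ρ hρ Fk hq'), ← map_mul, ← map_mul]
  refine congrArg _ (toF_injective (F := F) O ?_)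
  rw [map_mul, map_mul, ← h, ← h']; ring

/-- The residue map of the Gauss ring. -/
noncomputable def gaussRes : gaussRing O σ F →+* Fk where
  toFun z := red O ρ Fk z.2.choose / red O ρ Fk z.2.choose_spec.choose
  map_one' := by
    refine (red_congr O ρ hρ Fk (1 : gaussRing O σ F).2.choose_spec.choose_spec.1 (primitive_one O)
      (1 : gaussRing O σ F).2.choose_spec.choose_spec.2 (p' := 1) ?_).trans ?_
    · rw [map_one, mul_one]; rfl
    · rw [map_one, div_one]
  map_zero' := by
    refine (red_congr O ρ hρ Fk (0 : gaussRing O σ F).2.choose_spec.choose_spec.1 (primitive_one O)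
      (0 : gaussRing O σ F).2.choose_spec.choose_spec.2 (p' := 0) ?_).trans ?_
    · rw [map_zero]; exact zero_mul _
    · rw [map_zero, zero_div]
  map_mul' z w := by
    obtain ⟨hq, h⟩ := z.2.choose_spec.choose_spec
    obtain ⟨hq', h'⟩ := w.2.choose_spec.choose_spec
    refine (red_congr O ρ hρ Fk (z * w).2.choose_spec.choose_spec.1 (hq.mul hq')
      (z * w).2.choose_spec.choose_spec.2 (p' := z.2.choose * w.2.choose) ?_).trans ?_
    · show (z : F) * (w : F) * _ = _
      rw [map_mul, map_mul]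
      linear_combination ((w : F) * toF O σ F w.2.choose_spec.choose) * h + toF O σ F z.2.choose * h' 
    · rw [map_mul, map_mul, div_mul_div_comm]
  map_add' z w := by
    obtain ⟨hq, h⟩ := z.2.choose_spec.choose_spec
    obtain ⟨hq', h'⟩ := w.2.choose_spec.choose_spec
    refine (red_congr O ρ hρ Fk (z + w).2.choose_spec.choose_spec.1 (hq.mul hq')
      (z + w).2.choose_spec.choose_spec.2
      (p' := z.2.choose * w.2.choose_spec.choose + w.2.choose * z.2.choose_spec.choose) ?_).trans ?_
    · show ((z : F) + (w : F)) * _ = _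
      rw [map_mul, map_add, map_mul, map_mul]
      linear_combination (toF O σ F w.2.choose_spec.choose) * h + toF O σ F z.2.choose_spec.choose * h' 
    · rw [map_add, map_mul, map_mul, map_mul, div_add_div _ _ (red_ne_zero O ρ hρ Fk hq) (red_ne_zero O ρ hρ Fk hq')]
      ring

theorem gaussRes_eq {z : gaussRing O σ F} {p q : MvPolynomial σ O} (hq : Primitive O σ q)
    (h : (z : F) * toF O σ F q = toF O σ F p) :
    gaussRes O ρ hρ Fk z = red O ρ Fk p / red O ρ Fk q :=
  red_congr O ρ hρ Fk z.2.choose_spec.choose_spec.1 hq z.2.choose_spec.choose_spec.2 h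

theorem gaussRes_toF (p : MvPolynomial σ O) :
    gaussRes O ρ hρ Fk ⟨toF O σ F p, toF_mem O p⟩ = red O ρ Fk p := by
  rw [gaussRes_eq O ρ hρ Fk (primitive_one O) (p := p) (by rw [map_one, mul_one]), map_one, div_one]

theorem gaussRes_surjective (hρs : Function.Surjective ρ) :
    Function.Surjective (gaussRes (σ := σ) (F := F) O ρ hρ Fk) := by
  intro y
  obtain ⟨a, b, hb, rfl⟩ := IsFractionRing.div_surjective (MvPolynomial σ k) y
  obtain ⟨p, rfl⟩ := MvPolynomial.map_surjective ρ hρs a
  obtain ⟨q, rfl⟩ := MvPolynomial.map_surjective ρ hρs b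
  have hq : Primitive O σ q := (primitive_iff O ρ hρ).2 (nonZeroDivisors.ne_zero hb)
  exact ⟨⟨_, div_mem O p hq⟩, gaussRes_eq O ρ hρ Fk hq (div_mul_cancel₀ _ (toF_ne_zero O hq))⟩

theorem isUnit_of_gaussRes_ne_zero {z : gaussRing O σ F} (hz : gaussRes O ρ hρ Fk z ≠ 0) : IsUnit z := by
  obtain ⟨p, q, hq, h⟩ := z.2
  rw [gaussRes_eq O ρ hρ Fk hq h] at hz
  have hp : Primitive O σ p := (primitive_iff O ρ hρ).2 fun h0 => hz (by
    rw [red, RingHom.comp_apply, h0, map_zero, zero_div])
  have hz0 : (z : F) ≠ 0 := fun h0 => toF_ne_zero (F := F) O hp (by rw [← h, h0, zero_mul])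
  have hinv : (z : F)⁻¹ ∈ gaussRing O σ F := ⟨q, p, hp, by rw [← h, inv_mul_cancel_left₀ hz0]⟩
  exact IsUnit.of_mul_eq_one ⟨_, hinv⟩ (Subtype.ext (mul_inv_cancel₀ hz0))

theorem gaussRes_eq_zero_iff (z : gaussRing O σ F) :
    gaussRes O ρ hρ Fk z = 0 ↔ z ∈ maximalIdeal (gaussRing O σ F) := by
  refine ⟨fun h hu => (hu.map (gaussRes O ρ hρ Fk)).ne_zero h, fun h => ?_⟩
  by_contra h0
  exact (mem_maximalIdeal _).1 h (isUnit_of_gaussRes_ne_zero O ρ hρ Fk h0)

include ρ hρ Fk in
theorem isUnit_div {p q : MvPolynomial σ O} (hp : Primitive O σ p) (hq : Primitive O σ q) :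
    IsUnit (⟨toF O σ F p / toF O σ F q, div_mem O p hq⟩ : gaussRing O σ F) := by
  refine isUnit_of_gaussRes_ne_zero O ρ hρ Fk ?_
  rw [gaussRes_eq O ρ hρ Fk hq (div_mul_cancel₀ _ (toF_ne_zero O hq))]
  exact div_ne_zero (red_ne_zero O ρ hρ Fk hp) (red_ne_zero O ρ hρ Fk hq)

end Groth.Agent.H1Stab
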