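import Groth.Agent.H1Stab.Ultra
import Mathlib.LinearAlgebra.FiniteDimensional.Basic
import Mathlib.LinearAlgebra.Dimension.Constructions

/-!
# Orthonormal bases of finite-dimensional normed spaces over spherically complete fields
-/

set_option autoImplicit false

universe u v

namespace Groth.Agent.H1Stab

variable {Ω : Type u} [Field Ω] (v : AbsoluteValue Ω ℝ)

/-- A non-archimedean norm with values in the value set of the field. -/
structure IsVNorm {V : Type*} [AddCommGroup V] [Module Ω V] (N : V → ℝ) : Prop where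
  smul : ∀ (c : Ω) (x : V), N (c • x) = v c * N x
  add_le : ∀ x y : V, N (x + y) ≤ max (N x) (N y)
  eq_zero : ∀ x : V, N x = 0 → x = 0
  value : ∀ x : V, ∃ c : Ω, N x = v c

theorem IsVNorm.nonneg {V : Type*} [AddCommGroup V] [Module Ω V] {N : V → ℝ} (h : IsVNorm v N) (x : V) : 0 ≤ N x := by
  obtain ⟨c, hc⟩ := h.value x
  rw [hc]; exact v.nonneg c

theorem IsVNorm.map_zero {V : Type*} [AddCommGroup V] [Module Ω V] {N : V → ℝ} (h : IsVNorm v N) : N 0 = 0 := by
  have := h.smul 0 0
  rwa [zero_smul, _root_.map_zero v, zero_mul] at this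

theorem IsVNorm.map_neg {V : Type*} [AddCommGroup V] [Module Ω V] {N : V → ℝ} (h : IsVNorm v N) (x : V) : N (-x) = N x := by
  have := h.smul (-1) x
  rwa [neg_one_smul, AbsoluteValue.map_neg, _root_.map_one v, one_mul] at this

theorem IsVNorm.sum_le {V : Type*} [AddCommGroup V] [Module Ω V] {N : V → ℝ} (h : IsVNorm v N) {α : Type*}
    (s : Finset α) (f : α → V) {b : ℝ} (hb : 0 ≤ b) (hf : ∀ i ∈ s, N (f i) ≤ b) : N (∑ i ∈ s, f i) ≤ b := by
  classical
  induction s using Finset.induction_on with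
  | empty => rw [Finset.sum_empty, h.map_zero]; exact hb
  | insert i s hi ih =>
    rw [Finset.sum_insert hi]
    exact (h.add_le _ _).trans (max_le (hf i (Finset.mem_insert_self i s))
      (ih fun j hj => hf j (Finset.mem_insert_of_mem hj)))

/-- The nearest point of an orthonormal span exists. -/
theorem exists_nearest (hB : BallsMeet v) {V : Type*} [AddCommGroup V] [Module Ω V] {N : V → ℝ}
    (h : IsVNorm v N) {k : ℕ} (b : Fin k → V) (hb1 : ∀ i, N (b i) = 1)
    (hb : ∀ (c : Fin k → Ω) (i : Fin k), v (c i) ≤ N (∑ j, c j • b j)) (x : V) :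
    ∃ c : Fin k → Ω, ∀ c' : Fin k → Ω, N (x - ∑ j, c j • b j) ≤ N (x - ∑ j, c' j • b j) := by
  classical
  let S : Set ℝ := Set.range fun c : Fin k → Ω => N (x - ∑ j, c j • b j)
  have hne : S.Nonempty := Set.range_nonempty _
  have hbd : BddBelow S := ⟨0, by rintro _ ⟨c, rfl⟩; exact h.nonneg _ _⟩
  let r := sInf S
  have hr : 0 ≤ r := le_csInf hne (by rintro _ ⟨c, rfl⟩; exact h.nonneg _ _)
  have hex : ∀ n : ℕ, ∃ c : Fin k → Ω, N (x - ∑ j, c j • b j) ≤ r + 1 / (n + 1 : ℝ) := fun n => by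
    obtain ⟨_, ⟨c, rfl⟩, hlt⟩ := exists_lt_of_csInf_lt hne (lt_add_of_pos_right r
      (show (0 : ℝ) < 1 / (n + 1 : ℝ) by positivity))
    exact ⟨c, hlt.le⟩
  choose c hc using hex
  have hmono : ∀ n m : ℕ, n ≤ m → r + 1 / (m + 1 : ℝ) ≤ r + 1 / (n + 1 : ℝ) := fun n m hnm =>
    add_le_add le_rfl (one_div_le_one_div_of_le (by positivity) (by exact_mod_cast Nat.succ_le_succ hnm))
  have hcoord : ∀ n m : ℕ, n ≤ m → ∀ i, v (c n i - c m i) ≤ r + 1 / (n + 1 : ℝ) := fun n m hnm i => by
    refine (hb (fun j => c n j - c m j) i).trans ?_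
    have : ∑ j, (c n j - c m j) • b j = (x - ∑ j, c m j • b j) + -(x - ∑ j, c n j • b j) := by
      simp only [sub_smul, Finset.sum_sub_distrib]; abel
    rw [this]
    refine (h.add_le _ _).trans (max_le ((hc m).trans (hmono n m hnm)) ?_)
    rw [h.map_neg]
    exact hc n
  choose z hz using fun i : Fin k => hB (fun n => c n i) (fun n => r + 1 / (n + 1 : ℝ))
    (fun n => by positivity) hmono (fun n m hnm => hcoord n m hnm i)
  refine ⟨z, fun c' => le_trans ?_ (csInf_le hbd ⟨c', rfl⟩)⟩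
  refine le_of_forall_pos_le_add fun e he => ?_
  obtain ⟨n, hn⟩ := exists_nat_one_div_lt he
  refine le_trans ?_ (add_le_add le_rfl hn.le)
  have : x - ∑ j, z j • b j = (x - ∑ j, c n j • b j) + -∑ j, (z j - c n j) • b j := by
    simp only [sub_smul, Finset.sum_sub_distrib]; abel
  rw [this]
  refine (h.add_le _ _).trans (max_le (hc n) ?_)
  rw [h.map_neg]
  refine h.sum_le v _ _ (by positivity) fun j _ => ?_
  rw [h.smul, hb1, mul_one]
  exact hz j n

theorem exists_orth (hB : BallsMeet v) {V : Type*} [AddCommGroup V] [Module Ω V] [FiniteDimensional Ω V]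
    {N : V → ℝ} (h : IsVNorm v N) :
    ∃ b : Fin (Module.finrank Ω V) → V, (∀ i, N (b i) = 1) ∧
      ∀ (c : Fin (Module.finrank Ω V) → Ω) (i), v (c i) ≤ N (∑ j, c j • b j) := by
  suffices ∀ k ≤ Module.finrank Ω V, ∃ b : Fin k → V, (∀ i, N (b i) = 1) ∧
      ∀ (c : Fin k → Ω) (i), v (c i) ≤ N (∑ j, c j • b j) from this _ le_rfl
  intro k
  induction k with
  | zero => exact fun _ => ⟨Fin.elim0, fun i => i.elim0, fun c i => i.elim0⟩
  | succ k ih =>
    intro hk
    obtain ⟨b, hb1, hb⟩ := ih (Nat.le_of_succ_le hk)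
    have hne : Submodule.span Ω (Set.range b) ≠ ⊤ := fun htop => by
      have h1 := finrank_range_le_card (R := Ω) b
      rw [Set.finrank, htop, finrank_top, Fintype.card_fin] at h1
      omega
    obtain ⟨x, hx⟩ := SetLike.exists_not_mem_of_ne_top _ hne
    obtain ⟨c₀, hc₀⟩ := exists_nearest v hB h b hb1 hb x
    have hx0 : x - ∑ j, c₀ j • b j ≠ 0 := fun h0 => hx (by
      rw [sub_eq_zero.1 h0]
      exact Submodule.sum_mem _ fun j _ => Submodule.smul_mem _ _ (Submodule.subset_span ⟨j, rfl⟩))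
    obtain ⟨a, ha⟩ := h.value (x - ∑ j, c₀ j • b j)
    have ha0 : a ≠ 0 := fun h0 => hx0 (h.eq_zero _ (by rw [ha, h0, _root_.map_zero v]))
    let y := a⁻¹ • (x - ∑ j, c₀ j • b j)
    have hy1 : N y = 1 := by
      rw [h.smul, ha, map_inv₀, inv_mul_cancel₀ (v.ne_zero ha0)]
    have hy : ∀ (e : Ω) (c : Fin k → Ω), v e ≤ N ((∑ j, c j • b j) + e • y) := by
      intro e c
      rcases eq_or_ne e 0 with rfl | he
      · rw [_root_.map_zero v]; exact h.nonneg _ _
      have key := hc₀ fun j => c₀ j - a / e * c j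
      have e1 : x - ∑ j, (c₀ j - a / e * c j) • b j = (a / e) • ((∑ j, c j • b j) + e • y) := by
        simp only [sub_smul, Finset.sum_sub_distrib, y, smul_add, Finset.smul_sum, smul_smul]
        rw [show a / e * (e * a⁻¹) = 1 by field_simp, one_smul]
        abel
      rw [ha, e1, h.smul, map_div₀, div_mul_eq_mul_div, le_div_iff₀ (v.pos he)] at key
      exact le_of_mul_le_mul_left key (v.pos ha0)
    refine ⟨Fin.snoc b y, fun i => ?_, fun c i => ?_⟩
    · refine Fin.lastCases ?_ (fun i => ?_) i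
      · rwa [Fin.snoc_last]
      · rw [Fin.snoc_castSucc]; exact hb1 i
    · rw [Fin.sum_univ_castSucc]
      simp only [Fin.snoc_castSucc, Fin.snoc_last]
      have hlast := hy (c (Fin.last k)) fun j => c j.castSucc
      refine Fin.lastCases hlast (fun i => ?_) i
      refine (hb (fun j => c j.castSucc) i).trans ?_
      have e2 : ∑ j : Fin k, c j.castSucc • b j = ((∑ j : Fin k, c j.castSucc • b j) + c (Fin.last k) • y) +
          -(c (Fin.last k) • y) := by abel
      conv_lhs => rw [e2]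
      refine (h.add_le _ _).trans (max_le le_rfl ?_)
      rw [h.map_neg, h.smul, hy1, mul_one]
      exact hlast

end Groth.Agent.H1Stab
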