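import Groth.Agent.H1Stab.Gauss
import Groth.Agent.H1Stab.Orth
import Mathlib.RingTheory.Polynomial.ScaleRoots
import Mathlib.RingTheory.Polynomial.IsIntegral
import Mathlib.RingTheory.Valuation.ValuationRing
import Mathlib.FieldTheory.Minpoly.Field
import Mathlib.RingTheory.IntegralClosure.IntegrallyClosed
import Mathlib.RingTheory.Valuation.LocalSubring

/-!
# The spectral norm relative to a Gauss extension
-/

set_option autoImplicit false

universe u w

open IsLocalRing MvPolynomial

namespace Groth.Agent.H1Stab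

/-- The valuation ring of a non-archimedean absolute value. -/
def absO {Ω : Type u} [Field Ω] (v : AbsoluteValue Ω ℝ) (hv : IsNonarchimedean v) : ValuationSubring Ω where
  carrier := {x | v x ≤ 1}
  mul_mem' {a b} ha hb := by
    show v (a * b) ≤ 1
    rw [map_mul]; exact mul_le_one₀ ha (v.nonneg b) hb
  one_mem' := le_of_eq (map_one v)
  add_mem' {a b} ha hb := (hv a b).trans (max_le ha hb)
  zero_mem' := by show v 0 ≤ 1; rw [map_zero]; exact zero_le_one
  neg_mem' {a} ha := by show v (-a) ≤ 1; rw [AbsoluteValue.map_neg]; exact ha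
  mem_or_inv_mem' a := by
    rcases le_total (v a) 1 with h | h
    · exact Or.inl h
    · exact Or.inr (by show v a⁻¹ ≤ 1; rw [map_inv₀]; exact inv_le_one_of_one_le₀ h)

theorem minpoly_smul {F E : Type*} [Field F] [CommRing E] [Algebra F E] [Module.Finite F E] {c : F} (hc : c ≠ 0) (f : E) :
    minpoly F (c • f) = (minpoly F f).scaleRoots c := by
  have hf : IsIntegral F f := IsIntegral.of_finite F f
  refine (minpoly.unique' F (c • f) ((Polynomial.monic_scaleRoots_iff c).2 (minpoly.monic hf)) ?_ fun q hq => ?_).symm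
  · rw [Algebra.smul_def]
    exact Polynomial.scaleRoots_aeval_eq_zero (minpoly.aeval F f)
  · rcases eq_or_ne q 0 with rfl | hq0
    · exact Or.inl rfl
    refine Or.inr fun h0 => ?_
    rw [Polynomial.degree_scaleRoots] at hq
    have h1 := Polynomial.scaleRoots_aeval_eq_zero (r := c⁻¹) h0
    rw [← Algebra.smul_def, smul_smul, inv_mul_cancel₀ hc, one_smul] at h1
    have h2 := minpoly.degree_le_of_ne_zero F f ((Polynomial.scaleRoots_ne_zero hq0 _)) h1
    rw [Polynomial.degree_scaleRoots] at h2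
    exact absurd h2 (not_le.2 hq)

variable {Ω : Type u} [Field Ω] (O : ValuationSubring Ω) {σ : Type w}
  {F : Type*} [Field F] [Algebra (MvPolynomial σ Ω) F] [IsFractionRing (MvPolynomial σ Ω) F]
  [Algebra Ω F] [IsScalarTower Ω (MvPolynomial σ Ω) F]

theorem algebraMap_eq_C (c : Ω) : algebraMap Ω F c = algebraMap (MvPolynomial σ Ω) F (C c) :=
  IsScalarTower.algebraMap_apply Ω (MvPolynomial σ Ω) F c

theorem algebraMap_mem_gauss {c : Ω} : algebraMap Ω F c ∈ gaussRing O σ F ↔ c ∈ O := by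
  refine ⟨fun h => ?_, fun h => ?_⟩
  · rw [algebraMap_eq_C (σ := σ)] at h
    obtain ⟨a, ha⟩ := coeff_mem O h
    have := congrArg (coeff 0) ha
    rw [coeff_map, coeff_zero_C] at this
    exact this ▸ (a.coeff 0).2
  · rw [algebraMap_eq_C (σ := σ)]
    exact ⟨C ⟨c, h⟩, 1, primitive_one O, by
      rw [map_one, mul_one, toF, RingHom.comp_apply, MvPolynomial.map_C]; rfl⟩

/-- A non-zero element of `F` is a scalar times a unit of the Gauss ring. -/
theorem exists_scalar_mul_unit {z : F} (hz : z ≠ 0) :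
    ∃ (d : Ω) (w : gaussRing O σ F), d ≠ 0 ∧ IsUnit w ∧ z = algebraMap Ω F d * w := by
  obtain ⟨c, p, q, hc, hp, hq, h⟩ := exists_primitive_fraction (σ := σ) O hz
  refine ⟨c, ⟨_, div_mem O p hq⟩, hc,
    isUnit_div O (residue O) (ker_residue (R := O)) (FractionRing (MvPolynomial σ (ResidueField O))) hp hq, ?_⟩
  rw [algebraMap_eq_C (σ := σ), ← mul_div_assoc, ← h, mul_div_cancel_right₀ _ (toF_ne_zero O hq)]

variable {E : Type*} [CommRing E] [Algebra F E] [Module.Finite F E] [Algebra (gaussRing O σ F) E]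
  [IsScalarTower (gaussRing O σ F) F E]

theorem minpoly_coeff_mem {f : E} (hf : IsIntegral (gaussRing O σ F) f) (i : ℕ) :
    (minpoly F f).coeff i ∈ gaussRing O σ F := by
  obtain ⟨g, hg, hgf⟩ := hf
  have hdvd : minpoly F f ∣ g.map (algebraMap (gaussRing O σ F) F) := minpoly.dvd F f (by
    rw [Polynomial.aeval_map_algebraMap]; exact hgf)
  obtain ⟨y, hy⟩ := IsIntegrallyClosed.isIntegral_iff.1 (Polynomial.isIntegral_coeff_of_dvd g (minpoly F f) hg
    (minpoly.monic (IsIntegral.of_finite F f)) hdvd i)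
  exact hy ▸ y.2

theorem isIntegral_of_coeff_mem {f : E} (h : ∀ i, (minpoly F f).coeff i ∈ gaussRing O σ F) :
    IsIntegral (gaussRing O σ F) f := by
  have hmon := minpoly.monic (IsIntegral.of_finite F f)
  obtain ⟨g, hg, -, hgm⟩ := Polynomial.lifts_and_degree_eq_and_monic (f := algebraMap (gaussRing O σ F) F) (p := minpoly F f)
    ((Polynomial.lifts_iff_coeff_lifts _).2 fun i => ⟨⟨_, h i⟩, rfl⟩) hmon
  refine ⟨g, hgm, ?_⟩
  show Polynomial.aeval f g = 0
  rw [← Polynomial.aeval_map_algebraMap F, hg, minpoly.aeval]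

variable [Algebra Ω E] [IsScalarTower Ω F E]

/-- There is a best scalar making an element integral. -/
theorem exists_best [IsAlgClosed Ω] [IsReduced E] {f : E} (hf : f ≠ 0) :
    ∃ c : Ω, c ≠ 0 ∧ IsIntegral (gaussRing O σ F) (c⁻¹ • f) ∧
      ∀ c' : Ω, c' ≠ 0 → IsIntegral (gaussRing O σ F) (c'⁻¹ • f) → O.valuation c ≤ O.valuation c' := by
  classical
  have hint : IsIntegral F f := IsIntegral.of_finite F f
  obtain ⟨n, hn⟩ : ∃ n, n = (minpoly F f).natDegree := ⟨_, rfl⟩
  let s := (Finset.range n).filter fun i => (minpoly F f).coeff i ≠ 0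
  have hcoeff : ∀ (c : Ω), c ≠ 0 → ∀ i, (minpoly F (c⁻¹ • f)).coeff i =
      (minpoly F f).coeff i * algebraMap Ω F (c⁻¹ ^ (n - i)) := fun c hc i => by
    rw [← algebraMap_smul F c⁻¹ f, minpoly_smul ((_root_.map_ne_zero _).2 (inv_ne_zero hc)),
      Polynomial.coeff_scaleRoots, hn, map_pow]
  have hne : s.Nonempty := by
    by_contra h
    rw [Finset.not_nonempty_iff_eq_empty, Finset.filter_eq_empty_iff] at h
    have h1 : minpoly F f = Polynomial.X ^ n := by
      ext i
      rw [Polynomial.coeff_X_pow]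
      split_ifs with hi
      · rw [hi, hn]; exact (minpoly.monic hint).coeff_natDegree
      · rcases lt_or_gt_of_ne hi with hlt | hgt
        · exact not_not.1 (h (Finset.mem_range.2 hlt))
        · exact Polynomial.coeff_eq_zero_of_natDegree_lt (hn ▸ hgt)
    have h2 := minpoly.aeval F f
    rw [h1, map_pow, Polynomial.aeval_X] at h2
    exact hf (IsReduced.eq_zero f ⟨n, h2⟩)
  have hdata : ∀ i ∈ s, ∃ t : Ω, ∃ w : gaussRing O σ F, t ≠ 0 ∧ IsUnit w ∧
      (minpoly F f).coeff i = algebraMap Ω F (t ^ (n - i)) * w := fun i hi => by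
    obtain ⟨hin, hi0⟩ := Finset.mem_filter.1 hi
    obtain ⟨d, w, hd, hw, heq⟩ := exists_scalar_mul_unit (σ := σ) O hi0
    have hpos : 0 < n - i := Nat.sub_pos_of_lt (Finset.mem_range.1 hin)
    obtain ⟨t, ht⟩ := IsAlgClosed.exists_pow_nat_eq d hpos
    refine ⟨t, w, fun h0 => hd ?_, hw, by rw [ht]; exact heq⟩
    rw [← ht, h0, zero_pow hpos.ne']
  choose! t w ht hw heq using hdata
  obtain ⟨i₀, hi₀, hmax⟩ := s.exists_max_image (fun i => O.valuation (t i)) hne
  refine ⟨t i₀, ht i₀ hi₀, isIntegral_of_coeff_mem O fun i => ?_, fun c' hc' hint' => ?_⟩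
  · rw [hcoeff _ (ht i₀ hi₀)]
    by_cases hi : i ∈ s
    · rw [heq i hi, mul_right_comm, ← map_mul, ← mul_pow]
      refine mul_mem ((algebraMap_mem_gauss (σ := σ) O).2 (pow_mem ?_ _)) (w i).2
      rw [← O.valuation_le_one_iff, map_mul, map_inv₀, ← div_eq_mul_inv,
        div_le_one₀ (zero_lt_iff.2 ((O.valuation).ne_zero_iff.2 (ht i₀ hi₀)))]
      exact hmax i hi
    · rcases lt_trichotomy i n with hlt | rfl | hgt
      · rw [show (minpoly F f).coeff i = 0 from
          not_not.1 fun h => hi (Finset.mem_filter.2 ⟨Finset.mem_range.2 hlt, h⟩), zero_mul]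
        exact zero_mem _
      · rw [hn, (minpoly.monic hint).coeff_natDegree, one_mul, Nat.sub_self, pow_zero, map_one]
        exact one_mem _
      · rw [Polynomial.coeff_eq_zero_of_natDegree_lt (hn ▸ hgt), zero_mul]
        exact zero_mem _
  · have h1 := minpoly_coeff_mem O hint' i₀
    rw [hcoeff _ hc', heq i₀ hi₀, mul_right_comm, ← map_mul, ← mul_pow] at h1
    obtain ⟨u, hu⟩ := hw i₀ hi₀
    have h2 := mul_mem h1 (↑u⁻¹ : gaussRing O σ F).2
    rw [mul_assoc, show ((w i₀ : gaussRing O σ F) : F) * ((↑u⁻¹ : gaussRing O σ F) : F) = 1 by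
      rw [← hu]; exact congrArg Subtype.val u.mul_inv, mul_one, algebraMap_mem_gauss,
      ← O.valuation_le_one_iff, map_pow] at h2
    have hpos : 0 < n - i₀ := Nat.sub_pos_of_lt (Finset.mem_range.1 (Finset.mem_filter.1 hi₀).1)
    rw [pow_le_one_iff hpos.ne', map_mul, map_inv₀, ← div_eq_mul_inv,
      div_le_one₀ (zero_lt_iff.2 ((O.valuation).ne_zero_iff.2 hc'))] at h2
    exact h2

theorem isIntegral_smul {f : E} {c : Ω} (hc : c ∈ O) (hf : IsIntegral (gaussRing O σ F) f) :
    IsIntegral (gaussRing O σ F) (c • f) := by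
  have : c • f = (⟨algebraMap Ω F c, (algebraMap_mem_gauss O).2 hc⟩ : gaussRing O σ F) • f := by
    rw [← algebraMap_smul F c f, ← algebraMap_smul F (_ : gaussRing O σ F) f]; rfl
  rw [this]
  exact hf.smul _

section abs

variable {v : AbsoluteValue Ω ℝ} {hv : IsNonarchimedean v}
  [Algebra (gaussRing (absO v hv) σ F) E] [IsScalarTower (gaussRing (absO v hv) σ F) F E]

theorem valuation_le_iff {a b : Ω} : (absO v hv).valuation a ≤ (absO v hv).valuation b ↔ v a ≤ v b := by
  rcases eq_or_ne b 0 with rfl | hb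
  · rw [map_zero, map_zero, le_zero_iff, Valuation.zero_iff]
    exact ⟨fun h => by rw [h, map_zero], fun h => v.eq_zero.1 (le_antisymm h (v.nonneg a))⟩
  · rw [← div_le_one₀ (zero_lt_iff.2 ((absO v hv).valuation.ne_zero_iff.2 hb)), ← map_div₀,
      ValuationSubring.valuation_le_one_iff]
    show v (a / b) ≤ 1 ↔ _
    rw [map_div₀, div_le_one₀ (v.pos hb)]

/-- The spectral norm. -/
noncomputable def spec (v : AbsoluteValue Ω ℝ) (hv : IsNonarchimedean v) (σ : Type w) (F : Type*) [Field F]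
    [Algebra (MvPolynomial σ Ω) F] [IsFractionRing (MvPolynomial σ Ω) F]
    [Algebra Ω F] [IsScalarTower Ω (MvPolynomial σ Ω) F] {E : Type*} [CommRing E] [Algebra F E] [Module.Finite F E]
    [Algebra (gaussRing (absO v hv) σ F) E] [IsScalarTower (gaussRing (absO v hv) σ F) F E]
    [Algebra Ω E] [IsScalarTower Ω F E] [IsAlgClosed Ω] [IsReduced E] (f : E) : ℝ :=
  open Classical in
  if h : f = 0 then 0 else v (exists_best (absO v hv) (σ := σ) (F := F) h).choose

variable [IsAlgClosed Ω] [IsReduced E]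

theorem spec_le_iff {f : E} {c : Ω} (hc : c ≠ 0) :
    spec v hv σ F f ≤ v c ↔ IsIntegral (gaussRing (absO v hv) σ F) (c⁻¹ • f) := by
  rw [spec]
  split_ifs with h
  · subst h
    rw [smul_zero]
    exact ⟨fun _ => isIntegral_zero, fun _ => v.nonneg c⟩
  obtain ⟨hne, hint, hmin⟩ := (exists_best (absO v hv) (σ := σ) (F := F) h).choose_spec
  refine ⟨fun hle => ?_, fun hi => valuation_le_iff.1 (hmin c hc hi)⟩
  generalize (exists_best (absO v hv) (σ := σ) (F := F) h).choose = a at hne hint hle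
  have h1 : c⁻¹ * a ∈ absO v hv := by
    show v (c⁻¹ * a) ≤ 1
    rw [map_mul, map_inv₀, inv_mul_eq_div, div_le_one₀ (v.pos hc)]
    exact hle
  have h2 := isIntegral_smul (absO v hv) h1 hint
  rwa [smul_smul, mul_assoc, mul_inv_cancel₀ hne, mul_one] at h2

theorem spec_zero : spec v hv σ F (0 : E) = 0 := by rw [spec, dif_pos rfl]

theorem exists_spec_eq (f : E) : ∃ c : Ω, spec v hv σ F f = v c := by
  rw [spec]
  split_ifs with h
  · exact ⟨0, (map_zero v).symm⟩
  · exact ⟨_, rfl⟩

theorem spec_eq_zero {f : E} (h : spec v hv σ F f = 0) : f = 0 := by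
  rw [spec] at h
  split_ifs at h with h0
  · exact h0
  · exact absurd (v.eq_zero.1 h) (exists_best (absO v hv) (σ := σ) (F := F) h0).choose_spec.1

theorem spec_smul_le {f : E} (d : Ω) : spec v hv σ F (d • f) ≤ v d * spec v hv σ F f := by
  rcases eq_or_ne d 0 with rfl | hd
  · rw [zero_smul, spec_zero, map_zero, zero_mul]
  rcases eq_or_ne f 0 with rfl | hf
  · rw [smul_zero, spec_zero, mul_zero]
  obtain ⟨c, hc⟩ := exists_spec_eq (σ := σ) (F := F) (v := v) (hv := hv) f
  have hc0 : c ≠ 0 := fun h => hf (spec_eq_zero (by rw [hc, h, map_zero]))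
  rw [hc, ← map_mul, spec_le_iff (mul_ne_zero hd hc0), smul_smul,
    show (d * c)⁻¹ * d = c⁻¹ by field_simp]
  exact (spec_le_iff hc0).1 hc.le

theorem isVNorm_spec : IsVNorm v (spec v hv σ F (E := E)) := by
  refine ⟨fun d f => ?_, fun f g => ?_, fun f => spec_eq_zero, exists_spec_eq⟩
  · refine le_antisymm (spec_smul_le d) ?_
    rcases eq_or_ne d 0 with rfl | hd
    · rw [map_zero, zero_mul, zero_smul, spec_zero]
    have h := spec_smul_le (σ := σ) (F := F) (v := v) (hv := hv) (f := d • f) d⁻¹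
    rw [smul_smul, inv_mul_cancel₀ hd, one_smul, map_inv₀, le_inv_mul_iff₀ (v.pos hd)] at h
    exact h
  · obtain ⟨a, ha⟩ := exists_spec_eq (σ := σ) (F := F) (v := v) (hv := hv) f
    obtain ⟨b, hb⟩ := exists_spec_eq (σ := σ) (F := F) (v := v) (hv := hv) g
    obtain ⟨c, hc⟩ : ∃ c, max (spec v hv σ F f) (spec v hv σ F g) = v c := by
      rcases max_choice (spec v hv σ F f) (spec v hv σ F g) with h | h
      · exact ⟨a, h.trans ha⟩
      · exact ⟨b, h.trans hb⟩
    rw [hc]
    rcases eq_or_ne c 0 with rfl | hc0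
    · rw [map_zero] at hc
      have hf := spec_eq_zero (le_antisymm (hc ▸ le_max_left _ _) (by rw [ha]; exact v.nonneg a))
      have hg := spec_eq_zero (le_antisymm (hc ▸ le_max_right _ _) (by rw [hb]; exact v.nonneg b))
      rw [hf, hg, add_zero, spec_zero, map_zero]
    · rw [spec_le_iff hc0, smul_add]
      exact ((spec_le_iff hc0).1 (hc ▸ le_max_left _ _)).add ((spec_le_iff hc0).1 (hc ▸ le_max_right _ _))

theorem isIntegral_iff_spec {f : E} : IsIntegral (gaussRing (absO v hv) σ F) f ↔ spec v hv σ F f ≤ 1 := by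
  have h := spec_le_iff (σ := σ) (F := F) (v := v) (hv := hv) (f := f) (one_ne_zero (α := Ω))
  rw [map_one, inv_one, one_smul] at h
  exact h.symm

theorem spec_lt_one_iff (f : integralClosure (gaussRing (absO v hv) σ F) E) :
    spec v hv σ F (f : E) < 1 ↔ f ∈ ((maximalIdeal (gaussRing (absO v hv) σ F)).map
      (algebraMap _ (integralClosure (gaussRing (absO v hv) σ F) E))).radical := by
  refine ⟨fun hlt => Ideal.le_radical ?_, fun ⟨j, hj⟩ => ?_⟩
  · obtain ⟨c, hc⟩ := exists_spec_eq (σ := σ) (F := F) (v := v) (hv := hv) (f : E)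
    rcases eq_or_ne c 0 with rfl | hc0
    · rw [map_zero] at hc
      rw [show f = 0 from Subtype.ext (spec_eq_zero hc)]
      exact zero_mem _
    have hcO : v c < 1 := hc ▸ hlt
    obtain ⟨g, hg⟩ : ∃ g : integralClosure (gaussRing (absO v hv) σ F) E, (g : E) = c⁻¹ • (f : E) :=
      ⟨⟨_, (spec_le_iff hc0).1 hc.le⟩, rfl⟩
    let a : gaussRing (absO v hv) σ F := ⟨algebraMap Ω F c, (algebraMap_mem_gauss _).2 hcO.le⟩
    have ha : a ∈ maximalIdeal (gaussRing (absO v hv) σ F) := (mem_maximalIdeal _).2 fun hu => by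
      obtain ⟨b, hb⟩ := hu.exists_right_inv
      have h1 : algebraMap Ω F c * (b : F) = 1 := congrArg Subtype.val hb
      have h2 : algebraMap Ω F c⁻¹ ∈ gaussRing (absO v hv) σ F := by
        rw [map_inv₀, inv_eq_of_mul_eq_one_right h1]; exact b.2
      rw [algebraMap_mem_gauss] at h2
      have h3 : v c⁻¹ ≤ 1 := h2
      rw [map_inv₀, inv_le_one₀ (v.pos hc0)] at h3
      exact absurd hcO (not_lt.2 h3)
    have he : f = algebraMap _ _ a * g := by
      refine Subtype.ext ?_
      show (f : E) = algebraMap (gaussRing (absO v hv) σ F) E a * (g : E)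
      rw [hg, IsScalarTower.algebraMap_apply (gaussRing (absO v hv) σ F) F E, Algebra.smul_def,
        IsScalarTower.algebraMap_apply Ω F E, ← mul_assoc, ← map_mul]
      show _ = algebraMap F E (algebraMap Ω F c * algebraMap Ω F c⁻¹) * _
      rw [← map_mul (algebraMap Ω F), mul_inv_cancel₀ hc0, map_one, map_one, one_mul]
    rw [he]
    exact Ideal.mul_mem_right _ _ (Ideal.mem_map_of_mem _ ha)
  · have hsingle : ∀ x ∈ (maximalIdeal (gaussRing (absO v hv) σ F)).map
        (algebraMap _ (integralClosure (gaussRing (absO v hv) σ F) E)),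
        ∃ a ∈ maximalIdeal (gaussRing (absO v hv) σ F), ∃ g, x = algebraMap _ _ a * g := fun x hx => by
      induction hx using Submodule.span_induction with
      | mem y hy =>
        obtain ⟨a, ha, rfl⟩ := hy
        exact ⟨a, ha, 1, (mul_one _).symm⟩
      | zero => exact ⟨0, zero_mem _, 1, by rw [map_zero, zero_mul]⟩
      | add y z _ _ ihy ihz =>
        obtain ⟨a, ha, g, rfl⟩ := ihy
        obtain ⟨b, hb, h, rfl⟩ := ihz
        rcases ValuationRing.dvd_total a b with ⟨e, rfl⟩ | ⟨e, rfl⟩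
        · exact ⟨a, ha, g + algebraMap _ _ e * h, by rw [map_mul]; ring⟩
        · exact ⟨b, hb, algebraMap _ _ e * g + h, by rw [map_mul]; ring⟩
      | smul e y _ ih =>
        obtain ⟨a, ha, g, rfl⟩ := ih
        exact ⟨a, ha, e * g, by rw [smul_eq_mul]; ring⟩
    replace hj : f ^ (j + 1) ∈ _ := (pow_succ f j).symm ▸ Ideal.mul_mem_right f _ hj
    obtain ⟨a, ha, g, hg⟩ := hsingle _ hj
    have hg' : (f : E) ^ (j + 1) = algebraMap F E (a : F) * (g : E) := by
      rw [← SubmonoidClass.coe_pow, hg, Subalgebra.coe_mul, Subalgebra.coe_algebraMap, IsScalarTower.algebraMap_apply (gaussRing (absO v hv) σ F) F E]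
      rfl
    rcases eq_or_ne (a : F) 0 with ha0 | ha0
    · rw [ha0, map_zero, zero_mul] at hg'
      rw [IsReduced.eq_zero _ ⟨j + 1, hg'⟩, spec_zero]
      exact zero_lt_one
    obtain ⟨d, w, hd, hw, heq⟩ := exists_scalar_mul_unit (σ := σ) (absO v hv) ha0
    have hdlt : v d < 1 := by
      by_contra hge
      have hmem : algebraMap Ω F d⁻¹ ∈ gaussRing (absO v hv) σ F :=
        (algebraMap_mem_gauss _).2 (show v d⁻¹ ≤ 1 by rw [map_inv₀]; exact inv_le_one_of_one_le₀ (not_lt.1 hge))
      have hw' : w = a * ⟨_, hmem⟩ := Subtype.ext (by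
        show (w : F) = (a : F) * algebraMap Ω F d⁻¹
        rw [heq, mul_right_comm, ← map_mul, mul_inv_cancel₀ hd, map_one, one_mul])
      exact (mem_maximalIdeal _).1 (hw' ▸ Ideal.mul_mem_right _ _ ha) hw
    have hj0 : 0 < j + 1 := j.succ_pos
    obtain ⟨t, ht⟩ := IsAlgClosed.exists_pow_nat_eq d hj0
    have ht0 : t ≠ 0 := fun h => hd (by rw [← ht, h, zero_pow hj0.ne'])
    refine lt_of_le_of_lt ((spec_le_iff ht0).2 (IsIntegral.of_pow hj0 ?_)) ?_
    · rw [smul_pow, inv_pow, ht, show d⁻¹ • (f : E) ^ (j + 1) = algebraMap (gaussRing (absO v hv) σ F) E w * (g : E) by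
        rw [hg', IsScalarTower.algebraMap_apply (gaussRing (absO v hv) σ F) F E w, heq,
          Algebra.smul_def, IsScalarTower.algebraMap_apply Ω F E, ← mul_assoc, ← map_mul, ← mul_assoc,
          ← map_mul, inv_mul_cancel₀ hd, map_one, one_mul]
        rfl]
      exact isIntegral_algebraMap.mul g.2
    · have h1 : v t ^ (j + 1) < 1 := by rw [← map_pow, ht]; exact hdlt
      exact (pow_lt_one_iff_of_nonneg (v.nonneg t) hj0.ne').1 h1

end abs

end Groth.Agent.H1Stab
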