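import Mathlib

/-!
# Specialising to a finite extension
-/

set_option autoImplicit false

universe u

open IsLocalRing

namespace Groth.Agent.H1Stab

/-- In a Noetherian local domain in which every nonzero prime contains `t`, every nonzero prime is maximal. -/
theorem eq_maximalIdeal_of_all_contain {R : Type u} [CommRing R] [IsDomain R] [IsNoetherianRing R] [IsLocalRing R]
    {t : R} (ht0 : t ≠ 0) (hall : ∀ P : Ideal R, P.IsPrime → P ≠ ⊥ → t ∈ P) {p : Ideal R} [hp : p.IsPrime] (hp0 : p ≠ ⊥) :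
    p = maximalIdeal R := by
  classical
  by_contra hne
  have hpm : p < maximalIdeal R := lt_of_le_of_ne (le_maximalIdeal hp.ne_top) hne
  obtain ⟨p₀, hp₀, hp₀p⟩ := Ideal.exists_minimalPrimes_le (show Ideal.span {t} ≤ p from
    (Ideal.span_singleton_le_iff_mem _).2 (hall p hp hp0))
  have hfin : (Ideal.span {t}).minimalPrimes.Finite := Ideal.finite_minimalPrimes_of_isNoetherianRing R _
  have hnot : ¬ ((maximalIdeal R : Set R) ⊆ ⋃ q ∈ hfin.toFinset, (q : Set R)) := fun h => by
    obtain ⟨q, hq, hle⟩ := (Ideal.subset_union_prime ⊥ ⊥ fun q hq _ _ => (hfin.mem_toFinset.1 hq).1.1).1 h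
    rw [hfin.mem_toFinset] at hq
    have hqm : q = maximalIdeal R := le_antisymm (le_maximalIdeal hq.1.1.ne_top) hle
    exact absurd (hq.2 ⟨hp₀.1.1, hp₀.1.2⟩ (le_trans hp₀p (hqm ▸ hpm.le))) (fun h => by
      have := hle.trans h
      exact absurd (this.trans hp₀p) (not_le_of_gt hpm))
  obtain ⟨x, hxm, hx⟩ := Set.not_subset.1 hnot
  simp only [Set.mem_iUnion, not_exists, SetLike.mem_coe, Set.Finite.mem_toFinset] at hx
  obtain ⟨q, hq, hqm⟩ := Ideal.exists_minimalPrimes_le ((Ideal.span_singleton_le_iff_mem _).2 hxm :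
    Ideal.span {x} ≤ maximalIdeal R)
  haveI := hq.1.1
  have hx0 : x ≠ 0 := fun h => hx p₀ hp₀ (h ▸ zero_mem _)
  have hq0 : q ≠ ⊥ := fun h => hx0 (Ideal.mem_bot.1 (h ▸ (Ideal.span_singleton_le_iff_mem _).1 hq.1.2))
  obtain ⟨q₀, hq₀, hq₀q⟩ := Ideal.exists_minimalPrimes_le (show Ideal.span {t} ≤ q from
    (Ideal.span_singleton_le_iff_mem _).2 (hall q hq.1.1 hq0))
  haveI := hq₀.1.1
  have h0 : q₀ ≠ ⊥ := fun h => ht0 (Ideal.mem_bot.1 (h ▸ (Ideal.span_singleton_le_iff_mem _).1 hq₀.1.2))
  have hlt : q₀ < q := lt_of_le_of_ne hq₀q fun h => hx q₀ hq₀ (h ▸ (Ideal.span_singleton_le_iff_mem _).1 hq.1.2)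
  have h1 : q₀.height < q.height := Ideal.height_strict_mono_of_isPrime hlt
  have h2 : (⊥ : Ideal R).height < q₀.height := by
    haveI : (⊥ : Ideal R).IsPrime := Ideal.isPrime_bot
    exact Ideal.height_strict_mono_of_isPrime (bot_lt_iff_ne_bot.2 h0)
  have h3 := Ideal.height_le_one_of_isPrincipal_of_mem_minimalPrimes _ q hq
  have h4 : q₀.height < 1 := lt_of_lt_of_le h1 h3
  rw [ENat.lt_one_iff_eq_zero.1 h4] at h2
  exact not_lt_zero h2

/-- Specialisation to a finite extension, avoiding `μ = 0`. -/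
theorem exists_specialisation {A K : Type u} [CommRing A] [IsDomain A] [IsDiscreteValuationRing A] [Field K]
    [Algebra A K] [IsFractionRing A K] {D : Type u} [CommRing D] [IsDomain D] [Algebra A D] [Algebra.FiniteType A D]
    {π : A} (hπ : Irreducible π) (hπD : algebraMap A D π ≠ 0) (p₀ : Ideal D) [p₀.IsPrime] (hπp : algebraMap A D π ∈ p₀)
    {μ : D} (hμ : μ ∉ p₀) :
    ∃ (E : Type u) (_ : Field E) (_ : Algebra K E) (_ : Algebra A E) (_ : IsScalarTower A K E)
      (_ : Module.Finite K E) (φ : D →ₐ[A] E) (W : ValuationSubring E),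
      (∀ d, φ d ∈ W) ∧ W.valuation (φ (algebraMap A D π)) < 1 ∧ W.valuation (φ μ) = 1 := by
  classical
  have hμ0 : μ ≠ 0 := fun h => hμ (h ▸ zero_mem _)
  haveI hdom : IsDomain (Localization.Away μ) :=
    IsLocalization.isDomain_localization (powers_le_nonZeroDivisors_of_noZeroDivisors hμ0)
  haveI : Algebra.FiniteType D (Localization.Away μ) := inferInstance
  haveI : Algebra.FiniteType A (Localization.Away μ) := Algebra.FiniteType.trans (S := D) inferInstance inferInstance
  haveI : IsNoetherianRing (Localization.Away μ) := Algebra.FiniteType.isNoetherianRing A _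
  have hdisj : Disjoint (Submonoid.powers μ : Set D) (p₀ : Set D) := by
    rw [Set.disjoint_left]
    rintro _ ⟨n, rfl⟩ h
    exact hμ (Ideal.IsPrime.mem_of_pow_mem ‹_› n h)
  let D' := Localization.Away μ
  haveI hp' : (p₀.map (algebraMap D D')).IsPrime :=
    IsLocalization.isPrime_of_isPrime_disjoint (Submonoid.powers μ) D' p₀ ‹_› hdisj
  obtain ⟨Q, hQ, hpQ⟩ := Ideal.exists_le_maximal _ hp'.ne_top
  have hπQ : algebraMap A D' π ∈ Q := hpQ (by
    rw [IsScalarTower.algebraMap_apply A D D']; exact Ideal.mem_map_of_mem _ hπp)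
  have hπD' : algebraMap A D' π ≠ 0 := fun h => hπD (by
    rw [IsScalarTower.algebraMap_apply A D D', ← map_zero (algebraMap D D')] at h
    exact IsLocalization.injective D' (powers_le_nonZeroDivisors_of_noZeroDivisors hμ0) h)
  obtain ⟨(P : Ideal D'), ⟨hPp, hPQ, hPπ⟩, hPmax⟩ := set_has_maximal_iff_noetherian.2 (inferInstance : IsNoetherianRing D')
    {P : Ideal D' | P.IsPrime ∧ P ≤ Q ∧ algebraMap A D' π ∉ P} ⟨⊥, Ideal.isPrime_bot, bot_le, by simpa using hπD'⟩
  haveI := hPp
  let R := D' ⧸ P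
  haveI : Algebra.FiniteType A R := Algebra.FiniteType.of_surjective (Ideal.Quotient.mkₐ A P) Ideal.Quotient.mk_surjective
  haveI : IsNoetherianRing R := Ideal.Quotient.isNoetherianRing P
  let Q' : Ideal R := Q.map (Ideal.Quotient.mk P)
  haveI hQ'm : Q'.IsMaximal := Ideal.IsMaximal.map_of_surjective_of_ker_le (f := Ideal.Quotient.mk P)
    Ideal.Quotient.mk_surjective (by rw [Ideal.mk_ker]; exact hPQ)
  have hπR : algebraMap A R π ≠ 0 := fun h => hPπ (Ideal.Quotient.eq_zero_iff_mem.1 h)
  have hπQ' : algebraMap A R π ∈ Q' := Ideal.mem_map_of_mem (Ideal.Quotient.mk P) hπQ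
  have hall : ∀ q : Ideal R, q.IsPrime → q ≤ Q' → q ≠ ⊥ → algebraMap A R π ∈ q := by
    intro q hq hqQ hq0
    by_contra hn
    refine hPmax (q.comap (Ideal.Quotient.mk P)) ⟨Ideal.IsPrime.comap _, ?_, fun h => hn h⟩ (lt_of_le_of_ne ?_ fun h => hq0 ?_)
    · refine (Ideal.comap_mono hqQ).trans (le_of_eq ?_)
      rw [Ideal.comap_map_of_surjective _ Ideal.Quotient.mk_surjective, ← RingHom.ker_eq_comap_bot, Ideal.mk_ker,
        sup_eq_left.2 hPQ]
    · intro z hz
      rw [Ideal.mem_comap, Ideal.Quotient.eq_zero_iff_mem.2 hz]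
      exact zero_mem _
    · rw [← Ideal.map_comap_of_surjective _ Ideal.Quotient.mk_surjective q, ← h, Ideal.map_quotient_self]
  let S := Localization.AtPrime Q'
  haveI : IsNoetherianRing S := IsLocalization.isNoetherianRing Q'.primeCompl S inferInstance
  have hnzd : Q'.primeCompl ≤ nonZeroDivisors R := Ideal.primeCompl_le_nonZeroDivisors Q'
  have hinjS : Function.Injective (algebraMap R S) := IsLocalization.injective S hnzd
  haveI : IsDomain S := IsLocalization.isDomain_localization hnzd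
  have hπS : algebraMap A S π ≠ 0 := fun h => hπR (hinjS (by rw [← IsScalarTower.algebraMap_apply, h, map_zero]))
  haveI : IsDomain R := Ideal.Quotient.isDomain P
  have hmax : ∀ q : Ideal S, q.IsPrime → q ≠ ⊥ → algebraMap A S π ∈ q := by
    intro q hq hq0
    rw [IsScalarTower.algebraMap_apply A R S]
    refine hall (q.comap (algebraMap R S)) (Ideal.IsPrime.comap _) ?_ fun h => hq0 ?_
    · exact le_trans (Ideal.comap_mono (le_maximalIdeal hq.ne_top)) (le_of_eq Localization.AtPrime.under_maximalIdeal)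
    · rw [← IsLocalization.map_comap Q'.primeCompl S q]
      exact (congrArg (Ideal.map (algebraMap R S)) h).trans Ideal.map_bot
  -- the chosen point is isolated in the special fibre
  have hmin : ∀ q : Ideal R, q.IsPrime → algebraMap A R π ∈ q → q ≤ Q' → q = Q' := by
    intro q hq hπq hqQ
    have hdis : Disjoint (Q'.primeCompl : Set R) (q : Set R) := Set.disjoint_left.2 fun z hz hzq => hz (hqQ hzq)
    haveI := IsLocalization.isPrime_of_isPrime_disjoint Q'.primeCompl S q hq hdis
    have hne : q.map (algebraMap R S) ≠ ⊥ := fun h => hπS (by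
      rw [IsScalarTower.algebraMap_apply A R S, ← Ideal.mem_bot, ← h]; exact Ideal.mem_map_of_mem _ hπq)
    have h1 := eq_maximalIdeal_of_all_contain (p := q.map (algebraMap R S)) hπS hmax hne
    have h2 := congrArg (Ideal.comap (algebraMap R S)) h1
    rw [show (maximalIdeal S).comap (algebraMap R S) = Q' from Localization.AtPrime.under_maximalIdeal,
      show (q.map (algebraMap R S)).comap (algebraMap R S) = q from
        IsLocalization.comap_map_of_isPrime_disjoint Q'.primeCompl S ‹_› hdis] at h2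
    exact h2
  let T : Set (Ideal R) := (Ideal.span {algebraMap A R π}).minimalPrimes \ {Q'}
  have hTf : T.Finite := (Ideal.finite_minimalPrimes_of_isNoetherianRing R _).sdiff
  obtain ⟨h, hhT, hhQ⟩ : ∃ h : R, (∀ q ∈ T, h ∈ q) ∧ h ∉ Q' := by
    have hnle : ¬ hTf.toFinset.inf id ≤ Q' := fun hle => by
      obtain ⟨q, hq, hqQ⟩ := (Ideal.IsPrime.inf_le' hQ'm.isPrime).1 hle
      rw [hTf.mem_toFinset] at hq
      exact hq.2 (hmin q hq.1.1.1 ((Ideal.span_singleton_le_iff_mem _).1 hq.1.1.2) hqQ)
    obtain ⟨h, hh, hh'⟩ := SetLike.not_le_iff_exists.1 hnle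
    exact ⟨h, fun q hq => (Finset.inf_le (hTf.mem_toFinset.2 hq) : hTf.toFinset.inf id ≤ id q) hh, hh'⟩
  have hover : ∀ q : Ideal R, q.IsPrime → (q.comap (algebraMap A R) = maximalIdeal A ↔ algebraMap A R π ∈ q) := by
    intro q hq
    rw [← Ideal.mem_comap, hπ.maximalIdeal_eq]
    refine ⟨fun h => h ▸ Ideal.mem_span_singleton_self π, fun h => ?_⟩
    refine (((IsDiscreteValuationRing.irreducible_iff_uniformizer π).1 hπ ▸ maximalIdeal.isMaximal A : (Ideal.span {π}).IsMaximal).eq_of_le
      (Ideal.IsPrime.comap (K := q) (algebraMap A R)).ne_top ((Ideal.span_singleton_le_iff_mem _).2 h)).symm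
  haveI hqf : Algebra.QuasiFiniteAt A Q' := by
    refine Algebra.QuasiFiniteAt.of_isOpen_singleton_fiber (R := A) (⟨Q', hQ'm.isPrime⟩ : PrimeSpectrum R) ?_
    refine ⟨PrimeSpectrum.basicOpen h, (PrimeSpectrum.basicOpen h).isOpen, ?_⟩
    ext ⟨q, hq⟩
    simp only [Set.mem_preimage, SetLike.mem_coe, PrimeSpectrum.mem_basicOpen, Set.mem_singleton_iff, Subtype.mk.injEq]
    refine ⟨fun hhq => ?_, fun e => ?_⟩
    rotate_left
    · first
        | (rw [e]; exact hhQ)
        | (rw [show q = _ from congrArg Subtype.val e]; exact hhQ)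
    have hq' : q.asIdeal.comap (algebraMap A R) = maximalIdeal A := by
      have h0 : Q'.comap (algebraMap A R) = maximalIdeal A := (hover Q' hQ'm.isPrime).2 hπQ'
      rw [← h0]
      exact congrArg PrimeSpectrum.asIdeal (hq : PrimeSpectrum.comap (algebraMap A R) q = _)
    obtain ⟨q₀, hq₀, hle⟩ := Ideal.exists_minimalPrimes_le ((Ideal.span_singleton_le_iff_mem _).2
      ((hover q.asIdeal q.2).1 hq') : Ideal.span {algebraMap A R π} ≤ q.asIdeal)
    by_cases hQ0 : q₀ = Q'
    · have hqQ : q.asIdeal = Q' := (hQ'm.eq_of_le q.2.ne_top (hQ0 ▸ hle)).symm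
      first
        | exact PrimeSpectrum.ext hqQ
        | exact Subtype.ext (PrimeSpectrum.ext hqQ)
    · exact absurd (hle (hhT q₀ ⟨hq₀, hQ0⟩)) hhq
  haveI : Algebra.QuasiFiniteAt A (⊥ : Ideal R) := Algebra.QuasiFiniteAt.of_le (Q := Q') bot_le
  let E := FractionRing R
  have hAE : Function.Injective (algebraMap A E) := by
    rw [injective_iff_map_eq_zero]
    intro a ha
    rw [IsScalarTower.algebraMap_apply A R E, map_eq_zero_iff _ (IsFractionRing.injective R E)] at ha
    by_contra ha0
    obtain ⟨n, u, rfl⟩ := IsDiscreteValuationRing.eq_unit_mul_pow_irreducible ha0 hπ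
    rw [map_mul, map_pow, mul_eq_zero] at ha
    exact ha.elim (u.isUnit.map (algebraMap A R)).ne_zero (pow_ne_zero n hπR)
  letI : Algebra K E := (IsFractionRing.lift hAE).toAlgebra
  haveI : IsScalarTower A K E := IsScalarTower.of_algebraMap_eq fun a => by
    rw [RingHom.algebraMap_toAlgebra, IsFractionRing.lift_algebraMap]
  haveI : IsLocalization (⊥ : Ideal R).primeCompl E := by
    have hM : (⊥ : Ideal R).primeCompl = nonZeroDivisors R := Submonoid.ext fun z =>
      ⟨fun h => mem_nonZeroDivisors_of_ne_zero fun h0 => h (Ideal.mem_bot.2 h0),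
        fun h h0 => nonZeroDivisors.ne_zero h (Ideal.mem_bot.1 h0)⟩
    rw [hM]
    infer_instance
  haveI : Algebra.QuasiFinite A E := (Algebra.QuasiFinite.iff_of_algEquiv (R := A) (S := Localization.AtPrime (⊥ : Ideal R)) (T := E)
    ((IsLocalization.algEquiv (⊥ : Ideal R).primeCompl (Localization.AtPrime (⊥ : Ideal R)) E).restrictScalars A)).1 inferInstance
  haveI : Algebra.QuasiFinite K E := Algebra.QuasiFinite.of_restrictScalars A K E
  haveI : Module.Finite K E := Module.Finite.of_quasiFinite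
  obtain ⟨W, hW, hWQ⟩ := Ideal.image_subset_nonunits_valuationSubring (A := (algebraMap R E).range)
    (Q'.map (algebraMap R E).rangeRestrict) (by
      intro htop
      have := congrArg (Ideal.comap (algebraMap R E).rangeRestrict) htop
      rw [Ideal.comap_map_of_bijective (algebraMap R E).rangeRestrict ⟨fun x y h => IsFractionRing.injective R E (congrArg Subtype.val h),
        RingHom.rangeRestrict_surjective (algebraMap R E)⟩, Ideal.comap_top] at this
      exact hQ'm.ne_top this)
  let φ : D →ₐ[A] E := (IsScalarTower.toAlgHom A R E).comp ((Ideal.Quotient.mkₐ A P).comp (IsScalarTower.toAlgHom A D D'))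
  have hφW : ∀ r : R, algebraMap R E r ∈ W := fun r => hW ⟨r, rfl⟩
  refine ⟨E, inferInstance, inferInstance, inferInstance, inferInstance, inferInstance, φ, W, fun d => hφW _, ?_, ?_⟩
  · rw [← ValuationSubring.mem_nonunits_iff, AlgHom.commutes, IsScalarTower.algebraMap_apply A R E]
    exact hWQ ⟨_, Ideal.mem_map_of_mem _ hπQ', rfl⟩
  · have hu : IsUnit (Ideal.Quotient.mk P (algebraMap D D' μ)) := (IsLocalization.Away.algebraMap_isUnit μ).map _
    obtain ⟨w, hw⟩ := hu.exists_right_inv
    have h1 : φ μ * algebraMap R E w = 1 := by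
      show algebraMap R E (Ideal.Quotient.mk P (algebraMap D D' μ)) * algebraMap R E w = 1
      rw [← map_mul, hw, map_one]
    refine le_antisymm ((W.valuation_le_one_iff _).2 (hφW _)) ?_
    calc (1 : W.ValueGroup) = W.valuation (φ μ) * W.valuation (algebraMap R E w) := by rw [← map_mul, h1, map_one]
      _ ≤ W.valuation (φ μ) * 1 := by gcongr; exact (W.valuation_le_one_iff _).2 (hφW _)
      _ = _ := mul_one _

end Groth.Agent.H1Stab
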