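import Groth.Agent.H1Stab.Setup
import Groth.Agent.H1Stab.Spec
import Groth.Agent.H1Ram.DegP
import Groth.Agent.H1Ram.Formal
import Mathlib

/-!
# The finite normal constant extension carrying the table
-/

set_option autoImplicit false

universe u

open MvPolynomial IsLocalRing TensorProduct

namespace Groth.Agent.H1Stab

/-- A field embedding of a specialisation compatible with the constants. -/
theorem exists_compatible_embedding {A K K0 D E1 Ω : Type u} [CommRing A] [IsDomain A] [Field K] [Algebra A K]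
    [IsFractionRing A K] [Field K0] [IsAlgClosed K0] [Algebra K K0] [Algebra.IsAlgebraic K K0] [Algebra A K0]
    [IsScalarTower A K K0] [CommRing D] [Algebra A D] [Field Ω] [Algebra A Ω] [Field E1] [Algebra K E1] [Algebra A E1]
    [IsScalarTower A K E1] [Module.Finite K E1] (ι : D →ₐ[A] Ω) (hι : Function.Injective ι) (cst : K0 →ₐ[A] Ω)
    (φ : D →ₐ[A] E1) :
    ∃ j : E1 →ₐ[K] K0, ∀ (y : D) (c : K0), ι y = cst c → j (φ y) = c := by
  let A'' : Subalgebra A K0 := ι.range.comap cst
  have hy : ∀ c : A'', ∃ y : D, ι y = cst (c : K0) := fun c => c.2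
  choose y hy using hy
  let ψ : A'' →ₐ[A] E1 :=
    { toFun := fun c => φ (y c)
      map_one' := by
        rw [show y 1 = 1 from hι (by rw [hy, OneMemClass.coe_one, map_one, map_one]), map_one]
      map_mul' := fun a b => by
        rw [show y (a * b) = y a * y b from hι (by rw [hy, Subalgebra.coe_mul, map_mul, map_mul, hy, hy]), map_mul]
      map_zero' := by
        rw [show y 0 = 0 from hι (by rw [hy, ZeroMemClass.coe_zero, map_zero, map_zero]), map_zero]
      map_add' := fun a b => by
        rw [show y (a + b) = y a + y b from hι (by rw [hy, Subalgebra.coe_add, map_add, map_add, hy, hy]), map_add]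
      commutes' := fun a => by
        rw [show y (algebraMap A A'' a) = algebraMap A D a from hι (by rw [hy, Subalgebra.coe_algebraMap, AlgHom.commutes, AlgHom.commutes]),
          AlgHom.commutes] }
  have hAE : Function.Injective (algebraMap A E1) := Groth.Agent.H1Ram.algebraMap_injective' K
  haveI : Algebra.IsAlgebraic A K0 :=
    ⟨fun x => (IsFractionRing.isAlgebraic_iff A K K0).2 (Algebra.IsAlgebraic.isAlgebraic x)⟩
  have hψinj : Function.Injective ψ := by
    refine (injective_iff_map_eq_zero _).2 fun c hc => ?_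
    by_contra hc0
    have halg : IsAlgebraic A (c : K0) := Algebra.IsAlgebraic.isAlgebraic _
    have halg' : IsAlgebraic A c := (isAlgebraic_algHom_iff A''.val Subtype.val_injective).1 halg
    obtain ⟨a, ha0, hdvd⟩ := halg'.exists_nonzero_dvd (mem_nonZeroDivisors_of_ne_zero hc0)
    obtain ⟨w, hw⟩ := hdvd
    have := congrArg ψ hw
    rw [AlgHom.commutes, map_mul, hc, zero_mul] at this
    exact ha0 (hAE (this.trans (map_zero _).symm))
  letI : Algebra A'' E1 := ψ.toRingHom.toAlgebra
  haveI : IsScalarTower A A'' E1 := IsScalarTower.of_algebraMap_eq fun a => (ψ.commutes a).symm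
  haveI : FaithfulSMul A'' E1 := (faithfulSMul_iff_algebraMap_injective _ _).2 hψinj
  haveI : Algebra.IsAlgebraic A E1 :=
    ⟨fun x => (IsFractionRing.isAlgebraic_iff A K E1).2 (Algebra.IsAlgebraic.isAlgebraic x)⟩
  haveI : Algebra.IsAlgebraic A'' E1 := Algebra.IsAlgebraic.extendScalars (R := A) (S := A'') (A := E1)
    (fun a b h => hAE (by rw [IsScalarTower.algebraMap_apply A A'' E1, h, ← IsScalarTower.algebraMap_apply]))
  let j : E1 →ₐ[A''] K0 := IsAlgClosed.lift
  let jA : E1 →ₐ[A] K0 := j.restrictScalars A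
  refine ⟨{ jA.toRingHom with commutes' := fun k => ?_ }, fun d c hdc => ?_⟩
  · obtain ⟨a, b, hb, rfl⟩ := IsFractionRing.div_surjective (A := A) k
    show jA (algebraMap K E1 _) = _
    rw [map_div₀, map_div₀, map_div₀, ← IsScalarTower.algebraMap_apply, ← IsScalarTower.algebraMap_apply,
      ← IsScalarTower.algebraMap_apply, ← IsScalarTower.algebraMap_apply, AlgHom.commutes, AlgHom.commutes]
  · have hc : c ∈ A'' := ⟨d, hdc⟩
    have h1 : φ d = algebraMap A'' E1 ⟨c, hc⟩ := by
      show φ d = φ (y ⟨c, hc⟩)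
      rw [show y ⟨c, hc⟩ = d from hι (by rw [hy, hdc])]
    show j (φ d) = c
    rw [h1, AlgHom.commutes]
    rfl

/-- The output: a finite normal extension of the constants over which there is an order with
geometrically reduced special fibre. -/
theorem exists_normal_point {A K K0 : Type u} [CommRing A] [IsDomain A] [IsDiscreteValuationRing A] [Field K]
    [Algebra A K] [IsFractionRing A K] [Field K0] [IsAlgClosed K0] [Algebra K K0] [Algebra.IsAlgebraic K K0]
    [Algebra A K0] [IsScalarTower A K K0] {π : A} (hπ : Irreducible π)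
    {σ : Type u} [Fintype σ] [DecidableEq σ]
    {E : Type u} [CommRing E] [IsReduced E] [Nontrivial E] [Algebra (FractionRing (MvPolynomial σ K0)) E]
    {n : ℕ} (e : Module.Basis (Fin n) (FractionRing (MvPolynomial σ K0)) E)
    (τ : Fin n → Fin n → Fin n → MvPolynomial σ K0) (o : Fin n → MvPolynomial σ K0) (d : MvPolynomial σ K0) (hd : d ≠ 0)
    (he : ∀ i j, e i * e j = ∑ r, algebraMap _ (FractionRing (MvPolynomial σ K0)) (τ i j r) • e r)
    (ho : algebraMap _ (FractionRing (MvPolynomial σ K0)) d • (1 : E) =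
      ∑ r, algebraMap _ (FractionRing (MvPolynomial σ K0)) (o r) • e r)
    (hint : ∀ i, ((algebraMap (FractionRing (MvPolynomial σ K0)) E).comp (algebraMap (MvPolynomial σ K0) _)).IsIntegralElem (e i))
    (S0 : Finset K0) :
    ∃ (K1 : IntermediateField K K0) (_ : FiniteDimensional K K1) (_ : Normal K K1) (W1 : ValuationSubring K1),
      (∀ s ∈ S0, s ∈ K1) ∧ EtRam.Dominates A (algebraMap A K1) W1 ∧
      ∃ (θ : Fin n → E) (g : MvPolynomial σ W1) (C : Fin n → Fin n → Fin n → MvPolynomial σ W1)
        (U : Fin n → MvPolynomial σ W1) (P Q : Fin n → Fin n → FractionRing (MvPolynomial σ K1)),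
        let j : FractionRing (MvPolynomial σ K1) →+* FractionRing (MvPolynomial σ K0) := fracMap (σ := σ) _ _ K1.val.toRingHom
        let F1 := FractionRing (MvPolynomial σ K1)
        Primitive W1 σ g ∧
        (∀ i, θ i = ∑ l, j (P i l) • e l) ∧
        (∀ i m, θ i * θ m = ∑ l, j (toF W1 σ F1 (C i m l) / toF W1 σ F1 g) • θ l) ∧
        (1 = ∑ l, j (toF W1 σ F1 (U l) / toF W1 σ F1 g) • θ l) ∧
        (∀ i, e i = ∑ l, j (Q i l) • θ l) ∧ LinearIndependent (FractionRing (MvPolynomial σ K0)) θ ∧
        (∀ (S : Type u) [CommRing S] [Algebra (ResField W1 σ) S] [Algebra (ResidueField W1) S]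
          [IsScalarTower (ResidueField W1) (ResField W1 σ) S] (s : Module.Basis (Fin n) (ResField W1 σ) S),
          (∀ i m, algebraMap _ (ResField W1 σ) (MvPolynomial.map (residue W1) g) • (s i * s m) =
            ∑ l, algebraMap _ (ResField W1 σ) (MvPolynomial.map (residue W1) (C i m l)) • s l) →
          Algebra.IsGeometricallyReduced (ResidueField W1) S) := by
  classical
  have hAinj : Function.Injective (algebraMap A K0) := Groth.Agent.H1Ram.algebraMap_injective' K
  obtain ⟨O0, hO0⟩ := Groth.Agent.H1Ram.exists_dominates (algebraMap A K0)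
  obtain ⟨v, hv, hvO⟩ := exists_absoluteValue (K := K) O0 hO0.1 hO0.2
  have hvm : ∀ a ∈ maximalIdeal A, v (algebraMap A K0 a) < 1 := fun a ha => by
    by_contra h
    rw [not_lt] at h
    have hinv : (algebraMap A K0 a)⁻¹ ∈ O0 := (hvO _).1 (by rw [map_inv₀]; exact inv_le_one_of_one_le₀ h)
    have hlt := hO0.2 a ha
    have h1 := (O0.valuation_le_one_iff _).2 hinv
    rcases eq_or_ne (algebraMap A K0 a) 0 with h0 | h0
    · rw [h0, map_zero] at h; linarith
    rw [map_inv₀, inv_le_one₀ (zero_lt_iff.2 ((O0.valuation).ne_zero_iff.2 h0))] at h1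
    exact absurd hlt (not_lt.2 h1)
  obtain ⟨D, _, _, _, _, k, _, _, ψ₀, Ω, _, _, ι, cst, g, C, U, N, P, Q, τ', o', d', μ, hι, hψπ, hμ, hτ', ho', hd', htr, hcert⟩ :=
    exists_descended hAinj v hv (fun a => (hvO _).2 (hO0.1 a)) hvm hπ e τ o d hd he ho hint
  haveI : (RingHom.ker ψ₀).IsPrime := RingHom.ker_isPrime ψ₀
  have hπD : algebraMap A D π ≠ 0 := fun h => by
    have h1 : algebraMap A Ω π = 0 := by rw [← ι.commutes, h, map_zero]
    rw [← cst.commutes, ← map_zero cst] at h1
    exact hπ.ne_zero (hAinj ((cst : K0 →+* Ω).injective h1 |>.trans (map_zero _).symm))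
  obtain ⟨E1, _, _, _, _, _, φ, W, hφW, hφπ, hφμ⟩ :=
    exists_specialisation (K := K) hπ hπD (RingHom.ker ψ₀) hψπ (μ := μ) hμ
  obtain ⟨j, hj⟩ := exists_compatible_embedding (K := K) ι hι cst φ
  let L0 : IntermediateField K K0 := j.fieldRange ⊔ IntermediateField.adjoin K (S0 : Set K0)
  haveI : FiniteDimensional K (IntermediateField.adjoin K (S0 : Set K0)) :=
    IntermediateField.finiteDimensional_adjoin fun x _ => (Algebra.IsAlgebraic.isAlgebraic x).isIntegral
  haveI : FiniteDimensional K j.fieldRange := j.toLinearMap.finiteDimensional_range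
  haveI : FiniteDimensional K L0 := IntermediateField.finiteDimensional_sup _ _
  haveI : Normal K K0 := normal_iff.2 fun x => ⟨(Algebra.IsAlgebraic.isAlgebraic x).isIntegral, IsAlgClosed.splits _⟩
  let K1 := IntermediateField.normalClosure K L0 K0
  have hL0 : L0 ≤ K1 := IntermediateField.le_normalClosure L0
  haveI : FiniteDimensional K K1 := normalClosure.is_finiteDimensional K L0 K0
  haveI : Normal K K1 := normalClosure.normal K L0 K0
  -- move the valuation to `K1`
  let j1 : E1 →ₐ[K] K1 := j.codRestrict K1.toSubalgebra fun z => hL0 ((le_sup_left : j.fieldRange ≤ L0) ⟨z, rfl⟩)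
  obtain ⟨W1, hW1⟩ := Groth.Agent.H1Ram.exists_dominates ((j1.toRingHom).comp W.subtype)
  have hjA : ∀ a : A, j1 (algebraMap A E1 a) = algebraMap A K1 a := fun a => by
    rw [IsScalarTower.algebraMap_apply A K E1, AlgHom.commutes, ← IsScalarTower.algebraMap_apply]
  have hunit : ∀ z : E1, W.valuation z = 1 → W1.valuation (j1 z) = 1 := fun z hz => by
    have hzW : z ∈ W := (W.valuation_le_one_iff z).1 hz.le
    have hu : IsUnit (⟨z, hzW⟩ : W) := (W.valuation_eq_one_iff ⟨z, hzW⟩).2 hz
    obtain ⟨u, hu'⟩ := hu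
    refine le_antisymm ((W1.valuation_le_one_iff _).2 (hW1.1 ⟨z, hzW⟩)) ?_
    have h1 : W1.valuation (j1 z) * W1.valuation (j1 ((↑u⁻¹ : W) : E1)) = 1 := by
      rw [← map_mul, ← map_mul, show z = ((u : W) : E1) by rw [hu'], ← Subring.coe_mul, u.mul_inv]
      simp
    calc (1 : W1.ValueGroup) = _ := h1.symm
      _ ≤ W1.valuation (j1 z) * 1 := by gcongr; exact (W1.valuation_le_one_iff _).2 (hW1.1 _)
      _ = _ := mul_one _
  have hWA : EtRam.Dominates A (algebraMap A K1) W1 := by
    refine ⟨fun a => hjA a ▸ hW1.1 ⟨algebraMap A E1 a, φ.commutes a ▸ hφW _⟩, fun a ha => ?_⟩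
    obtain ⟨b, rfl⟩ := Ideal.mem_span_singleton.1 (hπ.maximalIdeal_eq ▸ ha)
    rw [map_mul, map_mul]
    refine mul_lt_one_of_lt_of_le ?_ ((W1.valuation_le_one_iff _).2 (hjA b ▸ hW1.1 ⟨algebraMap A E1 b, φ.commutes b ▸ hφW _⟩))
    rw [← hjA]
    refine hW1.2 ⟨algebraMap A E1 π, φ.commutes π ▸ hφW _⟩ ((W.valuation_lt_one_iff _).2 ?_)
    show W.valuation (algebraMap A E1 π) < 1
    exact φ.commutes π ▸ hφπ
  -- the homomorphism `D[1/π] → K1`
  let φ1 : D →+* K1 := j1.toRingHom.comp φ.toRingHom
  have hφ1W : ∀ y, φ1 y ∈ W1 := fun y => hW1.1 ⟨φ y, hφW y⟩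
  let ψW : D →+* W1 := φ1.codRestrict W1.toSubring hφ1W
  let ψ : D →+* ResidueField W1 := (residue W1).comp ψW
  have hψμ : ψ μ ≠ 0 := (((W1.valuation_eq_one_iff (ψW μ)).2 (hunit _ hφμ)).map (residue W1)).ne_zero
  have hψπ' : ψ (algebraMap A D π) = 0 := by
    refine (residue_eq_zero_iff _).2 ((W1.valuation_lt_one_iff _).2 ?_)
    show W1.valuation (j1 (φ (algebraMap A D π))) < 1
    rw [φ.commutes, hjA]
    exact hWA.2 π (hπ.maximalIdeal_eq ▸ Ideal.mem_span_singleton_self π)
  have hchar : ringChar (ResidueField W1) = ringChar k := by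
    have key : ∀ (l : Type u) [Field l] (χ : D →+* l), χ (algebraMap A D π) = 0 → ringChar l = ringChar (ResidueField A) := by
      intro l _ χ hχ
      let h : ResidueField A →+* l := Ideal.Quotient.lift _ (χ.comp (algebraMap A D)) fun a ha => by
        obtain ⟨b, rfl⟩ := Ideal.mem_span_singleton.1 (hπ.maximalIdeal_eq ▸ ha)
        rw [RingHom.comp_apply, map_mul, map_mul, hχ, zero_mul]
      haveI : CharP (ResidueField A) (ringChar (ResidueField A)) := ringChar.charP _
      haveI : CharP l (ringChar (ResidueField A)) := charP_of_injective_ringHom h.injective _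
      exact ringChar.eq l _
    rw [key _ ψ hψπ', key _ ψ₀ hψπ]
  obtain ⟨hgprim, -⟩ := hcert (ResidueField W1) ψ hψμ hchar
  have hπ1 : φ1 (algebraMap A D π) ≠ 0 := by
    show j1 (φ (algebraMap A D π)) ≠ 0
    rw [φ.commutes, hjA]
    exact fun h => hπ.ne_zero (Groth.Agent.H1Ram.algebraMap_injective' K (h.trans (map_zero _).symm))
  let F1 := FractionRing (MvPolynomial σ K1)
  let F0 := FractionRing (MvPolynomial σ K0)
  let jF : F1 →+* F0 := fracMap (σ := σ) F1 F0 K1.val.toRingHom
  let f : Localization.Away (algebraMap A D π) →+* F0 :=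
    IsLocalization.Away.lift (algebraMap A D π) (g := (jF.comp (algebraMap (MvPolynomial σ K1) F1)).comp (MvPolynomial.C.comp φ1))
      (isUnit_iff_ne_zero.2 (by
        simp only [RingHom.comp_apply, map_ne_zero_iff _ jF.injective,
          map_ne_zero_iff _ (IsFractionRing.injective (MvPolynomial σ K1) F1)]
        exact fun h => hπ1 (MvPolynomial.C_eq_zero.1 h)))
  let x : σ → F0 := fun i => algebraMap (MvPolynomial σ K0) F0 (X i)
  have hf : ∀ y : D, f (algebraMap D _ y) = algebraMap (MvPolynomial σ K0) F0 (MvPolynomial.C ((φ1 y : K1) : K0)) := fun y => by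
    rw [IsLocalization.Away.lift_eq]
    simp only [RingHom.comp_apply, jF, fracMap_algebraMap, MvPolynomial.map_C]
    rfl
  let Φ : MvPolynomial σ D →+* F0 := MvPolynomial.eval₂Hom (f.comp (algebraMap D _)) x
  have hΦ : ∀ q, Φ q = algebraMap (MvPolynomial σ K0) F0 (MvPolynomial.map K1.val.toRingHom (MvPolynomial.map φ1 q)) := fun q => by
    induction q using MvPolynomial.induction_on with
    | C a => rw [MvPolynomial.eval₂Hom_C, RingHom.comp_apply, hf, MvPolynomial.map_C, MvPolynomial.map_C]; rfl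
    | add p q hp hq => simp only [map_add, hp, hq]
    | mul_X p i hp =>
      rw [map_mul, hp]
      simp only [Φ, map_mul, MvPolynomial.eval₂Hom_X', MvPolynomial.map_X, x]
  obtain ⟨c₀, hc₀⟩ : ∃ c₀ : K0, c₀ = algebraMap A K0 π ^ N := ⟨_, rfl⟩
  have hc₀0 : c₀ ≠ 0 := hc₀ ▸ pow_ne_zero _ fun h => hπ.ne_zero (hAinj (h.trans (map_zero _).symm))
  have hp : f (algebraMap D _ (algebraMap A D π)) ^ N = algebraMap (MvPolynomial σ K0) F0 (MvPolynomial.C c₀) := by
    rw [hf, ← map_pow, ← map_pow, hc₀]
    congr 3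
    show ((j1 (φ (algebraMap A D π)) : K1) : K0) = algebraMap A K0 π
    rw [φ.commutes, hjA]
    rfl
  have hpne : algebraMap (MvPolynomial σ K0) F0 (MvPolynomial.C c₀) ≠ 0 :=
    (map_ne_zero_iff _ (IsFractionRing.injective _ F0)).2 fun h => hc₀0 (MvPolynomial.C_eq_zero.1 h)
  have hconst : ∀ (q : MvPolynomial σ K0) (q' : MvPolynomial σ D),
      MvPolynomial.map cst.toRingHom (MvPolynomial.C (algebraMap A K0 π ^ N) * q) = MvPolynomial.map ι.toRingHom q' →
      Φ q' / algebraMap (MvPolynomial σ K0) F0 (MvPolynomial.C c₀) = algebraMap _ F0 q := by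
    intro q q' h
    rw [hΦ, div_eq_iff hpne, ← map_mul, MvPolynomial.map_map]
    congr 1
    ext m
    have h' := congrArg (coeff m) h
    rw [coeff_map, coeff_map] at h'
    rw [coeff_map, mul_comm, hc₀]
    exact hj (q'.coeff m) _ h'.symm
  have hd0 : Φ d' ≠ 0 := fun h => by
    have := hconst d d' hd'
    rw [h, zero_div] at this
    exact hd (IsFractionRing.injective (MvPolynomial σ K0) F0 (this.symm.trans (map_zero _).symm))
  have hgW : MvPolynomial.map (residue W1) (MvPolynomial.map ψW g) ≠ 0 := by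
    rw [MvPolynomial.map_map]; exact hgprim
  have hgΦ : ∀ q : MvPolynomial σ D, Φ q = jF (toF W1 σ F1 (MvPolynomial.map ψW q)) := fun q => by
    rw [hΦ, toF, RingHom.comp_apply, fracMap_algebraMap]
    simp only [MvPolynomial.map_map]
    rfl
  have hg0 : Φ g ≠ 0 := by
    rw [hgΦ]; exact (map_ne_zero_iff _ jF.injective).2 (toF_ne_zero W1 hgW)
  obtain ⟨θ', h1, h2, h3, h4, h5⟩ := htr F0 E f x e
    (fun i m => by
      rw [he]
      refine Finset.sum_congr rfl fun r _ => congrArg (· • e r) ?_
      show _ = Φ (τ' i m r) / f (algebraMap D _ (algebraMap A D π)) ^ N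
      rw [hp]; exact (hconst _ _ (hτ' i m r)).symm)
    (by
      show (Φ d' / f (algebraMap D _ (algebraMap A D π)) ^ N) • (1 : E) = ∑ r, (Φ (o' r) / f (algebraMap D _ (algebraMap A D π)) ^ N) • e r
      rw [hp, hconst _ _ hd', ho]
      exact Finset.sum_congr rfl fun r _ => by rw [hconst _ _ (ho' r)]) hd0 hg0
  let c1 : F1 := algebraMap (MvPolynomial σ K1) F1 (MvPolynomial.C (φ1 (algebraMap A D π) ^ N))
  have hc1 : jF c1 = f (algebraMap D _ (algebraMap A D π)) ^ N := by
    rw [hf, fracMap_algebraMap, MvPolynomial.map_C, map_pow, map_pow, map_pow]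
    rfl
  refine ⟨K1, inferInstance, inferInstance, W1,
    fun s hs => hL0 ((le_sup_right : _ ≤ L0) (IntermediateField.subset_adjoin K _ hs)), hWA,
    θ', MvPolynomial.map ψW g, fun a b c => MvPolynomial.map ψW (C a b c), fun l => MvPolynomial.map ψW (U l),
    fun i l => toF W1 σ F1 (MvPolynomial.map ψW (P i l)) / (c1 * toF W1 σ F1 (MvPolynomial.map ψW g)),
    fun i l => toF W1 σ F1 (MvPolynomial.map ψW (Q i l)) / (c1 * toF W1 σ F1 (MvPolynomial.map ψW g)),
    hgW, fun i => ?_, fun i m => ?_, ?_, fun i => ?_, h5, ?_⟩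
  · exact (h1 i).trans (Finset.sum_congr rfl fun l _ => congrArg (· • e l)
      ((congrArg₂ (· / ·) (hgΦ _) (congrArg₂ (· * ·) hc1.symm (hgΦ _))).trans (by rw [map_div₀, map_mul])))
  · exact (h2 i m).trans (Finset.sum_congr rfl fun l _ => congrArg (· • θ' l)
      ((congrArg₂ (· / ·) (hgΦ _) (hgΦ _)).trans (map_div₀ jF _ _).symm))
  · exact h3.trans (Finset.sum_congr rfl fun l _ => congrArg (· • θ' l)
      ((congrArg₂ (· / ·) (hgΦ _) (hgΦ _)).trans (map_div₀ jF _ _).symm))
  · exact (h4 i).trans (Finset.sum_congr rfl fun l _ => congrArg (· • θ' l)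
      ((congrArg₂ (· / ·) (hgΦ _) (congrArg₂ (· * ·) hc1.symm (hgΦ _))).trans (by rw [map_div₀, map_mul])))
  intro S _ _ _ _ s hs
  refine geomReduced_of_table (σ := σ) s fun L _ _ _ _ hKL => ?_
  let ψb : D →+* AlgebraicClosure (ResidueField W1) := (algebraMap _ _).comp ψ
  have hψb : ψb μ ≠ 0 := (map_ne_zero_iff _ (algebraMap _ _).injective).2 hψμ
  have hcharb : ringChar (AlgebraicClosure (ResidueField W1)) = ringChar k := by
    haveI := ringChar.charP (ResidueField W1)
    haveI : CharP (AlgebraicClosure (ResidueField W1)) (ringChar (ResidueField W1)) :=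
      charP_of_injective_ringHom (algebraMap (ResidueField W1) _).injective _
    rw [ringChar.eq (AlgebraicClosure (ResidueField W1)) (ringChar (ResidueField W1)), hchar]
  refine (hcert _ ψb hψb hcharb).2 L (L ⊗[ResField W1 σ] S) (s.baseChange L) fun i m => ?_
  have hmap : ∀ q : MvPolynomial σ D, algebraMap (MvPolynomial σ (AlgebraicClosure (ResidueField W1))) L (MvPolynomial.map ψb q) =
      algebraMap (ResField W1 σ) L (algebraMap _ (ResField W1 σ) (MvPolynomial.map (residue W1) (MvPolynomial.map ψW q))) :=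
    fun q => by rw [hKL, MvPolynomial.map_map, MvPolynomial.map_map]; rfl
  simp only [hmap, algebraMap_smul L, Module.Basis.baseChange_apply, Algebra.TensorProduct.tmul_mul_tmul, one_mul,
    ← TensorProduct.tmul_smul, ← TensorProduct.tmul_sum, hs i m]

end Groth.Agent.H1Stab
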