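import Mathlib

/-!
# Gauss coordinates on an extension of discrete valuation rings
-/

set_option autoImplicit false

universe u

open MvPolynomial IsLocalRing

namespace Groth.Agent.H1Stab

/-- An algebraic essentially finite type field extension is finite. -/
theorem finite_of_essFiniteType (k l : Type u) [Field k] [Field l] [Algebra k l] [Algebra.EssFiniteType k l]
    [Algebra.IsAlgebraic k l] : Module.Finite k l := by
  haveI : Algebra.IsIntegral k (Algebra.EssFiniteType.subalgebra k l) :=
    ⟨fun x => (isIntegral_algHom_iff (Algebra.EssFiniteType.subalgebra k l).val Subtype.val_injective).1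
      (Algebra.IsAlgebraic.isAlgebraic _).isIntegral⟩
  haveI : Module.Finite k (Algebra.EssFiniteType.subalgebra k l) := Algebra.IsIntegral.finite
  have hfield : IsField (Algebra.EssFiniteType.subalgebra k l) :=
    isField_of_isIntegral_of_isField' (Field.toIsField k)
  refine Module.Finite.of_surjective (Algebra.EssFiniteType.subalgebra k l).val.toLinearMap fun z => ?_
  obtain ⟨a, b, hab⟩ := IsLocalization.exists_mk'_eq (Algebra.EssFiniteType.submonoid k l) z
  have hb : (b : Algebra.EssFiniteType.subalgebra k l) ≠ 0 := fun h => by
    have hu : IsUnit (algebraMap (Algebra.EssFiniteType.subalgebra k l) l b) := b.2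
    rw [h, map_zero] at hu
    exact not_isUnit_zero hu
  obtain ⟨c, hc⟩ := hfield.mul_inv_cancel hb
  refine ⟨a * c, ?_⟩
  show algebraMap (Algebra.EssFiniteType.subalgebra k l) l (a * c) = z
  rw [← hab, IsLocalization.eq_mk'_iff_mul_eq, ← map_mul, mul_assoc, mul_comm c, hc, mul_one]

/-- Evaluation at elements algebraically independent over the base stays injective over an algebraic extension. -/
theorem eval_injective_of_algebraic {σ : Type u} {k l N : Type u} [Field k] [Field l] [Field N] [Algebra k l]
    [Algebra.IsAlgebraic k l] (ψ : l →+* N) (x : σ → N)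
    (h : Function.Injective (MvPolynomial.eval₂Hom (ψ.comp (algebraMap k l)) x)) :
    Function.Injective (MvPolynomial.eval₂Hom ψ x) := by
  let i : MvPolynomial σ k →+* MvPolynomial σ l := MvPolynomial.map (algebraMap k l)
  letI : Algebra (MvPolynomial σ k) (MvPolynomial σ l) := i.toAlgebra
  haveI : Algebra.IsIntegral (MvPolynomial σ k) (MvPolynomial σ l) := ⟨fun p => by
    induction p using MvPolynomial.induction_on with
    | C a =>
      obtain ⟨P, hP, hP0⟩ := (Algebra.IsAlgebraic.isAlgebraic (R := k) a).isIntegral
      refine ⟨P.map MvPolynomial.C, hP.map _, ?_⟩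
      have h1 := congrArg (MvPolynomial.C : l →+* MvPolynomial σ l) hP0
      rw [Polynomial.hom_eval₂, map_zero] at h1
      rw [Polynomial.eval₂_map, ← h1]
      refine Polynomial.eval₂_congr (RingHom.ext fun c => ?_) rfl rfl
      exact MvPolynomial.map_C _ c
    | add p q hp hq => exact hp.add hq
    | mul_X p j hp =>
      refine hp.mul ?_
      have hX : (X j : MvPolynomial σ l) = algebraMap (MvPolynomial σ k) (MvPolynomial σ l) (X j) := (MvPolynomial.map_X _ j).symm
      rw [hX]; exact isIntegral_algebraMap⟩
  rw [RingHom.injective_iff_ker_eq_bot]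
  refine Ideal.eq_bot_of_comap_eq_bot (R := MvPolynomial σ k) ((Submodule.eq_bot_iff _).2 fun p hp => h ?_)
  rw [map_zero]
  have h1 : MvPolynomial.eval₂Hom ψ x (MvPolynomial.map (algebraMap k l) p) = 0 := hp
  rwa [MvPolynomial.eval₂Hom_map_hom] at h1

/-- Residual transcendence coordinates. -/
theorem exists_coordinates (A B : Type u) [CommRing A] [IsLocalRing A] [CommRing B] [IsLocalRing B] [Algebra A B]
    [IsLocalHom (algebraMap A B)] [Algebra.EssFiniteType A B] :
    ∃ (σ : Type u) (_ : Fintype σ) (x : σ → B),
      Function.Injective (MvPolynomial.eval₂Hom (ResidueField.map (algebraMap A B)) (fun i => residue B (x i))) ∧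
      ∀ z : ResidueField B, ∃ P : Polynomial (ResidueField B), P ≠ 0 ∧ P.eval z = 0 ∧
        ∀ m, ∃ p : MvPolynomial σ A, residue B (MvPolynomial.aeval x p) = P.coeff m := by
  classical
  letI : Algebra (ResidueField A) (ResidueField B) := (ResidueField.map (algebraMap A B)).toAlgebra
  haveI : Algebra.EssFiniteType A (ResidueField B) :=
    Algebra.EssFiniteType.comp A B (ResidueField B)
  haveI : IsScalarTower A (ResidueField A) (ResidueField B) := IsScalarTower.of_algebraMap_eq fun a =>
    (ResidueField.map_residue (algebraMap A B) a).symm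
  haveI : Algebra.EssFiniteType (ResidueField A) (ResidueField B) :=
    Algebra.EssFiniteType.of_comp A (ResidueField A) (ResidueField B)
  let s : Set (ResidueField B) := Algebra.EssFiniteType.finset (ResidueField A) (ResidueField B)
  haveI : Algebra.IsAlgebraic (Algebra.adjoin (ResidueField A) s) (ResidueField B) :=
    IsLocalization.isAlgebraic _ (Algebra.EssFiniteType.submonoid (ResidueField A) (ResidueField B))
  obtain ⟨t, hts, ht⟩ := exists_isTranscendenceBasis_subset (R := ResidueField A) s
  haveI : Finite t := ((Algebra.EssFiniteType.finset (ResidueField A) (ResidueField B)).finite_toSet.subset hts).to_subtype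
  choose x hx using fun i : t => residue_surjective (i : ResidueField B)
  refine ⟨t, Fintype.ofFinite t, x, ?_, fun z => ?_⟩
  · have hinj : Function.Injective (MvPolynomial.aeval (R := ResidueField A) ((↑) : t → ResidueField B)) := ht.1
    have : (fun i => residue B (x i)) = ((↑) : t → ResidueField B) := funext hx
    rw [this]
    exact hinj
  · haveI := ht.isAlgebraic
    obtain ⟨P, hP0, hP⟩ := Algebra.IsAlgebraic.isAlgebraic (R := Algebra.adjoin (ResidueField A) (Set.range ((↑) : t → ResidueField B))) z
    refine ⟨P.map (algebraMap _ _), ?_, ?_, fun m => ?_⟩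
    · exact (Polynomial.map_ne_zero_iff (FaithfulSMul.algebraMap_injective _ _)).2 hP0
    · rw [Polynomial.eval_map]; exact hP
    · rw [Polynomial.coeff_map]
      have hmem : ((P.coeff m : ResidueField B)) ∈ (MvPolynomial.aeval (R := ResidueField A) ((↑) : t → ResidueField B)).range :=
        (Algebra.adjoin_range_eq_range_aeval (ResidueField A) ((↑) : t → ResidueField B)).le (P.coeff m).2
      obtain ⟨q, hq⟩ := hmem
      obtain ⟨p, rfl⟩ := MvPolynomial.map_surjective (residue A) residue_surjective q
      refine ⟨p, ?_⟩
      show _ = ((P.coeff m : ResidueField B))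
      rw [← hq]
      show residue B (MvPolynomial.aeval x p) = MvPolynomial.aeval ((↑) : t → ResidueField B) (MvPolynomial.map (residue A) p)
      rw [MvPolynomial.aeval_def, MvPolynomial.aeval_def, MvPolynomial.eval₂_map, MvPolynomial.eval₂_comp_left (residue B),
        show ((residue B) ∘ x) = ((↑) : t → ResidueField B) from funext hx]
      exact congrArg (fun h => MvPolynomial.eval₂ h ((↑) : t → ResidueField B) p) (RingHom.ext fun a => (ResidueField.map_residue (algebraMap A B) a).symm)

end Groth.Agent.H1Stab
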