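import Groth.Agent.H1Stab.Model
import Groth.Agent.H1Stab.Point
import Groth.Agent.H1Stab.Deduce
import Groth.Agent.H1Stab.Coord
import Groth.Agent.H1Stab.Residue
import Groth.Agent.H1Stab.Valued
import Groth.Agent.H1Ram.Formal
import Mathlib

/-!
# Existence of a solution for an extension of discrete valuation rings essentially of finite type
-/

set_option autoImplicit false

universe u

open MvPolynomial IsLocalRing

namespace Groth.Agent.H1Stab

/-- Residual coordinates stay independent over a residually algebraic extension of the constants. -/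
theorem residual_injective {A B V W : Type u} [CommRing A] [IsLocalRing A] [CommRing B] [IsLocalRing B]
    [CommRing V] [IsLocalRing V] [CommRing W] [IsLocalRing W] [Algebra A B] [IsLocalHom (algebraMap A B)]
    [Algebra A V] [IsLocalHom (algebraMap A V)] [Algebra.IsAlgebraic (ResidueField A) (ResidueField V)]
    {σ : Type u} (x : σ → B)
    (hx : Function.Injective (MvPolynomial.eval₂Hom (ResidueField.map (algebraMap A B)) (fun i => residue B (x i))))
    (i : V →+* W) [IsLocalHom i] (j : B →+* W) [IsLocalHom j] (h : ∀ a, j (algebraMap A B a) = i (algebraMap A V a)) :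
    Function.Injective (MvPolynomial.eval₂Hom (ResidueField.map i) (fun t => residue W (j (x t)))) := by
  refine eval_injective_of_algebraic (k := ResidueField A) _ _ ?_
  have heq : MvPolynomial.eval₂Hom ((ResidueField.map i).comp (algebraMap (ResidueField A) (ResidueField V)))
      (fun t => residue W (j (x t))) =
      (ResidueField.map j).comp (MvPolynomial.eval₂Hom (ResidueField.map (algebraMap A B)) (fun t => residue B (x t))) := by
    refine MvPolynomial.ringHom_ext (fun c => ?_) (fun t => ?_)
    · obtain ⟨a, rfl⟩ := residue_surjective c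
      simp only [MvPolynomial.eval₂Hom_C, RingHom.comp_apply, ResidueField.map_residue]
      exact (congrArg (residue W) (h a).symm)
    · simp only [MvPolynomial.eval₂Hom_X', RingHom.comp_apply, ResidueField.map_residue]
  rw [heq, RingHom.coe_comp]
  exact (ResidueField.map j).injective.comp hx

/-- The Gauss ring maps into a valuation ring in which the coordinates are residually independent. -/
theorem gauss_maps_into {K1 M : Type u} [Field K1] [Field M] (W : ValuationSubring M) (W1 : ValuationSubring K1)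
    {σ : Type u} (i : W1 →+* W) (xW : σ → W) [IsLocalHom i]
    (hinj : Function.Injective (MvPolynomial.eval₂Hom (ResidueField.map i) (fun t => residue W (xW t))))
    (fF : FractionRing (MvPolynomial σ K1) →+* M)
    (hC : ∀ c : W1, fF (algebraMap (MvPolynomial σ K1) _ (C (c : K1))) = ((i c : W) : M))
    (hX : ∀ t, fF (algebraMap (MvPolynomial σ K1) _ (X t)) = ((xW t : W) : M)) :
    ∀ z ∈ gaussRing W1 σ (FractionRing (MvPolynomial σ K1)), fF z ∈ W := by
  rintro z ⟨p, q, hq, h⟩
  have hev : ∀ r : MvPolynomial σ W1, fF (toF W1 σ _ r) = ((MvPolynomial.eval₂Hom i xW r : W) : M) := by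
    intro r
    refine RingHom.congr_fun (f := fF.comp (toF W1 σ (FractionRing (MvPolynomial σ K1))))
      (g := W.subtype.comp (MvPolynomial.eval₂Hom i xW)) (MvPolynomial.ringHom_ext (fun c => ?_) (fun t => ?_)) r
    · simp only [RingHom.comp_apply, MvPolynomial.eval₂Hom_C, toF, MvPolynomial.map_C]
      exact hC c
    · simp only [RingHom.comp_apply, MvPolynomial.eval₂Hom_X', toF, MvPolynomial.map_X]
      exact hX t
  have hqne : residue W (MvPolynomial.eval₂Hom i xW q) ≠ 0 := by
    have h1 : residue W (MvPolynomial.eval₂Hom i xW q) =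
        MvPolynomial.eval₂Hom (ResidueField.map i) (fun t => residue W (xW t)) (MvPolynomial.map (residue W1) q) := by
      rw [MvPolynomial.eval₂Hom_map_hom, MvPolynomial.map_eval₂Hom]
      rfl
    rw [h1]
    exact fun h0 => hq (hinj (h0.trans (map_zero _).symm))
  obtain ⟨u, hu⟩ := (residue_ne_zero_iff_isUnit _).1 hqne
  have hh := congrArg fF h
  rw [map_mul, hev, hev, ← hu] at hh
  have hz : fF z = ((MvPolynomial.eval₂Hom i xW p * (↑u⁻¹ : W) : W) : M) := by
    rw [MulMemClass.coe_mul, ← hh, mul_assoc]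
    have := congrArg (Subtype.val) u.mul_inv
    rw [MulMemClass.coe_mul, OneMemClass.coe_one] at this
    rw [this, mul_one]
  rw [hz]
  exact SetLike.coe_mem _

section

variable {A B K L : Type u} [CommRing A] [IsDomain A] [IsDiscreteValuationRing A]
    [CommRing B] [IsDomain B] [IsDiscreteValuationRing B] [Algebra A B] [IsLocalHom (algebraMap A B)]
    [Field K] [Field L] [Algebra A K] [IsFractionRing A K] [Algebra B L] [IsFractionRing B L]
    [Algebra K L] [Algebra A L] [IsScalarTower A K L] [IsScalarTower A B L]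

theorem goodExt_of_model {K0 : Type u} [Field K0] [IsAlgClosed K0] [Algebra K K0] [Algebra.IsAlgebraic K K0]
    [Algebra A K0] [IsScalarTower A K K0] {σ : Type u} [Finite σ] (x : σ → B)
    (hx : Function.Injective (MvPolynomial.eval₂Hom (ResidueField.map (algebraMap A B)) (fun i => residue B (x i))))
    (hinj : Function.Injective (algebraMap A B))
    [Algebra (FractionRing (MvPolynomial σ K)) L]
    (hFL : ∀ p, algebraMap (FractionRing (MvPolynomial σ K)) L (algebraMap (MvPolynomial σ K) _ p) =
      MvPolynomial.aeval (fun i => algebraMap B L (x i)) p)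
    {E : Type u} [CommRing E] [Algebra (FractionRing (MvPolynomial σ K0)) E]
    {n : ℕ} (e : Module.Basis (Fin n) (FractionRing (MvPolynomial σ K0)) E) (δ : MvPolynomial σ K0)
    (ιL : L →+* E) (b : Fin n → L)
    (hel : ∀ l, e l = algebraMap _ (FractionRing (MvPolynomial σ K0)) δ • ιL (b l))
    (huniv : ∀ (N : Type u) [Field N] (χ0 : FractionRing (MvPolynomial σ K0) →+* N) (lL : L →+* N),
      (∀ z, lL (algebraMap (FractionRing (MvPolynomial σ K)) L z) = χ0 (fracMap (σ := σ) _ _ (algebraMap K K0) z)) →
      ∃ χ : E →+* N, (∀ z, χ (algebraMap _ E z) = χ0 z) ∧ ∀ y, χ (ιL y) = lL y)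
    (K1 : IntermediateField K K0) [FiniteDimensional K K1]
    (hδ : algebraMap _ (FractionRing (MvPolynomial σ K0)) δ ∈
      (fracMap (σ := σ) (FractionRing (MvPolynomial σ K1)) (FractionRing (MvPolynomial σ K0)) K1.val.toRingHom).range)
    (hrepr : ∀ (y : L) l, e.repr (ιL y) l ∈
      (fracMap (σ := σ) (FractionRing (MvPolynomial σ K1)) (FractionRing (MvPolynomial σ K0)) K1.val.toRingHom).range)
    (W1 : ValuationSubring K1) (hW1 : EtRam.Dominates A (algebraMap A K1) W1)
    (θ : Fin n → E) (g : MvPolynomial σ W1) (C' : Fin n → Fin n → Fin n → MvPolynomial σ W1)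
    (U : Fin n → MvPolynomial σ W1) (P Q : Fin n → Fin n → FractionRing (MvPolynomial σ K1))
    (hg : Primitive W1 σ g)
    (hP : ∀ i, θ i = ∑ l, fracMap (σ := σ) (FractionRing (MvPolynomial σ K1)) (FractionRing (MvPolynomial σ K0)) K1.val.toRingHom (P i l) • e l)
    (hC : ∀ i m, θ i * θ m = ∑ l, fracMap (σ := σ) (FractionRing (MvPolynomial σ K1)) (FractionRing (MvPolynomial σ K0)) K1.val.toRingHom (toF W1 σ _ (C' i m l) / toF W1 σ _ g) • θ l)
    (hU : 1 = ∑ l, fracMap (σ := σ) (FractionRing (MvPolynomial σ K1)) (FractionRing (MvPolynomial σ K0)) K1.val.toRingHom (toF W1 σ _ (U l) / toF W1 σ _ g) • θ l)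
    (hQ : ∀ i, e i = ∑ l, fracMap (σ := σ) (FractionRing (MvPolynomial σ K1)) (FractionRing (MvPolynomial σ K0)) K1.val.toRingHom (Q i l) • θ l)
    (hli : LinearIndependent (FractionRing (MvPolynomial σ K0)) θ)
    (hgeo : ∀ (S : Type u) [CommRing S] [Algebra (ResField W1 σ) S] [Algebra (ResidueField W1) S]
      [IsScalarTower (ResidueField W1) (ResField W1 σ) S] (s : Module.Basis (Fin n) (ResField W1 σ) S),
      (∀ i m, algebraMap _ (ResField W1 σ) (MvPolynomial.map (residue W1) g) • (s i * s m) =
        ∑ l, algebraMap _ (ResField W1 σ) (MvPolynomial.map (residue W1) (C' i m l)) • s l) →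
      Algebra.IsGeometricallyReduced (ResidueField W1) S)
    {M : Type u} [Field M] (f : K1 →+* M) (gL : L →+* M)
    (hfg : ∀ k : K, f (algebraMap K K1 k) = gL (algebraMap K L k))
    (hgen : ∀ R : Subring M, (∀ c, f c ∈ R) → (∀ y, gL y ∈ R) → ∀ y, y ∈ R)
    (W : ValuationSubring M) (hB : EtRam.Dominates B (gL.comp (algebraMap B L)) W) (hV : W.comap f = W1) :
    GoodExt W f := by
  classical
  let F0 := FractionRing (MvPolynomial σ K0)
  let F1 := FractionRing (MvPolynomial σ K1)
  let jF : F1 →+* F0 := fracMap (σ := σ) F1 F0 K1.val.toRingHom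
  let N := AlgebraicClosure M
  let mM : M →+* N := algebraMap M N
  letI : Algebra K1 N := (mM.comp f).toAlgebra
  haveI : Algebra.IsAlgebraic K1 K0 := Algebra.IsAlgebraic.tower_top (K := K) K1
  let j : K0 →ₐ[K1] N := IsAlgClosed.lift
  let xM : σ → M := fun t => gL (algebraMap B L (x t))
  have hK : Function.Injective (MvPolynomial.aeval (R := K) (fun i => algebraMap B L (x i))) :=
    coord_injective hinj x hx
  have hjK : ∀ k : K, j (algebraMap K K0 k) = mM (gL (algebraMap K L k)) := fun k => by
    rw [IsScalarTower.algebraMap_apply K K1 K0, AlgHom.commutes]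
    exact congrArg mM (hfg k)
  have hψ1 : Function.Injective (MvPolynomial.eval₂Hom f xM) := by
    refine eval_injective_of_algebraic (k := K) f xM ?_
    have heq : MvPolynomial.eval₂Hom (f.comp (algebraMap K K1)) xM =
        gL.comp (MvPolynomial.aeval (R := K) (fun i => algebraMap B L (x i))).toRingHom := by
      refine MvPolynomial.ringHom_ext (fun c => ?_) (fun t => ?_)
      · simp [hfg]
      · simp [xM]
    rw [heq, RingHom.coe_comp]
    exact gL.injective.comp hK
  have hψ0 : Function.Injective (MvPolynomial.eval₂Hom j.toRingHom (fun t => mM (xM t))) := by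
    refine eval_injective_of_algebraic (k := K) j.toRingHom _ ?_
    have heq : MvPolynomial.eval₂Hom (j.toRingHom.comp (algebraMap K K0)) (fun t => mM (xM t)) =
        (mM.comp gL).comp (MvPolynomial.aeval (R := K) (fun i => algebraMap B L (x i))).toRingHom := by
      refine MvPolynomial.ringHom_ext (fun c => ?_) (fun t => ?_)
      · simpa using hjK c
      · simp [xM]
    rw [heq, RingHom.coe_comp]
    exact (mM.comp gL).injective.comp hK
  let fF : F1 →+* M := IsFractionRing.lift hψ1
  let χ0 : F0 →+* N := IsFractionRing.lift hψ0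
  have hfFp : ∀ p, fF (algebraMap _ F1 p) = MvPolynomial.eval₂Hom f xM p := fun p => IsFractionRing.lift_algebraMap _ _
  have hχ0p : ∀ p, χ0 (algebraMap _ F0 p) = MvPolynomial.eval₂Hom j.toRingHom (fun t => mM (xM t)) p := fun p =>
    IsFractionRing.lift_algebraMap _ _
  have hχfF : ∀ z, χ0 (jF z) = mM (fF z) := by
    refine RingHom.congr_fun (f := χ0.comp jF) (g := mM.comp fF)
      (IsLocalization.ringHom_ext (nonZeroDivisors (MvPolynomial σ K1)) ?_)
    refine MvPolynomial.ringHom_ext (fun c => ?_) (fun t => ?_)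
    · simp only [RingHom.comp_apply, jF, fracMap_algebraMap, hχ0p, hfFp, MvPolynomial.map_C, MvPolynomial.eval₂Hom_C]
      exact j.commutes c
    · simp only [RingHom.comp_apply, jF, fracMap_algebraMap, hχ0p, hfFp, MvPolynomial.map_X, MvPolynomial.eval₂Hom_X']
  have hcomp : ∀ z, (mM.comp gL) (algebraMap (FractionRing (MvPolynomial σ K)) L z) =
      χ0 (fracMap (σ := σ) _ _ (algebraMap K K0) z) := by
    refine RingHom.congr_fun (f := (mM.comp gL).comp (algebraMap (FractionRing (MvPolynomial σ K)) L))
      (g := χ0.comp (fracMap (σ := σ) _ _ (algebraMap K K0)))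
      (IsLocalization.ringHom_ext (nonZeroDivisors (MvPolynomial σ K)) ?_)
    refine MvPolynomial.ringHom_ext (fun c => ?_) (fun t => ?_)
    · simp only [RingHom.comp_apply, hFL, fracMap_algebraMap, hχ0p, MvPolynomial.map_C, MvPolynomial.eval₂Hom_C,
        MvPolynomial.aeval_C]
      exact (hjK c).symm
    · simp only [RingHom.comp_apply, hFL, fracMap_algebraMap, hχ0p, MvPolynomial.map_X, MvPolynomial.eval₂Hom_X',
        MvPolynomial.aeval_X]
      rfl
  obtain ⟨χ, hχ0, hχL⟩ := huniv N χ0 (mM.comp gL) hcomp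
  let jE : F1 →+* E := (algebraMap F0 E).comp jF
  have hjsmul : ∀ (z : F1) (y : E), jF z • y = jE z * y := fun z y => Algebra.smul_def _ _
  have hχ : ∀ z, χ (jE z) = mM (fF z) := fun z => (hχ0 (jF z)).trans (hχfF z)
  -- the valuation ring `W1`
  haveI hdvr : IsDiscreteValuationRing W1 := (Groth.Agent.H1Ram.isDVR_of_dominates_finite (A := A) (K := K) W1
    (by rw [← IsScalarTower.algebraMap_eq]; exact hW1)).1
  have hW1' : EtRam.Dominates A ((algebraMap K K1).comp (algebraMap A K)) W1 := by
    rw [← IsScalarTower.algebraMap_eq]; exact hW1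
  letI : Algebra A W1 := (RingHom.codRestrict ((algebraMap K K1).comp (algebraMap A K)) W1 hW1'.1).toAlgebra
  haveI : IsLocalHom (algebraMap A W1) := IsLocalHom.mk fun a ha => by
    by_contra hu
    exact ((W1.valuation_lt_one_iff _).2 (hW1'.2 a hu)) ha
  haveI : Module.Finite (ResidueField A) (ResidueField W1) := Groth.Agent.H1Ram.finite_residueField W1 hW1'
  let iW : W1 →+* W := (f.comp W1.subtype).codRestrict W.toSubring fun c => by
    have : (c : K1) ∈ W.comap f := by rw [hV]; exact c.2
    exact this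
  haveI : IsLocalHom iW := IsLocalHom.mk fun c hc => by
    by_contra hu
    have h1 : W1.valuation (c : K1) < 1 := (W1.valuation_lt_one_iff c).1 hu
    obtain ⟨z, hz⟩ : ∃ z : K1, z = (c : K1) := ⟨_, rfl⟩
    rw [← hz, ← hV] at h1
    have h2 := (Groth.Agent.H1Ram.comap_valuation_lt_one W f z).1 h1
    rw [hz] at h2
    exact ((W.valuation_lt_one_iff _).2 h2) hc
  let jB : B →+* W := (gL.comp (algebraMap B L)).codRestrict W.toSubring hB.1
  haveI : IsLocalHom jB := IsLocalHom.mk fun c hc => by
    by_contra hu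
    exact ((W.valuation_lt_one_iff _).2 (hB.2 c hu)) hc
  have hG := gauss_maps_into W W1 iW (fun t => jB (x t))
    (residual_injective x hx iW jB fun a => Subtype.ext (by
      show gL (algebraMap B L (algebraMap A B a)) = f (algebraMap K K1 (algebraMap A K a))
      rw [hfg, ← IsScalarTower.algebraMap_apply, ← IsScalarTower.algebraMap_apply]))
    fF (fun c => by rw [hfFp, MvPolynomial.eval₂Hom_C]; rfl) (fun t => by rw [hfFp, MvPolynomial.eval₂Hom_X']; rfl)
  -- generation
  letI : Algebra F1 E := jE.toAlgebra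
  have hsm : ∀ (z : F1) (y : E), z • y = jF z • y := fun z y => (hjsmul z y).symm
  let T : Submodule F1 E := Submodule.span F1 (Set.range θ)
  have hT1 : (1 : E) ∈ T := by
    rw [hU]
    refine Submodule.sum_mem _ fun l _ => ?_
    rw [← hsm]
    exact Submodule.smul_mem _ _ (Submodule.subset_span ⟨l, rfl⟩)
  have hTmul : ∀ u v, u ∈ T → v ∈ T → u * v ∈ T := by
    have hle : T * T ≤ T := by
      rw [Submodule.span_mul_span, Submodule.span_le]
      rintro _ ⟨_, ⟨i, rfl⟩, _, ⟨m, rfl⟩, rfl⟩
      show θ i * θ m ∈ T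
      rw [hC]
      refine Submodule.sum_mem _ fun l _ => ?_
      rw [← hsm]
      exact Submodule.smul_mem _ _ (Submodule.subset_span ⟨l, rfl⟩)
    exact fun u v hu hv => hle (Submodule.mul_mem_mul hu hv)
  let TS : Subalgebra F1 E := T.toSubalgebra hT1 hTmul
  let R : Subring M := (TS.toSubring.map χ).comap mM
  have hR : ∀ y, y ∈ R := by
    refine hgen R (fun c => ?_) (fun y => ?_)
    · refine ⟨jE (algebraMap (MvPolynomial σ K1) F1 (C c)), TS.algebraMap_mem _, ?_⟩
      rw [hχ, hfFp, MvPolynomial.eval₂Hom_C]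
    · refine ⟨ιL y, ?_, hχL y⟩
      show ιL y ∈ T
      rw [← e.sum_repr (ιL y)]
      refine Submodule.sum_mem _ fun l _ => ?_
      obtain ⟨z, hz⟩ := hrepr y l
      rw [← hz, ← hsm]
      refine Submodule.smul_mem _ _ ?_
      rw [hQ]
      refine Submodule.sum_mem _ fun m _ => ?_
      rw [← hsm]
      exact Submodule.smul_mem _ _ (Submodule.subset_span ⟨m, rfl⟩)
  refine goodExt_of_order W f W1 hV fF (fun c => by rw [hfFp, MvPolynomial.eval₂Hom_C]) hG mM jE χ hχ θ
    (fun a ha => ?_) hg C' U (fun i m => ?_) ?_ hgeo (fun i => ?_) (fun y => ?_)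
  · rw [Fintype.linearIndependent_iff] at hli
    refine funext fun l => jF.injective ?_
    rw [Pi.zero_apply, map_zero]
    exact hli (fun l => jF (a l)) (by simpa only [hjsmul] using ha) l
  · simp only [← hjsmul]; exact hC i m
  · simp only [← hjsmul]; exact hU
  · rw [hP, map_sum]
    refine Subring.sum_mem _ fun l _ => ?_
    obtain ⟨z, hz⟩ := hδ
    rw [hel, ← hz, hjsmul, hjsmul, map_mul, map_mul, hχ, hχ, hχL]
    exact Subring.mul_mem _ ⟨_, rfl⟩ (Subring.mul_mem _ ⟨_, rfl⟩ ⟨_, rfl⟩)
  · obtain ⟨z, hz, hzy⟩ := hR y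
    obtain ⟨a, ha⟩ := (Submodule.mem_span_range_iff_exists_fun F1).1 (show z ∈ T from hz)
    refine ⟨a, ?_⟩
    rw [← hzy, ← ha, map_sum]
    exact Finset.sum_congr rfl fun l _ => by rw [hsm, hjsmul, map_mul]

/-- Existence of a solution, realised inside an algebraic closure. -/
theorem exists_solution (hinj : Function.Injective (algebraMap A B)) [Algebra.EssFiniteType A B] :
    ∃ (K₁ : Type u) (_ : Field K₁) (_ : Algebra K K₁) (_ : FiniteDimensional K K₁), EtRam.IsSolution B K L K₁ := by
  classical
  obtain ⟨σ, _, x, hx, halg⟩ := exists_coordinates A B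
  have hK : Function.Injective (MvPolynomial.aeval (R := K) (fun i => algebraMap B L (x i))).toRingHom :=
    coord_injective hinj x hx
  letI : Algebra (FractionRing (MvPolynomial σ K)) L := (IsFractionRing.lift hK).toAlgebra
  have hFL : ∀ p, algebraMap (FractionRing (MvPolynomial σ K)) L (algebraMap (MvPolynomial σ K) _ p) =
      MvPolynomial.aeval (fun i => algebraMap B L (x i)) p := fun p => IsFractionRing.lift_algebraMap _ _
  haveI : Module.Finite (FractionRing (MvPolynomial σ K)) L := finite_over_coordinates hinj x hx halg hFL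
  obtain ⟨π, hπ⟩ := IsDiscreteValuationRing.exists_irreducible A
  let K0 := AlgebraicClosure K
  obtain ⟨E, _, _, _, _, n, e, τ, o, d, δ, ιL, b, S0, hd, he, ho, hint, hel, hS, huniv⟩ :=
    exists_model (K := K) (K0 := K0) (σ := σ) (L := L)
  obtain ⟨K1, hfin, hnor, W1, hS0, hW1, θ, g, C', U, P, Q, hg, hP, hC, hU, hQ, hli, hgeo⟩ :=
    exists_normal_point (A := A) (K := K) (K0 := K0) hπ e τ o d hd he ho hint S0
  obtain ⟨hδ, hrepr⟩ := hS K1 hS0
  refine ⟨K1, inferInstance, inferInstance, hfin, ?_⟩
  intro M _ _ _ _ _ _ hgen W hW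
  show GoodExt W (algebraMap K1 M)
  have hV : EtRam.Dominates A (algebraMap A K1) (W.comap (algebraMap K1 M)) := by
    have key : ∀ a, algebraMap K1 M (algebraMap A K1 a) = ((algebraMap L M).comp (algebraMap B L)) (algebraMap A B a) := by
      intro a
      rw [RingHom.comp_apply, ← IsScalarTower.algebraMap_apply A B L, IsScalarTower.algebraMap_apply A K K1,
        IsScalarTower.algebraMap_apply A K L, ← IsScalarTower.algebraMap_apply K K1 M, ← IsScalarTower.algebraMap_apply K L M]
    refine ⟨fun a => ?_, fun a ha => ?_⟩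
    · show algebraMap K1 M _ ∈ W
      rw [key]; exact hW.1 _
    · refine (Groth.Agent.H1Ram.comap_valuation_lt_one W _ _).2 ?_
      rw [key]
      exact hW.2 _ fun hu => ha (isUnit_of_map_unit (algebraMap A B) a hu)
  obtain ⟨s, hs⟩ := exists_conjugate (A := A) (K := K) W1 (W.comap (algebraMap K1 M)) hW1.1 hW1.2 hV.1 hV.2
  refine goodExt_twist W _ s.toRingEquiv ?_
  refine goodExt_of_model x hx hinj hFL e δ ιL b hel huniv K1 hδ hrepr W1 hW1 θ g C' U P Q hg hP hC hU hQ hli hgeo
    _ (algebraMap L M) (fun k => ?_) (fun R hRf hRg y => ?_) W hW ?_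
  · show algebraMap K1 M (s (algebraMap K K1 k)) = _
    rw [AlgEquiv.commutes, ← IsScalarTower.algebraMap_apply K K1 M, ← IsScalarTower.algebraMap_apply K L M]
  · let RL : Subalgebra L M := { R.toSubsemiring with algebraMap_mem' := hRg }
    have hle : Algebra.adjoin L (Set.range (algebraMap K1 M)) ≤ RL := Algebra.adjoin_le (by
      rintro _ ⟨c, rfl⟩
      obtain ⟨c, rfl⟩ := s.surjective c
      exact hRf c)
    rw [hgen] at hle
    exact hle (Algebra.mem_top)
  · rw [← hs]
    exact SetLike.ext fun _ => Iff.rfl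

end

end Groth.Agent.H1Stab
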