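import Groth.Agent.H1Stab.FracMap
import Mathlib

/-!
# The reduced model over the algebraically closed constants
-/

set_option autoImplicit false

universe u

open MvPolynomial IsLocalRing TensorProduct

namespace Groth.Agent.H1Stab

theorem exists_common_denominator' {R F : Type*} [CommRing R] [Field F] [Algebra R F] [IsFractionRing R F]
    {ι : Type*} [Finite ι] (z : ι → F) :
    ∃ d : R, algebraMap R F d ≠ 0 ∧ ∀ i, ∃ p : R, algebraMap R F d * z i = algebraMap R F p := by
  classical
  haveI := Fintype.ofFinite ι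
  obtain ⟨d, hd⟩ := IsLocalization.exist_integer_multiples (nonZeroDivisors R) Finset.univ z
  refine ⟨d, (IsLocalization.map_units F d).ne_zero, fun i => ?_⟩
  obtain ⟨p, hp⟩ := hd i (Finset.mem_univ i)
  exact ⟨p, by rw [hp, Algebra.smul_def]⟩

theorem mem_range_fracMap {K K0 : Type u} [Field K] [Field K0] [Algebra K K0] (K1 : IntermediateField K K0) {σ : Type u}
    {p : MvPolynomial σ K0} (hp : ∀ m ∈ p.support, p.coeff m ∈ K1) :
    algebraMap (MvPolynomial σ K0) (FractionRing (MvPolynomial σ K0)) p ∈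
      (fracMap (σ := σ) (FractionRing (MvPolynomial σ K1)) (FractionRing (MvPolynomial σ K0)) K1.val.toRingHom).range := by
  classical
  refine ⟨algebraMap (MvPolynomial σ K1) _ (∑ m ∈ p.support.attach, monomial m.1 ⟨p.coeff m.1, hp m.1 m.2⟩), ?_⟩
  rw [fracMap_algebraMap]
  congr 1
  simp only [map_sum, MvPolynomial.map_monomial]
  exact (Finset.sum_attach p.support fun m => monomial m (p.coeff m)).trans p.as_sum.symm

theorem exists_model {K K0 : Type u} [Field K] [Field K0] [Algebra K K0] {σ : Type u}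
    {L : Type u} [Field L] [Algebra (FractionRing (MvPolynomial σ K)) L]
    [Module.Finite (FractionRing (MvPolynomial σ K)) L] :
    ∃ (E : Type u) (_ : CommRing E) (_ : IsReduced E) (_ : Nontrivial E) (_ : Algebra (FractionRing (MvPolynomial σ K0)) E)
      (n : ℕ) (e : Module.Basis (Fin n) (FractionRing (MvPolynomial σ K0)) E)
      (τ : Fin n → Fin n → Fin n → MvPolynomial σ K0) (o : Fin n → MvPolynomial σ K0) (d δ : MvPolynomial σ K0)
      (ιL : L →+* E) (b : Fin n → L) (S0 : Finset K0),
      d ≠ 0 ∧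
      (∀ i j, e i * e j = ∑ r, algebraMap _ (FractionRing (MvPolynomial σ K0)) (τ i j r) • e r) ∧
      (algebraMap _ (FractionRing (MvPolynomial σ K0)) d • (1 : E) =
        ∑ r, algebraMap _ (FractionRing (MvPolynomial σ K0)) (o r) • e r) ∧
      (∀ i, ((algebraMap (FractionRing (MvPolynomial σ K0)) E).comp (algebraMap (MvPolynomial σ K0) _)).IsIntegralElem (e i)) ∧
      (∀ l, e l = algebraMap _ (FractionRing (MvPolynomial σ K0)) δ • ιL (b l)) ∧
      (∀ K1 : IntermediateField K K0, (∀ s ∈ S0, s ∈ K1) →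
        let jF := fracMap (σ := σ) (FractionRing (MvPolynomial σ K1)) (FractionRing (MvPolynomial σ K0)) K1.val.toRingHom
        algebraMap _ (FractionRing (MvPolynomial σ K0)) δ ∈ jF.range ∧ ∀ (y : L) l, e.repr (ιL y) l ∈ jF.range) ∧
      (∀ (N : Type u) [Field N] (χ0 : FractionRing (MvPolynomial σ K0) →+* N) (lL : L →+* N),
        (∀ z, lL (algebraMap (FractionRing (MvPolynomial σ K)) L z) = χ0 (fracMap (σ := σ) _ _ (algebraMap K K0) z)) →
        ∃ χ : E →+* N, (∀ z, χ (algebraMap _ E z) = χ0 z) ∧ ∀ y, χ (ιL y) = lL y) := by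
  classical
  let F := FractionRing (MvPolynomial σ K)
  let F0 := FractionRing (MvPolynomial σ K0)
  letI : Algebra F F0 := (fracMap (σ := σ) F F0 (algebraMap K K0)).toAlgebra
  let T := F0 ⊗[F] L
  let E := T ⧸ nilradical T
  haveI : IsReduced E := (Ideal.isRadical_iff_quotient_reduced _).1 (Ideal.radical_isRadical _)
  haveI : Nontrivial T := inferInstance
  haveI : Nontrivial E := Ideal.Quotient.nontrivial_iff.2 fun h => by
    have : (1 : T) ∈ nilradical T := h ▸ Submodule.mem_top
    exact not_isNilpotent_one this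
  let q : T →ₐ[F0] E := Ideal.Quotient.mkₐ F0 _
  let ιL : L →+* E := q.toRingHom.comp (Algebra.TensorProduct.includeRight (R := F) (A := F0)).toRingHom
  -- an integral basis of `L`
  letI : Algebra (MvPolynomial σ K) L := ((algebraMap F L).comp (algebraMap (MvPolynomial σ K) F)).toAlgebra
  haveI : IsScalarTower (MvPolynomial σ K) F L := IsScalarTower.of_algebraMap_eq fun _ => rfl
  let bL := Module.finBasis F L
  choose a ha using fun i => IsIntegral.exists_multiple_integral_of_isLocalization (nonZeroDivisors (MvPolynomial σ K)) (Rₘ := F) (bL i)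
    (IsIntegral.of_finite F (bL i))
  let w : Fin (Module.finrank F L) → L := fun i => (a i : MvPolynomial σ K) • bL i
  have hw : ∀ i, IsIntegral (MvPolynomial σ K) (w i) := fun i => ha i
  have hspanL : ∀ y : L, ∃ c : Fin (Module.finrank F L) → F, y = ∑ i, c i • w i := fun y => by
    refine ⟨fun i => bL.repr y i / algebraMap _ F (a i : MvPolynomial σ K), ?_⟩
    conv_lhs => rw [← bL.sum_repr y]
    refine Finset.sum_congr rfl fun i _ => ?_
    simp only [w]
    rw [← algebraMap_smul F (a i : MvPolynomial σ K) (bL i), smul_smul, div_mul_cancel₀ _ (IsLocalization.map_units F (a i)).ne_zero]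
  have hιF : ∀ (z : F) (y : L), ιL (z • y) = algebraMap F F0 z • ιL y := fun z y => by
    show q ((1 : F0) ⊗ₜ[F] (z • y)) = algebraMap F F0 z • q ((1 : F0) ⊗ₜ[F] y)
    rw [← map_smul, TensorProduct.tmul_smul, algebraMap_smul F0]
  have hspan : Submodule.span F0 (Set.range fun i => ιL (w i)) = ⊤ := by
    rw [eq_top_iff]
    rintro z -
    obtain ⟨t, rfl⟩ := Ideal.Quotient.mk_surjective z
    induction t using TensorProduct.induction_on with
    | zero => rw [map_zero]; exact zero_mem _
    | tmul c y =>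
      obtain ⟨cy, rfl⟩ := hspanL y
      have : Ideal.Quotient.mk (nilradical T) (c ⊗ₜ[F] ∑ i, cy i • w i) = c • ιL (∑ i, cy i • w i) := by
        show q _ = c • q _
        rw [← map_smul]
        congr 1
        show c ⊗ₜ[F] _ = c • ((1 : F0) ⊗ₜ[F] _)
        rw [TensorProduct.smul_tmul', smul_eq_mul, mul_one]
      rw [this, map_sum]
      refine Submodule.smul_mem _ _ (Submodule.sum_mem _ fun i _ => ?_)
      rw [hιF]
      exact Submodule.smul_mem _ _ (Submodule.subset_span ⟨i, rfl⟩)
    | add u v hu hv => rw [map_add]; exact add_mem hu hv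
  obtain ⟨κ, ix, hix, hsp, hli⟩ := exists_linearIndependent' F0 fun i => ιL (w i)
  haveI : Fintype κ := Fintype.ofInjective ix hix
  let e0 : Module.Basis (Fin (Fintype.card κ)) F0 E :=
    (Module.Basis.mk hli (hspan.symm.trans hsp.symm).le).reindex (Fintype.equivFin κ)
  let ix' : Fin (Fintype.card κ) → Fin (Module.finrank F L) := fun l => ix ((Fintype.equivFin κ).symm l)
  have he0 : ∀ l, e0 l = ιL (w (ix' l)) := fun l => by
    rw [Module.Basis.reindex_apply]; exact Module.Basis.mk_apply _ _ _
  -- scale to a polynomial table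
  obtain ⟨δ, hδ0, hδ⟩ := exists_common_denominator' (R := MvPolynomial σ K0)
    (fun p : Fin (Fintype.card κ) × Fin (Fintype.card κ) × Fin (Fintype.card κ) => e0.repr (e0 p.1 * e0 p.2.1) p.2.2)
  choose τ hτ using hδ
  let e : Module.Basis (Fin (Fintype.card κ)) F0 E := e0.unitsSMul fun _ => Units.mk0 _ hδ0
  have he : ∀ l, e l = algebraMap (MvPolynomial σ K0) F0 δ • e0 l := fun l => Module.Basis.unitsSMul_apply l
  obtain ⟨d, hd0, hd⟩ := exists_common_denominator' (R := MvPolynomial σ K0) (fun r => e.repr (1 : E) r)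
  choose o ho using hd
  -- the finite set of constants
  obtain ⟨Δ, hΔ0, hΔ⟩ := exists_common_denominator' (R := MvPolynomial σ K0)
    (fun p : Fin (Module.finrank F L) × Fin (Fintype.card κ) => e.repr (ιL (w p.1)) p.2)
  choose ρ hρ using hΔ
  let S0 : Finset K0 := (δ.support.image δ.coeff) ∪ (Δ.support.image Δ.coeff) ∪
    Finset.univ.biUnion fun p => (ρ p).support.image (ρ p).coeff
  refine ⟨E, inferInstance, inferInstance, inferInstance, inferInstance, Fintype.card κ, e,
    fun i j r => τ (i, j, r), o, d, δ, ιL, fun l => w (ix' l), S0,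
    fun h => hd0 (by rw [h, map_zero]), fun i j => ?_, ?_, fun i => ?_, fun l => by rw [he, he0], fun K1 hK1 => ?_, ?_⟩
  · rw [he i, he j, smul_mul_smul_comm]
    conv_lhs => rw [← e0.sum_repr (e0 i * e0 j), Finset.smul_sum]
    refine Finset.sum_congr rfl fun r _ => ?_
    rw [he r, smul_smul, smul_smul, mul_comm (algebraMap _ F0 (τ (i, j, r))), ← hτ (i, j, r), mul_assoc]
  · conv_lhs => rw [← e.sum_repr (1 : E), Finset.smul_sum]
    exact Finset.sum_congr rfl fun r _ => by rw [smul_smul, ho r]
  · rw [he, Algebra.smul_def, he0]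
    refine RingHom.IsIntegralElem.mul _ (RingHom.isIntegralElem_map _ (x := δ)) ?_
    obtain ⟨G, hG, hG0⟩ := hw (ix' i)
    refine ⟨G.map (MvPolynomial.map (algebraMap K K0)), hG.map _, ?_⟩
    have h1 := congrArg ιL hG0
    rw [Polynomial.hom_eval₂, map_zero] at h1
    rw [Polynomial.eval₂_map, ← h1]
    refine Polynomial.eval₂_congr (RingHom.ext fun p => ?_) rfl rfl
    show algebraMap F0 E (algebraMap _ F0 (MvPolynomial.map (algebraMap K K0) p)) = ιL (algebraMap F L (algebraMap _ F p))
    rw [Algebra.algebraMap_eq_smul_one (R := F) (A := L), hιF, map_one, Algebra.algebraMap_eq_smul_one (R := F0) (A := E),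
      RingHom.algebraMap_toAlgebra, fracMap_algebraMap]
  · intro jF
    have hpoly : ∀ p : MvPolynomial σ K0, p.support.image p.coeff ⊆ S0 → algebraMap _ F0 p ∈ jF.range := fun p hp =>
      mem_range_fracMap K1 fun m hm => hK1 _ (hp (Finset.mem_image_of_mem _ hm))
    refine ⟨hpoly δ fun s hs => Finset.mem_union_left _ (Finset.mem_union_left _ hs), fun y l => ?_⟩
    obtain ⟨c, rfl⟩ := hspanL y
    simp only [map_sum, hιF, map_smul, Finsupp.finsetSum_apply, Finsupp.smul_apply, smul_eq_mul]
    refine Subring.sum_mem _ fun i _ => Subring.mul_mem _ ?_ ?_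
    · refine ⟨fracMap (σ := σ) F _ (algebraMap K K1) (c i), ?_⟩
      have hcomp : jF.comp (fracMap (σ := σ) F (FractionRing (MvPolynomial σ K1)) (algebraMap K K1)) = algebraMap F F0 :=
        IsLocalization.ringHom_ext (nonZeroDivisors (MvPolynomial σ K)) (RingHom.ext fun p => by
          simp only [RingHom.comp_apply, jF, fracMap_algebraMap, RingHom.algebraMap_toAlgebra, MvPolynomial.map_map]
          rfl)
      exact RingHom.congr_fun hcomp (c i)
    · have h1 : e.repr (ιL (w i)) l = algebraMap _ F0 (ρ (i, l)) / algebraMap _ F0 Δ := by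
        rw [eq_div_iff hΔ0, mul_comm]; exact hρ (i, l)
      rw [h1]
      obtain ⟨u, hu⟩ := hpoly (ρ (i, l)) fun s hs =>
        Finset.mem_union_right _ (Finset.mem_biUnion.2 ⟨(i, l), Finset.mem_univ _, hs⟩)
      obtain ⟨v, hv⟩ := hpoly Δ fun s hs => Finset.mem_union_left _ (Finset.mem_union_right _ hs)
      exact ⟨u / v, by rw [map_div₀, hu, hv]⟩
  · intro N _ χ0 lL hcomp
    letI : Algebra F N := (χ0.comp (algebraMap F F0)).toAlgebra
    let f1 : F0 →ₐ[F] N := { χ0 with commutes' := fun _ => rfl }
    let f2 : L →ₐ[F] N := { lL with commutes' := fun z => hcomp z }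
    let χT : T →+* N := (Algebra.TensorProduct.lift f1 f2 fun _ _ => Commute.all _ _).toRingHom
    let χ : E →+* N := Ideal.Quotient.lift (nilradical T) χT fun z hz => IsNilpotent.eq_zero ((mem_nilradical.1 hz).map χT)
    refine ⟨χ, fun z => ?_, fun y => ?_⟩
    · show χT (algebraMap F0 T z) = χ0 z
      erw [Algebra.TensorProduct.lift_tmul]
      show χ0 z * f2 1 = χ0 z
      rw [map_one, mul_one]
    · show χT ((1 : F0) ⊗ₜ[F] y) = lL y
      erw [Algebra.TensorProduct.lift_tmul]
      show f1 1 * lL y = lL y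
      rw [map_one, one_mul]

end Groth.Agent.H1Stab
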