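import Groth.Agent.H1Stab.Stability
import Groth.Agent.H1Stab.Table
import Mathlib

/-!
# An integral table with reduced reduction over the complete field
-/

set_option autoImplicit false

universe u

open MvPolynomial IsLocalRing

namespace Groth.Agent.H1Stab

theorem exists_omega_table {Ω : Type u} [Field Ω] [IsAlgClosed Ω] {v : AbsoluteValue Ω ℝ} {hv : IsNonarchimedean v}
    (hB : BallsMeet v) {σ : Type u} [Fintype σ] [DecidableEq σ]
    {F : Type u} [Field F] [Algebra (MvPolynomial σ Ω) F] [IsFractionRing (MvPolynomial σ Ω) F]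
    [Algebra Ω F] [IsScalarTower Ω (MvPolynomial σ Ω) F]
    {E : Type u} [CommRing E] [IsReduced E] [Nontrivial E] [Algebra F E] [Algebra Ω E] [IsScalarTower Ω F E]
    {n : ℕ} (e : Module.Basis (Fin n) F E)
    (he : ∀ i, ((algebraMap F E).comp (algebraMap (MvPolynomial σ Ω) F)).IsIntegralElem (e i)) :
    ∃ (g : MvPolynomial σ (absO v hv)) (C : Fin n → Fin n → Fin n → MvPolynomial σ (absO v hv))
      (U : Fin n → MvPolynomial σ (absO v hv)) (P Q : Fin n → Fin n → MvPolynomial σ Ω) (θ : Fin n → E)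
      (S : Type u) (_ : CommRing S) (_ : IsReduced S) (_ : Algebra (ResField (absO v hv) σ) S)
      (s : Module.Basis (Fin n) (ResField (absO v hv) σ) S),
      Primitive (absO v hv) σ g ∧
      (∀ i, θ i = ∑ l, (algebraMap _ F (P i l) / toF (absO v hv) σ F g) • e l) ∧
      (∀ i j, θ i * θ j = ∑ l, (toF (absO v hv) σ F (C i j l) / toF (absO v hv) σ F g) • θ l) ∧
      (1 = ∑ l, (toF (absO v hv) σ F (U l) / toF (absO v hv) σ F g) • θ l) ∧
      (∀ i, e i = ∑ l, (algebraMap _ F (Q i l) / toF (absO v hv) σ F g) • θ l) ∧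
      (∀ i j, algebraMap _ (ResField (absO v hv) σ) (MvPolynomial.map (residue (absO v hv)) g) • (s i * s j) =
        ∑ l, algebraMap _ (ResField (absO v hv) σ) (MvPolynomial.map (residue (absO v hv)) (C i j l)) • s l) := by
  classical
  obtain ⟨θ, c, one, S, _, _, _, s, hc, hone, hsc, -⟩ := stability (hv := hv) hB e he
  let idx := (Fin n × Fin n × Fin n) ⊕ Fin n ⊕ (Fin n × Fin n) ⊕ (Fin n × Fin n)
  let z : idx → F := Sum.elim (fun p => (c p.1 p.2.1 p.2.2 : F)) (Sum.elim (fun l => (one l : F))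
    (Sum.elim (fun p => e.repr (θ p.1) p.2) (fun p => θ.repr (e p.1) p.2)))
  obtain ⟨g, hg, hz⟩ := exists_common (σ := σ) (O := absO v hv) z
  choose p hzp hp using hz
  choose C hC using fun i j l => hp (Sum.inl (i, j, l)) (c i j l).2
  choose U hU using fun l => hp (Sum.inr (Sum.inl l)) (one l).2
  have hC' : ∀ i j l, (c i j l : F) = toF (absO v hv) σ F (C i j l) / toF (absO v hv) σ F g := fun i j l => by
    rw [show toF (absO v hv) σ F (C i j l) = algebraMap _ F (p (Sum.inl (i, j, l))) by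
      rw [← hC i j l]; rfl]
    exact hzp (Sum.inl (i, j, l))
  refine ⟨g, C, U, fun i l => p (Sum.inr (Sum.inr (Sum.inl (i, l)))), fun i l => p (Sum.inr (Sum.inr (Sum.inr (i, l)))),
    θ, S, inferInstance, inferInstance, inferInstance, s, hg, fun i => ?_, fun i j => ?_, ?_, fun i => ?_, fun i j => ?_⟩
  · conv_lhs => rw [← e.sum_repr (θ i)]
    exact Finset.sum_congr rfl fun l _ => congrArg (· • e l) (hzp (Sum.inr (Sum.inr (Sum.inl (i, l)))))
  · rw [hc]
    exact Finset.sum_congr rfl fun l _ => congrArg (· • θ l) (hC' i j l)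
  · rw [hone]
    refine Finset.sum_congr rfl fun l _ => congrArg (· • θ l) ?_
    rw [show toF (absO v hv) σ F (U l) = algebraMap _ F (p (Sum.inr (Sum.inl l))) by rw [← hU l]; rfl]
    exact hzp (Sum.inr (Sum.inl l))
  · conv_lhs => rw [← θ.sum_repr (e i)]
    exact Finset.sum_congr rfl fun l _ => congrArg (· • θ l) (hzp (Sum.inr (Sum.inr (Sum.inr (i, l)))))
  · rw [hsc, Finset.smul_sum]
    refine Finset.sum_congr rfl fun l _ => ?_
    rw [smul_smul]
    refine congrArg (· • s l) ?_
    rw [gaussRes_eq (absO v hv) _ _ _ hg (p := C i j l) (by rw [hC', div_mul_cancel₀ _ (toF_ne_zero _ hg)]),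
      red, RingHom.comp_apply, RingHom.comp_apply, mul_div_cancel₀]
    exact (map_ne_zero_iff _ (IsFractionRing.injective _ _)).2 hg

end Groth.Agent.H1Stab
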