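import Groth.Agent.H1Stab.OmegaTable
import Groth.Agent.H1Stab.BaseExt
import Groth.Agent.H1Stab.Valued
import Groth.Agent.H1Stab.Cert
import Groth.Agent.H1Stab.FracMap
import Mathlib

/-!
# The data over the complete field, descended to a finitely generated ring
-/

set_option autoImplicit false

universe u

open MvPolynomial IsLocalRing TensorProduct

namespace Groth.Agent.H1Stab

/-- The integral table over the complete field. -/
theorem exists_omega_base {K0 Ω : Type u} [Field K0] [IsAlgClosed K0] [Field Ω] [IsAlgClosed Ω] [Algebra K0 Ω]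
    {w : AbsoluteValue Ω ℝ} (hw : IsNonarchimedean w) (hB : BallsMeet w)
    {σ : Type u} [Fintype σ] [DecidableEq σ]
    {E : Type u} [CommRing E] [IsReduced E] [Nontrivial E] [Algebra (FractionRing (MvPolynomial σ K0)) E]
    {n : ℕ} (e : Module.Basis (Fin n) (FractionRing (MvPolynomial σ K0)) E)
    (τ : Fin n → Fin n → Fin n → MvPolynomial σ K0) (o : Fin n → MvPolynomial σ K0) (d : MvPolynomial σ K0)
    (he : ∀ i j, e i * e j = ∑ r, algebraMap _ (FractionRing (MvPolynomial σ K0)) (τ i j r) • e r)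
    (ho : algebraMap _ (FractionRing (MvPolynomial σ K0)) d • (1 : E) =
      ∑ r, algebraMap _ (FractionRing (MvPolynomial σ K0)) (o r) • e r)
    (hint : ∀ i, ((algebraMap (FractionRing (MvPolynomial σ K0)) E).comp (algebraMap (MvPolynomial σ K0) _)).IsIntegralElem (e i)) :
    ∃ (EΩ : Type u) (_ : CommRing EΩ) (_ : Algebra (FractionRing (MvPolynomial σ Ω)) EΩ)
      (eΩ : Module.Basis (Fin n) (FractionRing (MvPolynomial σ Ω)) EΩ) (θ : Fin n → EΩ)
      (gO : MvPolynomial σ (absO w hw)) (CO : Fin n → Fin n → Fin n → MvPolynomial σ (absO w hw))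
      (UO : Fin n → MvPolynomial σ (absO w hw)) (PΩ QΩ : Fin n → Fin n → MvPolynomial σ Ω)
      (S : Type u) (_ : CommRing S) (_ : IsReduced S) (_ : Algebra (ResField (absO w hw) σ) S)
      (s : Module.Basis (Fin n) (ResField (absO w hw) σ) S),
      Primitive (absO w hw) σ gO ∧
      (∀ i j, eΩ i * eΩ j = ∑ r, algebraMap _ (FractionRing (MvPolynomial σ Ω)) (MvPolynomial.map (algebraMap K0 Ω) (τ i j r)) • eΩ r) ∧
      (algebraMap _ (FractionRing (MvPolynomial σ Ω)) (MvPolynomial.map (algebraMap K0 Ω) d) • (1 : EΩ) =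
        ∑ r, algebraMap _ (FractionRing (MvPolynomial σ Ω)) (MvPolynomial.map (algebraMap K0 Ω) (o r)) • eΩ r) ∧
      (∀ i, θ i = ∑ l, (algebraMap _ (FractionRing (MvPolynomial σ Ω)) (PΩ i l) / toF (absO w hw) σ _ gO) • eΩ l) ∧
      (∀ i j, θ i * θ j = ∑ l, (toF (absO w hw) σ (FractionRing (MvPolynomial σ Ω)) (CO i j l) / toF (absO w hw) σ _ gO) • θ l) ∧
      (1 = ∑ l, (toF (absO w hw) σ (FractionRing (MvPolynomial σ Ω)) (UO l) / toF (absO w hw) σ _ gO) • θ l) ∧
      (∀ i, eΩ i = ∑ l, (algebraMap _ (FractionRing (MvPolynomial σ Ω)) (QΩ i l) / toF (absO w hw) σ _ gO) • θ l) ∧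
      (∀ i j, algebraMap _ (ResField (absO w hw) σ) (MvPolynomial.map (residue (absO w hw)) gO) • (s i * s j) =
        ∑ l, algebraMap _ (ResField (absO w hw) σ) (MvPolynomial.map (residue (absO w hw)) (CO i j l)) • s l) := by
  classical
  let F₀ := FractionRing (MvPolynomial σ K0)
  let FΩ := FractionRing (MvPolynomial σ Ω)
  letI algFF : Algebra F₀ FΩ := (fracMap (σ := σ) F₀ FΩ (algebraMap K0 Ω)).toAlgebra
  have hcompat : ∀ p, algebraMap F₀ FΩ (algebraMap _ F₀ p) = algebraMap _ FΩ (MvPolynomial.map (algebraMap K0 Ω) p) :=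
    fun p => fracMap_algebraMap (σ := σ) F₀ FΩ (algebraMap K0 Ω) p
  letI algKE : Algebra K0 E := ((algebraMap F₀ E).comp (algebraMap K0 F₀)).toAlgebra
  haveI : IsScalarTower K0 F₀ E := IsScalarTower.of_algebraMap_eq fun _ => rfl
  haveI : IsReduced (FΩ ⊗[F₀] E) := isReduced_baseExt hcompat e τ he
  let eΩ := e.baseChange FΩ
  haveI : Nontrivial (FΩ ⊗[F₀] E) := eΩ.repr.toEquiv.nontrivial_congr.2 (by
    haveI : Nontrivial (Fin n →₀ F₀) := e.repr.toEquiv.symm.nontrivial
    haveI : Nonempty (Fin n) := by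
      by_contra h
      rw [not_nonempty_iff] at h
      exact not_subsingleton (Fin n →₀ F₀) inferInstance
    infer_instance)
  have heΩ : ∀ i j, eΩ i * eΩ j = ∑ r, algebraMap _ FΩ (MvPolynomial.map (algebraMap K0 Ω) (τ i j r)) • eΩ r := fun i j => by
    simp only [eΩ, Module.Basis.baseChange_apply, Algebra.TensorProduct.tmul_mul_tmul, one_mul, he, TensorProduct.tmul_sum]
    refine Finset.sum_congr rfl fun r _ => ?_
    rw [← hcompat, TensorProduct.tmul_smul, algebraMap_smul FΩ]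
  have hoΩ : algebraMap _ FΩ (MvPolynomial.map (algebraMap K0 Ω) d) • (1 : FΩ ⊗[F₀] E) =
      ∑ r, algebraMap _ FΩ (MvPolynomial.map (algebraMap K0 Ω) (o r)) • eΩ r := by
    simp only [← hcompat, algebraMap_smul FΩ, eΩ, Module.Basis.baseChange_apply, ← TensorProduct.tmul_smul, ← TensorProduct.tmul_sum]
    refine Eq.trans ?_ (congrArg (fun z : E => (1 : FΩ) ⊗ₜ[F₀] z) ho)
    rw [TensorProduct.tmul_smul, Algebra.TensorProduct.one_def]
  have hintΩ : ∀ i, ((algebraMap FΩ (FΩ ⊗[F₀] E)).comp (algebraMap (MvPolynomial σ Ω) FΩ)).IsIntegralElem (eΩ i) := by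
    intro i
    obtain ⟨G, hG, hG0⟩ := hint i
    refine ⟨G.map (MvPolynomial.map (algebraMap K0 Ω)), hG.map _, ?_⟩
    have h := congrArg (Algebra.TensorProduct.includeRight (R := F₀) (A := FΩ)).toRingHom hG0
    rw [map_zero, Polynomial.hom_eval₂] at h
    rw [Polynomial.eval₂_map, ← h]
    refine Polynomial.eval₂_congr (RingHom.ext fun q => ?_) (Module.Basis.baseChange_apply _ _ i) rfl
    show algebraMap FΩ (FΩ ⊗[F₀] E) (algebraMap _ FΩ (MvPolynomial.map (algebraMap K0 Ω) q)) =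
      (1 : FΩ) ⊗ₜ[F₀] algebraMap F₀ E (algebraMap _ F₀ q)
    rw [← hcompat, Algebra.TensorProduct.algebraMap_apply, Algebra.algebraMap_eq_smul_one (R := F₀) (A := E),
      ← TensorProduct.smul_tmul, ← Algebra.algebraMap_eq_smul_one]
    rfl
  obtain ⟨gO, CO, UO, PΩ, QΩ, θ, S, _, _, _, s, hgO, hθ, hC, hU, hQ, hs⟩ := exists_omega_table (hv := hw) hB eΩ hintΩ
  exact ⟨FΩ ⊗[F₀] E, inferInstance, inferInstance, eΩ, θ, gO, CO, UO, PΩ, QΩ, S, inferInstance, inferInstance,
    inferInstance, s, hgO, heΩ, hoΩ, hθ, hC, hU, hQ, hs⟩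

/-- Transport along `D[1/π']`. -/
theorem transport_loc {σ D Ω : Type u} [CommRing D] [Field Ω] (ι : D →+* Ω) (hιinj : Function.Injective ι) (π' : D)
    (hu : IsUnit (ι π')) (N : ℕ) {FΩ EΩ : Type u} [Field FΩ] [CommRing EΩ] [Algebra (MvPolynomial σ Ω) FΩ]
    [IsFractionRing (MvPolynomial σ Ω) FΩ] [Algebra FΩ EΩ] {n : ℕ} (eΩ : Module.Basis (Fin n) FΩ EΩ)
    {τΩ : Fin n → Fin n → Fin n → MvPolynomial σ Ω} {oΩ : Fin n → MvPolynomial σ Ω} {dΩ : MvPolynomial σ Ω}
    (heΩ : ∀ i j, eΩ i * eΩ j = ∑ r, algebraMap _ FΩ (τΩ i j r) • eΩ r)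
    (hoΩ : algebraMap _ FΩ dΩ • (1 : EΩ) = ∑ r, algebraMap _ FΩ (oΩ r) • eΩ r)
    {PΩ QΩ : Fin n → Fin n → MvPolynomial σ Ω} {cΩ : Fin n → Fin n → Fin n → FΩ} {uΩ : Fin n → FΩ} {γ : FΩ} (hγ : γ ≠ 0)
    (θ : Fin n → EΩ) (hθ : ∀ i, θ i = ∑ l, (algebraMap _ FΩ (PΩ i l) / γ) • eΩ l)
    (hC : ∀ i j, θ i * θ j = ∑ l, (cΩ i j l / γ) • θ l) (hU : 1 = ∑ l, (uΩ l / γ) • θ l)
    (hQ : ∀ i, eΩ i = ∑ l, (algebraMap _ FΩ (QΩ i l) / γ) • θ l)
    (τ' : Fin n → Fin n → Fin n → MvPolynomial σ D) (o' : Fin n → MvPolynomial σ D) (d' : MvPolynomial σ D)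
    (P Q : Fin n → Fin n → MvPolynomial σ D) (C : Fin n → Fin n → Fin n → MvPolynomial σ D) (U : Fin n → MvPolynomial σ D)
    (g : MvPolynomial σ D)
    (hτ' : ∀ a b c, MvPolynomial.map ι (τ' a b c) = MvPolynomial.C (ι π' ^ N) * τΩ a b c)
    (ho' : ∀ a, MvPolynomial.map ι (o' a) = MvPolynomial.C (ι π' ^ N) * oΩ a)
    (hd' : MvPolynomial.map ι d' = MvPolynomial.C (ι π' ^ N) * dΩ)
    (hP : ∀ a b, MvPolynomial.map ι (P a b) = MvPolynomial.C (ι π' ^ N) * PΩ a b)
    (hQd : ∀ a b, MvPolynomial.map ι (Q a b) = MvPolynomial.C (ι π' ^ N) * QΩ a b)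
    (hCd : ∀ a b c, algebraMap _ FΩ (MvPolynomial.map ι (C a b c)) = cΩ a b c)
    (hUd : ∀ a, algebraMap _ FΩ (MvPolynomial.map ι (U a)) = uΩ a)
    (hg : algebraMap _ FΩ (MvPolynomial.map ι g) = γ)
    {F E' : Type u} [Field F] [CommRing E'] [Algebra F E'] (f : Localization.Away π' →+* F)
    (x : σ → F) (e' : Module.Basis (Fin n) F E') {φ : MvPolynomial σ D →+* F}
    (hφ : φ = MvPolynomial.eval₂Hom (f.comp (algebraMap D _)) x) {p : F} (hp : p = f (algebraMap D _ π') ^ N)
    (he' : ∀ i j, e' i * e' j = ∑ r, (φ (τ' i j r) / p) • e' r)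
    (ho'' : (φ d' / p) • (1 : E') = ∑ r, (φ (o' r) / p) • e' r) (hd0 : φ d' ≠ 0) (hg0 : φ g ≠ 0) :
    ∃ θ' : Fin n → E', (∀ i, θ' i = ∑ l, (φ (P i l) / (p * φ g)) • e' l) ∧
      (∀ i j, θ' i * θ' j = ∑ l, (φ (C i j l) / φ g) • θ' l) ∧ (1 = ∑ l, (φ (U l) / φ g) • θ' l) ∧
      (∀ i, e' i = ∑ l, (φ (Q i l) / (p * φ g)) • θ' l) ∧ LinearIndependent F θ' := by
  let R := MvPolynomial σ (Localization.Away (π'))
  let ρ : Localization.Away (π') →+* Ω := IsLocalization.Away.lift π' hu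
  have hρ : ∀ y, ρ (algebraMap D _ y) = ι y := fun y => IsLocalization.Away.lift_eq _ hu y
  have hρinj : Function.Injective ρ := by
    refine (injective_iff_map_eq_zero _).2 fun z hz => ?_
    obtain ⟨m, y, hy⟩ := IsLocalization.Away.surj (π') z
    have h1 := congrArg ρ hy
    rw [map_mul, hz, zero_mul, hρ] at h1
    rw [show y = 0 from hιinj (h1.symm.trans (map_zero ι).symm), map_zero] at hy
    exact ((IsLocalization.Away.algebraMap_isUnit _).pow m).mul_left_eq_zero.1 hy
  let toR : MvPolynomial σ D →+* R := MvPolynomial.map (algebraMap D _)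
  let inv : R := MvPolynomial.C (IsLocalization.Away.invSelf (π') ^ N)
  let fR : R →+* FΩ := (algebraMap (MvPolynomial σ Ω) FΩ).comp (MvPolynomial.map ρ)
  let fR' : R →+* F := MvPolynomial.eval₂Hom f x
  have hfR : ∀ q, fR (toR q) = algebraMap _ FΩ (MvPolynomial.map ι q) := fun q => by
    show algebraMap _ FΩ (MvPolynomial.map ρ (MvPolynomial.map (algebraMap D _) q)) = _
    rw [MvPolynomial.map_map, show ρ.comp (algebraMap D _) = ι from RingHom.ext hρ]
  have hfR' : ∀ q, fR' (toR q) = φ q := fun q => hφ ▸ MvPolynomial.eval₂Hom_map_hom _ _ _ q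
  have hinvmul : (algebraMap D (Localization.Away (π')) (π')) ^ N *
      IsLocalization.Away.invSelf (π') ^ N = 1 := by
    rw [← mul_pow, IsLocalization.Away.mul_invSelf, one_pow]
  have hp0 : p * f (IsLocalization.Away.invSelf (π') ^ N) = 1 := by
    rw [hp]
    rw [← map_pow, ← map_mul, hinvmul, map_one]
  have hpne : p ≠ 0 := left_ne_zero_of_mul_eq_one hp0
  have hinv' : ∀ q, fR' (inv * toR q) = φ q / p := fun q => by
    rw [map_mul, hfR', MvPolynomial.eval₂Hom_C, eq_div_iff hpne, mul_comm, ← mul_assoc, hp0, one_mul]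
  have hinv : ∀ (q : MvPolynomial σ D) (qΩ : MvPolynomial σ Ω), MvPolynomial.map ι q = MvPolynomial.C (ι π' ^ N) * qΩ →
      fR (inv * toR q) = algebraMap _ FΩ qΩ := fun q qΩ h => by
    rw [map_mul, hfR, h, map_mul (algebraMap (MvPolynomial σ Ω) FΩ), ← mul_assoc]
    have h1 : fR inv * algebraMap (MvPolynomial σ Ω) FΩ (MvPolynomial.C (ι π' ^ N)) = 1 := by
      show algebraMap _ FΩ (MvPolynomial.map ρ (MvPolynomial.C _)) * _ = _
      rw [MvPolynomial.map_C, ← map_mul, ← map_mul, ← map_pow ι, show ι (π' ^ N) = ρ (algebraMap D _ (π' ^ N)) from (hρ _).symm,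
        ← map_mul, map_pow (algebraMap D _), mul_comm, hinvmul, map_one, map_one, map_one]
    rw [h1, one_mul]
  have hg1 : fR (toR g) = γ := by rw [hfR]; exact hg
  obtain ⟨θ', h1, h2, h3, h4, h5⟩ := transport (R := R) (f := fR)
    ((IsFractionRing.injective _ FΩ).comp (MvPolynomial.map_injective _ hρinj)) fR'
    (fun a b c => inv * toR (τ' a b c)) (fun a => inv * toR (o' a)) (inv * toR d') eΩ e'
    (fun i j => by
      rw [heΩ]
      exact Finset.sum_congr rfl fun r _ => congrArg (· • eΩ r) (hinv _ _ (hτ' i j r)).symm)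
    (by
      rw [hinv _ _ hd']
      exact hoΩ.trans (Finset.sum_congr rfl fun r _ => congrArg (· • eΩ r) (hinv _ _ (ho' r)).symm))
    (fun i j => by simp only [hinv']; exact he' i j) (by simp only [hinv']; exact ho'')
    (by rw [hinv']; exact div_ne_zero hd0 hpne)
    (fun i l => inv * toR (P i l)) (fun i l => inv * toR (Q i l)) (fun i j l => toR (C i j l)) (fun l => toR (U l))
    (g := toR g) (fun h => hγ (by rw [← hg1, h, map_zero]))
    (by rw [hfR']; exact hg0) θ
    (fun i => (hθ i).trans (Finset.sum_congr rfl fun l _ => by rw [hinv _ _ (hP i l), hg1]))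
    (fun i j => (hC i j).trans (Finset.sum_congr rfl fun l _ => by rw [hfR, hg1, hCd]))
    (hU.trans (Finset.sum_congr rfl fun l _ => by rw [hfR, hg1, hUd]))
    (fun i => (hQ i).trans (Finset.sum_congr rfl fun l _ => by rw [hinv _ _ (hQd i l), hg1]))
  refine ⟨θ', fun i => ?_, fun i j => ?_, ?_, fun i => ?_, h5⟩
  · simp only [h1, hinv', hfR', div_div]
  · simp only [h2, hfR']
  · conv_lhs => rw [h3]
    simp only [hfR']
  · conv_lhs => rw [h4]
    simp only [hinv', hfR', div_div]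


/-- A finitely generated ring of coefficients carrying an integral table with reduced reduction. -/
theorem exists_descended {A K0 : Type u} [CommRing A] [IsDomain A] [IsDiscreteValuationRing A]
    [Field K0] [IsAlgClosed K0] [Algebra A K0] (hinj : Function.Injective (algebraMap A K0))
    (v : AbsoluteValue K0 ℝ) (hv : IsNonarchimedean v) (hvA : ∀ a : A, v (algebraMap A K0 a) ≤ 1)
    (hvm : ∀ a ∈ maximalIdeal A, v (algebraMap A K0 a) < 1) {π : A} (hπ : Irreducible π)
    {σ : Type u} [Fintype σ] [DecidableEq σ]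
    {E : Type u} [CommRing E] [IsReduced E] [Nontrivial E] [Algebra (FractionRing (MvPolynomial σ K0)) E]
    {n : ℕ} (e : Module.Basis (Fin n) (FractionRing (MvPolynomial σ K0)) E)
    (τ : Fin n → Fin n → Fin n → MvPolynomial σ K0) (o : Fin n → MvPolynomial σ K0) (d : MvPolynomial σ K0) (hd : d ≠ 0)
    (he : ∀ i j, e i * e j = ∑ r, algebraMap _ (FractionRing (MvPolynomial σ K0)) (τ i j r) • e r)
    (ho : algebraMap _ (FractionRing (MvPolynomial σ K0)) d • (1 : E) =
      ∑ r, algebraMap _ (FractionRing (MvPolynomial σ K0)) (o r) • e r)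
    (hint : ∀ i, ((algebraMap (FractionRing (MvPolynomial σ K0)) E).comp (algebraMap (MvPolynomial σ K0) _)).IsIntegralElem (e i)) :
    ∃ (D : Type u) (_ : CommRing D) (_ : IsDomain D) (_ : Algebra A D) (_ : Algebra.FiniteType A D)
      (k : Type u) (_ : Field k) (_ : PerfectField k) (ψ₀ : D →+* k)
      (Ω : Type u) (_ : Field Ω) (_ : Algebra A Ω) (ι : D →ₐ[A] Ω) (cst : K0 →ₐ[A] Ω)
      (g : MvPolynomial σ D) (C : Fin n → Fin n → Fin n → MvPolynomial σ D) (U : Fin n → MvPolynomial σ D)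
      (N : ℕ) (P Q : Fin n → Fin n → MvPolynomial σ D) (τ' : Fin n → Fin n → Fin n → MvPolynomial σ D)
      (o' : Fin n → MvPolynomial σ D) (d' : MvPolynomial σ D) (μ : D),
      Function.Injective ι ∧
      ψ₀ (algebraMap A D π) = 0 ∧ ψ₀ μ ≠ 0 ∧
      (∀ a b c, MvPolynomial.map cst.toRingHom (MvPolynomial.C (algebraMap A K0 π ^ N) * τ a b c) =
        MvPolynomial.map ι.toRingHom (τ' a b c)) ∧
      (∀ a, MvPolynomial.map cst.toRingHom (MvPolynomial.C (algebraMap A K0 π ^ N) * o a) = MvPolynomial.map ι.toRingHom (o' a)) ∧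
      (MvPolynomial.map cst.toRingHom (MvPolynomial.C (algebraMap A K0 π ^ N) * d) = MvPolynomial.map ι.toRingHom d') ∧
      (∀ (F E' : Type u) [Field F] [CommRing E'] [Algebra F E'] (f : Localization.Away (algebraMap A D π) →+* F)
        (x : σ → F) (e' : Module.Basis (Fin n) F E'),
        let φ : MvPolynomial σ D →+* F := MvPolynomial.eval₂Hom (f.comp (algebraMap D _)) x
        let p : F := f (algebraMap D _ (algebraMap A D π)) ^ N
        (∀ i j, e' i * e' j = ∑ r, (φ (τ' i j r) / p) • e' r) →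
        ((φ d' / p) • (1 : E') = ∑ r, (φ (o' r) / p) • e' r) → φ d' ≠ 0 → φ g ≠ 0 →
        ∃ θ' : Fin n → E', (∀ i, θ' i = ∑ l, (φ (P i l) / (p * φ g)) • e' l) ∧
          (∀ i j, θ' i * θ' j = ∑ l, (φ (C i j l) / φ g) • θ' l) ∧ (1 = ∑ l, (φ (U l) / φ g) • θ' l) ∧
          (∀ i, e' i = ∑ l, (φ (Q i l) / (p * φ g)) • θ' l) ∧ LinearIndependent F θ') ∧
      (∀ (κ : Type u) [Field κ] (ψ : D →+* κ), ψ μ ≠ 0 → ringChar κ = ringChar k →
        MvPolynomial.map ψ g ≠ 0 ∧
        ∀ (K' : Type u) [Field K'] [Algebra (MvPolynomial σ κ) K'] [IsFractionRing (MvPolynomial σ κ) K']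
          (S' : Type u) [CommRing S'] [Algebra K' S'] (s' : Module.Basis (Fin n) K' S'),
          (∀ i j, algebraMap _ K' (MvPolynomial.map ψ g) • (s' i * s' j) =
            ∑ l, algebraMap _ K' (MvPolynomial.map ψ (C i j l)) • s' l) → IsReduced S') := by
  classical
  haveI hΩ : IsAlgClosed (Ultra.Omega v) := Ultra.isAlgClosed v
  let Ω := Ultra.Omega v
  letI algKΩ : Algebra K0 Ω := (Ultra.const v).toAlgebra
  letI algAΩ : Algebra A Ω := ((Ultra.const v).comp (algebraMap A K0)).toAlgebra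
  haveI : IsScalarTower A K0 Ω := IsScalarTower.of_algebraMap_eq fun _ => rfl
  let cst : K0 →ₐ[A] Ω := IsScalarTower.toAlgHom A K0 Ω
  obtain ⟨EΩ, _, _, eΩ, θ, gO, CO, UO, PΩ, QΩ, S, _, _, _, s, hgO, heΩ, hoΩ, hθ, hC, hU, hQ, hs⟩ :=
    exists_omega_base (Ω := Ω) (Ultra.absOmega_nonarch v hv) (Ultra.ballsMeet v hv) e τ o d he ho hint
  -- the coefficient ring
  let O := absO (Ultra.absOmega v) (Ultra.absOmega_nonarch v hv)
  have hπ0 : algebraMap A K0 π ≠ 0 := fun h => hπ.ne_zero (hinj (h.trans (map_zero _).symm))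
  have hπlt : v (algebraMap A K0 π) < 1 := hvm π (hπ.maximalIdeal_eq ▸ Ideal.mem_span_singleton_self π)
  let polys : Finset (MvPolynomial σ Ω) :=
    (Finset.univ.image fun p : Fin n × Fin n => PΩ p.1 p.2) ∪ (Finset.univ.image fun p : Fin n × Fin n => QΩ p.1 p.2) ∪
    (Finset.univ.image fun p : Fin n × Fin n × Fin n => MvPolynomial.map cst.toRingHom (τ p.1 p.2.1 p.2.2)) ∪
    (Finset.univ.image fun l => MvPolynomial.map cst.toRingHom (o l)) ∪ {MvPolynomial.map cst.toRingHom d}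
  let cs : Finset Ω := polys.biUnion fun q => q.support.image q.coeff
  obtain ⟨N, hN⟩ : ∃ N : ℕ, ∀ q ∈ polys, ∀ m, Ultra.absOmega v ((cst (algebraMap A K0 π)) ^ N * q.coeff m) ≤ 1 := by
    obtain ⟨M, hM⟩ : ∃ M, ∀ c ∈ cs, Ultra.absOmega v c ≤ M := ⟨∑ c ∈ cs, Ultra.absOmega v c,
      fun c hc => Finset.single_le_sum (fun x _ => (Ultra.absOmega v).nonneg x) hc⟩
    have htend := (tendsto_pow_atTop_nhds_zero_of_lt_one (v.nonneg _) hπlt).mul_const M
    rw [zero_mul] at htend
    obtain ⟨N, hN⟩ := (htend.eventually (eventually_le_nhds zero_lt_one)).exists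
    refine ⟨N, fun q hq m => ?_⟩
    rw [map_mul, map_pow, show Ultra.absOmega v (cst (algebraMap A K0 π)) = v (algebraMap A K0 π) from Ultra.absOmega_const v _]
    by_cases hm : m ∈ q.support
    · refine le_trans ?_ hN
      exact mul_le_mul_of_nonneg_left (hM _ (Finset.mem_biUnion.2 ⟨q, hq, Finset.mem_image_of_mem _ hm⟩))
        (pow_nonneg (v.nonneg _) _)
    · rw [notMem_support_iff.1 hm, map_zero, mul_zero]; exact zero_le_one
  obtain ⟨c₀, hc₀⟩ : ∃ c₀ : Ω, c₀ = cst (algebraMap A K0 π) ^ N := ⟨_, rfl⟩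
  let gs : Finset Ω := (polys.biUnion fun q => q.support.image fun m => c₀ * q.coeff m) ∪
    gO.support.image (fun m => Subtype.val (gO.coeff m)) ∪
    (Finset.univ.biUnion fun p : Fin n × Fin n × Fin n => (CO p.1 p.2.1 p.2.2).support.image (fun m => Subtype.val ((CO p.1 p.2.1 p.2.2).coeff m))) ∪
    (Finset.univ.biUnion fun l => (UO l).support.image (fun m => Subtype.val ((UO l).coeff m)))
  have hgsO : ∀ x ∈ gs, x ∈ O := by
    intro x hx
    simp only [gs, Finset.mem_union, Finset.mem_biUnion, Finset.mem_image, Finset.mem_univ, true_and] at hx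
    rcases hx with ((⟨q, hq, m, -, rfl⟩ | ⟨m, -, rfl⟩) | ⟨p, m, -, rfl⟩) | ⟨l, m, -, rfl⟩
    · rw [hc₀]; exact hN q hq m
    all_goals exact Subtype.property _
  let D : Subalgebra A Ω := Algebra.adjoin A (gs : Set Ω)
  have hAO : ∀ a : A, algebraMap A Ω a ∈ O := fun a => by
    show Ultra.absOmega v (Ultra.const v (algebraMap A K0 a)) ≤ 1
    rw [Ultra.absOmega_const]; exact hvA a
  have hDO : ∀ x ∈ D, x ∈ O := by
    intro x hx
    induction hx using Algebra.adjoin_induction with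
    | mem y hy => exact hgsO y hy
    | algebraMap a => exact hAO a
    | add y z _ _ hy hz => exact add_mem hy hz
    | mul y z _ _ hy hz => exact mul_mem hy hz
  haveI : Algebra.FiniteType A D := D.fg_iff_finiteType.1 ⟨gs, rfl⟩
  let ιO : D →+* O := D.val.toRingHom.codRestrict O.toSubring fun x => hDO _ x.2
  let ψ₀ : D →+* ResidueField O := (residue O).comp ιO
  -- lifting polynomials to `D`
  have hlift : ∀ q : MvPolynomial σ Ω, (∀ m ∈ q.support, q.coeff m ∈ D) → ∃ q' : MvPolynomial σ D, MvPolynomial.map D.val.toRingHom q' = q := by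
    intro q hq
    refine ⟨∑ m ∈ q.support.attach, monomial m.1 ⟨q.coeff m.1, hq m.1 m.2⟩, ?_⟩
    rw [map_sum]
    simp only [MvPolynomial.map_monomial]
    exact (Finset.sum_attach q.support fun m => monomial m (q.coeff m)).trans q.as_sum.symm
  have hgsD : ∀ x ∈ gs, x ∈ D := fun x hx => Algebra.subset_adjoin hx
  have hscaled : ∀ q ∈ polys, ∃ q' : MvPolynomial σ D, MvPolynomial.map D.val.toRingHom q' = MvPolynomial.C c₀ * q := by
    intro q hq
    refine hlift _ fun m hm => ?_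
    rw [coeff_C_mul]
    refine hgsD _ ?_
    have hm' : m ∈ q.support := by
      rw [MvPolynomial.mem_support_iff, coeff_C_mul] at hm
      exact MvPolynomial.mem_support_iff.2 (right_ne_zero_of_mul hm)
    exact Finset.mem_union_left _ (Finset.mem_union_left _ (Finset.mem_union_left _
      (Finset.mem_biUnion.2 ⟨q, hq, Finset.mem_image_of_mem _ hm'⟩)))
  choose P hP using fun i l => hscaled (PΩ i l) (by simp [polys])
  choose Q hQd using fun i l => hscaled (QΩ i l) (by simp [polys])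
  choose τ' hτ' using fun a b c => hscaled (MvPolynomial.map cst.toRingHom (τ a b c)) (by simp [polys])
  choose o' ho' using fun l => hscaled (MvPolynomial.map cst.toRingHom (o l)) (by simp [polys])
  obtain ⟨d', hd'⟩ := hscaled (MvPolynomial.map cst.toRingHom d) (by simp [polys])
  have hOlift : ∀ q : MvPolynomial σ O, (∀ m ∈ q.support, Subtype.val (q.coeff m) ∈ gs) →
      ∃ q' : MvPolynomial σ D, MvPolynomial.map D.val.toRingHom q' = MvPolynomial.map O.subtype q := by
    intro q hq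
    refine hlift _ fun m hm => hgsD _ ?_
    rw [coeff_map]
    exact hq m (support_map_subset _ _ hm)
  obtain ⟨g, hg⟩ := hOlift gO fun m hm => Finset.mem_union_left _ (Finset.mem_union_left _ (Finset.mem_union_right _ (Finset.mem_image_of_mem _ hm)))
  choose C hCd using fun i j l => hOlift (CO i j l) fun m hm => Finset.mem_union_left _ (Finset.mem_union_right _
    (Finset.mem_biUnion.2 ⟨(i, j, l), Finset.mem_univ _, Finset.mem_image_of_mem _ hm⟩))
  choose U hUd using fun l => hOlift (UO l) fun m hm => Finset.mem_union_right _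
    (Finset.mem_biUnion.2 ⟨l, Finset.mem_univ _, Finset.mem_image_of_mem _ hm⟩)
  have hres : ∀ (q' : MvPolynomial σ D) (q : MvPolynomial σ O),
      MvPolynomial.map D.val.toRingHom q' = MvPolynomial.map O.subtype q → MvPolynomial.map ψ₀ q' = MvPolynomial.map (residue O) q := by
    intro q' q h
    ext m
    have h' := congrArg (coeff m) h
    rw [coeff_map, coeff_map] at h'
    rw [coeff_map, coeff_map]
    exact congrArg (residue O) (Subtype.ext h' : ιO (q'.coeff m) = q.coeff m)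
  haveI : IsAlgClosed (ResidueField O) := isAlgClosed_residueField O
  obtain ⟨μ, hμ, hcert⟩ := exists_certificate ψ₀ C g (by rw [hres g gO hg]; exact hgO) (ResField O σ) S s (fun i j => by
    rw [hres g gO hg, hs i j]
    exact Finset.sum_congr rfl fun l _ => by rw [hres (C i j l) (CO i j l) (hCd i j l)])
  have hψπ : ψ₀ (algebraMap A D π) = 0 := by
    show residue O (ιO (algebraMap A D π)) = 0
    refine (residue_eq_zero_iff _).2 ((O.valuation_lt_one_iff _).2 ?_)
    show O.valuation (Ultra.const v (algebraMap A K0 π)) < 1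
    rw [← (O.valuation).map_one, lt_iff_not_ge, valuation_le_iff, map_one, Ultra.absOmega_const]
    exact not_le.2 hπlt
  refine ⟨D, inferInstance, inferInstance, inferInstance, inferInstance, ResidueField O, inferInstance, inferInstance, ψ₀,
    Ω, inferInstance, algAΩ, D.val, cst, g, C, U, N, P, Q, τ', o', d', μ, Subtype.val_injective, hψπ, hμ,
    fun a b c => by rw [map_mul, MvPolynomial.map_C, hτ' a b c, hc₀, map_pow]; rfl,
    fun a => by rw [map_mul, MvPolynomial.map_C, ho' a, hc₀, map_pow]; rfl,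
    by rw [map_mul, MvPolynomial.map_C, hd', hc₀, map_pow]; rfl, ?_, hcert⟩
  intro F E' _ _ _ f x e' φ p he' ho'' hd0 hg0
  have hιπ : D.val.toRingHom (algebraMap A D π) = cst (algebraMap A K0 π) := (D.val.commutes π).trans (cst.commutes π).symm
  have hsc : c₀ = D.val.toRingHom (algebraMap A D π) ^ N := by rw [hc₀, hιπ]
  exact transport_loc D.val.toRingHom Subtype.val_injective (algebraMap A D π)
    (isUnit_iff_ne_zero.2 (by rw [hιπ]; exact (map_ne_zero _).2 hπ0)) N eΩ heΩ hoΩ (toF_ne_zero O hgO) θ hθ hC hU hQ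
    τ' o' d' P Q C U g (fun a b c => hsc ▸ hτ' a b c) (fun a => hsc ▸ ho' a) (hsc ▸ hd') (fun a b => hsc ▸ hP a b)
    (fun a b => hsc ▸ hQd a b) (fun a b c => by rw [hCd]; rfl) (fun a => by rw [hUd]; rfl) (by rw [hg]; rfl)
    f x e' rfl rfl he' ho'' hd0 hg0

end Groth.Agent.H1Stab
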