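import Mathlib.Analysis.Normed.Field.Basic
import Mathlib.Topology.Algebra.Order.Field
import Mathlib.Topology.MetricSpace.Pseudo.Lemmas
import Mathlib.Topology.Order.Compact
import Mathlib.Order.Filter.Ultrafilter.Basic
import Mathlib.FieldTheory.IsAlgClosed.Basic
import Mathlib.RingTheory.Valuation.ValuationSubring
import Mathlib.Algebra.Order.AbsoluteValue.Basic
import Mathlib.Data.Nat.Find

/-!
# The ultrapower completion of an algebraically closed non-archimedean field

The bounded sequences modulo those tending to zero along a non-principal ultrafilter form an algebraically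
closed field with an absolute value for which countable decreasing chains of balls meet.
-/

set_option autoImplicit false

universe u

open Filter Topology

namespace Groth.Agent.H1Stab

/-- Countable spherical completeness. -/
def BallsMeet {Ω : Type u} [Field Ω] (v : AbsoluteValue Ω ℝ) : Prop :=
  ∀ (c : ℕ → Ω) (r : ℕ → ℝ), (∀ n, 0 ≤ r n) → (∀ n m, n ≤ m → r m ≤ r n) →
    (∀ n m, n ≤ m → v (c n - c m) ≤ r n) → ∃ z, ∀ n, v (z - c n) ≤ r n

namespace Ultra

variable {K : Type u} [Field K] (v : AbsoluteValue K ℝ)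

/-- Bounded sequences. -/
def bddSeq : Subring (ℕ → K) where
  carrier := {a | ∃ C, ∀ n, v (a n) ≤ C}
  mul_mem' := by
    rintro a b ⟨C, hC⟩ ⟨D, hD⟩
    exact ⟨C * D, fun n => by
      rw [Pi.mul_apply, map_mul]
      exact mul_le_mul (hC n) (hD n) (v.nonneg _) ((v.nonneg _).trans (hC n))⟩
  one_mem' := ⟨1, fun n => le_of_eq (map_one v)⟩
  add_mem' := by
    rintro a b ⟨C, hC⟩ ⟨D, hD⟩
    exact ⟨C + D, fun n => (v.add_le _ _).trans (add_le_add (hC n) (hD n))⟩
  zero_mem' := ⟨0, fun n => le_of_eq (map_zero v)⟩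
  neg_mem' := by
    rintro a ⟨C, hC⟩
    exact ⟨C, fun n => by rw [Pi.neg_apply, AbsoluteValue.map_neg]; exact hC n⟩

/-- The chosen ultrafilter. -/
noncomputable def uf : Ultrafilter ℕ := Filter.hyperfilter ℕ

theorem exists_lim (a : bddSeq v) : ∃ r : ℝ, Tendsto (fun n => v ((a : ℕ → K) n)) (uf : Filter ℕ) (𝓝 r) := by
  obtain ⟨C, hC⟩ := a.2
  have hmem : ∀ᶠ n in (uf : Filter ℕ), v ((a : ℕ → K) n) ∈ Set.Icc 0 C :=
    Eventually.of_forall fun n => ⟨v.nonneg _, hC n⟩
  obtain ⟨r, -, hr⟩ := isCompact_Icc.ultrafilter_le_nhds (Ultrafilter.map (fun n => v ((a : ℕ → K) n)) uf)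
    (le_principal_iff.2 hmem)
  exact ⟨r, hr⟩

/-- The limit of the absolute values. -/
noncomputable def nm (a : bddSeq v) : ℝ := (exists_lim v a).choose

theorem tendsto_nm (a : bddSeq v) : Tendsto (fun n => v ((a : ℕ → K) n)) (uf : Filter ℕ) (𝓝 (nm v a)) :=
  (exists_lim v a).choose_spec

theorem nm_eq {a : bddSeq v} {r : ℝ} (h : Tendsto (fun n => v ((a : ℕ → K) n)) (uf : Filter ℕ) (𝓝 r)) :
    nm v a = r := tendsto_nhds_unique (tendsto_nm v a) h

theorem nm_nonneg (a : bddSeq v) : 0 ≤ nm v a :=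
  ge_of_tendsto' (tendsto_nm v a) fun _ => v.nonneg _

theorem nm_mul (a b : bddSeq v) : nm v (a * b) = nm v a * nm v b := by
  refine nm_eq v ?_
  simpa only [Subring.coe_mul, Pi.mul_apply, map_mul] using (tendsto_nm v a).mul (tendsto_nm v b)

theorem nm_one : nm v 1 = 1 := nm_eq v (by
  simpa only [Subring.coe_one, Pi.one_apply, map_one] using tendsto_const_nhds)

theorem nm_zero : nm v 0 = 0 := nm_eq v (by
  simpa only [Subring.coe_zero, Pi.zero_apply, map_zero] using tendsto_const_nhds)

theorem nm_neg (a : bddSeq v) : nm v (-a) = nm v a := nm_eq v (by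
  simpa only [Subring.coe_neg, Pi.neg_apply, AbsoluteValue.map_neg] using tendsto_nm v a)

theorem nm_add_le (a b : bddSeq v) : nm v (a + b) ≤ nm v a + nm v b :=
  le_of_tendsto_of_tendsto' (tendsto_nm v (a + b)) ((tendsto_nm v a).add (tendsto_nm v b))
    fun _ => v.add_le _ _

theorem nm_add_le_max (hv : IsNonarchimedean v) (a b : bddSeq v) : nm v (a + b) ≤ max (nm v a) (nm v b) :=
  le_of_tendsto_of_tendsto' (tendsto_nm v (a + b)) ((tendsto_nm v a).max (tendsto_nm v b))
    fun _ => hv _ _

/-- Sequences tending to zero. -/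
def nullIdeal : Ideal (bddSeq v) where
  carrier := {a | nm v a = 0}
  add_mem' {a b} ha hb := le_antisymm ((nm_add_le v a b).trans (by
    rw [Set.mem_setOf.mp ha, Set.mem_setOf.mp hb, add_zero])) (nm_nonneg v _)
  zero_mem' := nm_zero v
  smul_mem' c a ha := by
    show nm v (c * a) = 0
    rw [nm_mul, Set.mem_setOf.mp ha, mul_zero]

theorem mem_nullIdeal {a : bddSeq v} : a ∈ nullIdeal v ↔ nm v a = 0 := Iff.rfl

instance nullIdeal_isMaximal : (nullIdeal v).IsMaximal := by
  classical
  refine Ideal.isMaximal_iff.2 ⟨fun h => one_ne_zero ((nm_one v).symm.trans h), fun J a hle ha hJ => ?_⟩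
  have hr : 0 < nm v a := lt_of_le_of_ne (nm_nonneg v a) (Ne.symm ha)
  let b : ℕ → K := fun n => if nm v a / 2 < v ((a : ℕ → K) n) then ((a : ℕ → K) n)⁻¹ else 0
  have hb : b ∈ bddSeq v := ⟨2 / nm v a, fun n => by
    simp only [b]
    split_ifs with h
    · rw [map_inv₀, show 2 / nm v a = (nm v a / 2)⁻¹ from (inv_div _ _).symm]
      exact inv_anti₀ (half_pos hr) h.le
    · rw [map_zero]; positivity⟩
  have hev : ∀ᶠ n in (uf : Filter ℕ), nm v a / 2 < v ((a : ℕ → K) n) :=
    (tendsto_nm v a).eventually (eventually_gt_nhds (half_lt_self hr))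
  have h0 : a * ⟨b, hb⟩ - 1 ∈ nullIdeal v := by
    refine nm_eq v (tendsto_const_nhds.congr' (hev.mono fun n hn => ?_))
    have hne : (a : ℕ → K) n ≠ 0 := fun h => by
      rw [h, map_zero] at hn
      exact absurd hn (not_lt.2 (half_pos hr).le)
    show (0 : ℝ) = v ((a : ℕ → K) n * b n - 1)
    simp only [b, if_pos hn, mul_inv_cancel₀ hne, sub_self, map_zero]
  have h1 : a * ⟨b, hb⟩ - (a * ⟨b, hb⟩ - 1) ∈ J := sub_mem (J.mul_mem_right _ hJ) (hle h0)
  rwa [sub_sub_cancel] at h1

/-- The ultrapower. -/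
abbrev Omega : Type u := bddSeq v ⧸ nullIdeal v

noncomputable instance : Field (Omega v) := Ideal.Quotient.field _

theorem nm_congr {a b : bddSeq v} (h : a - b ∈ nullIdeal v) : nm v a = nm v b := by
  refine le_antisymm ?_ ?_
  · have h1 := nm_add_le v (a - b) b
    rw [sub_add_cancel, show nm v (a - b) = 0 from h, zero_add] at h1
    exact h1
  · have h1 := nm_add_le v (-(a - b)) a
    rw [neg_sub, sub_add_cancel, ← neg_sub a b, nm_neg, show nm v (a - b) = 0 from h, zero_add] at h1
    exact h1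

/-- The absolute value on the ultrapower. -/
noncomputable def absOmega : AbsoluteValue (Omega v) ℝ where
  toFun x := Quotient.liftOn' x (nm v) fun a b h =>
    nm_congr v ((Submodule.quotientRel_def _).1 h)
  map_mul' x y := by
    obtain ⟨a, rfl⟩ := Ideal.Quotient.mk_surjective x
    obtain ⟨b, rfl⟩ := Ideal.Quotient.mk_surjective y
    exact nm_mul v a b
  nonneg' x := by
    obtain ⟨a, rfl⟩ := Ideal.Quotient.mk_surjective x
    exact nm_nonneg v a
  eq_zero' x := by
    obtain ⟨a, rfl⟩ := Ideal.Quotient.mk_surjective x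
    rw [Ideal.Quotient.eq_zero_iff_mem, mem_nullIdeal]
    exact Iff.rfl
  add_le' x y := by
    obtain ⟨a, rfl⟩ := Ideal.Quotient.mk_surjective x
    obtain ⟨b, rfl⟩ := Ideal.Quotient.mk_surjective y
    exact nm_add_le v a b

theorem absOmega_mk (a : bddSeq v) : absOmega v (Ideal.Quotient.mk _ a) = nm v a := rfl

theorem absOmega_nonarch (hv : IsNonarchimedean v) : IsNonarchimedean (absOmega v) := fun x y => by
  obtain ⟨a, rfl⟩ := Ideal.Quotient.mk_surjective x
  obtain ⟨b, rfl⟩ := Ideal.Quotient.mk_surjective y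
  exact nm_add_le_max v hv a b

/-- Constants. -/
noncomputable def const : K →+* Omega v :=
  (Ideal.Quotient.mk _).comp
    { toFun := fun x => ⟨fun _ => x, v x, fun _ => le_rfl⟩
      map_one' := rfl
      map_mul' := fun _ _ => rfl
      map_zero' := rfl
      map_add' := fun _ _ => rfl }

theorem absOmega_const (x : K) : absOmega v (const v x) = v x :=
  nm_eq v tendsto_const_nhds

open Polynomial in
theorem isAlgClosed [IsAlgClosed K] : IsAlgClosed (Omega v) := by
  refine IsAlgClosed.of_exists_root _ fun p hp hirr => ?_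
  choose c hc using fun i => Ideal.Quotient.mk_surjective (I := nullIdeal v) (p.coeff i)
  let d := p.natDegree
  have hd : 0 < d := hirr.natDegree_pos
  let g : ℕ → K[X] := fun n => X ^ d + ∑ i ∈ Finset.range d, Polynomial.C ((c i : ℕ → K) n) * X ^ i
  have hdeg : ∀ n, (g n).degree = d := fun n => by
    refine (degree_add_eq_left_of_degree_lt ?_).trans (degree_X_pow d)
    rw [degree_X_pow]
    refine lt_of_le_of_lt (degree_sum_le _ _) ((Finset.sup_lt_iff (WithBot.bot_lt_coe d)).2 fun i hi => ?_)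
    exact lt_of_le_of_lt (degree_C_mul_X_pow_le i _) (WithBot.coe_lt_coe.2 (Finset.mem_range.1 hi))
  choose z hz using fun n => IsAlgClosed.exists_root (g n) (by
    rw [hdeg n]; exact_mod_cast hd.ne')
  have heval : ∀ n, z n ^ d + ∑ i ∈ Finset.range d, (c i : ℕ → K) n * z n ^ i = 0 := fun n => by
    have := hz n
    simp only [g, IsRoot.def, eval_add, eval_pow, eval_X, eval_finsetSum, eval_mul, eval_C] at this
    exact this
  choose C hC using fun i => (c i).2
  let B := 1 + ∑ i ∈ Finset.range d, max (C i) 0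
  have hB : 1 ≤ B := le_add_of_nonneg_right (Finset.sum_nonneg fun i _ => le_max_right _ _)
  have hz' : ∀ n, v (z n) ≤ B := by
    intro n
    by_contra hlt
    push Not at hlt
    have h1 : (1 : ℝ) ≤ v (z n) := hB.trans hlt.le
    have hpow : v (z n) ^ d = v (∑ i ∈ Finset.range d, (c i : ℕ → K) n * z n ^ i) := by
      rw [← map_pow, eq_neg_of_add_eq_zero_left (heval n), AbsoluteValue.map_neg]
    have h2 : v (z n) ^ d ≤ (∑ i ∈ Finset.range d, max (C i) 0) * v (z n) ^ (d - 1) := by
      rw [hpow, Finset.sum_mul]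
      refine (v.sum_le _ _).trans (Finset.sum_le_sum fun i hi => ?_)
      rw [map_mul, map_pow]
      refine mul_le_mul ((hC i n).trans (le_max_left _ _)) (pow_le_pow_right₀ h1 ?_) (by positivity) (le_max_right _ _)
      have := Finset.mem_range.1 hi
      omega
    have h3 : (∑ i ∈ Finset.range d, max (C i) 0) * v (z n) ^ (d - 1) < v (z n) * v (z n) ^ (d - 1) := by
      refine mul_lt_mul_of_pos_right ?_ (pow_pos (zero_lt_one.trans_le h1) _)
      exact lt_of_le_of_lt (le_add_of_nonneg_left zero_le_one) hlt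
    rw [← pow_succ', Nat.sub_add_cancel hd] at h3
    exact absurd (lt_of_le_of_lt h2 h3) (lt_irrefl _)
  refine ⟨Ideal.Quotient.mk _ ⟨z, B, hz'⟩, ?_⟩
  show eval _ p = 0
  rw [eval_eq_sum_range, Finset.sum_range_succ, hp.coeff_natDegree, one_mul]
  simp only [← hc]
  simp only [← map_pow, ← map_mul, ← map_sum, ← map_add, Ideal.Quotient.eq_zero_iff_mem]
  refine nm_eq v (tendsto_const_nhds.congr fun n => ?_)
  have h4 := heval n
  rw [add_comm] at h4
  show (0 : ℝ) = v _
  simp only [AddSubmonoidClass.coe_finsetSum, Subring.coe_add, Subring.coe_mul, SubmonoidClass.coe_pow,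
    Pi.add_apply, Finset.sum_apply, Pi.mul_apply, Pi.pow_apply]
  rw [h4, map_zero]

theorem ballsMeet (hv : IsNonarchimedean v) : BallsMeet (absOmega v) := by
  classical
  intro c r hr hanti hc
  choose a ha using fun n => Ideal.Quotient.mk_surjective (I := nullIdeal v) (c n)
  let eps : ℕ → ℝ := fun N => 1 / (N + 1 : ℝ)
  have heps : ∀ N, 0 < eps N := fun N => by positivity
  -- agreement up to stage `N` at the index `i`
  let S : ℕ → ℕ → Prop := fun N i =>
    N ≤ i ∧ v ((a 0 : ℕ → K) i) ≤ nm v (a 0) + 1 ∧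
      ∀ m ≤ N, ∀ m' ≤ N, m ≤ m' → v ((a m : ℕ → K) i - (a m' : ℕ → K) i) ≤ r m + eps N
  have hS : ∀ N, ∀ᶠ i in (uf : Filter ℕ), S N i := by
    intro N
    refine (Filter.Eventually.filter_mono Nat.hyperfilter_le_atTop (eventually_ge_atTop N)).and
      (((tendsto_nm v (a 0)).eventually (eventually_le_nhds (lt_add_one _))).and ?_)
    have key : ∀ p : ℕ × ℕ, p.1 ≤ p.2 →
        ∀ᶠ i in (uf : Filter ℕ), v ((a p.1 : ℕ → K) i - (a p.2 : ℕ → K) i) ≤ r p.1 + eps N := fun p hp => by
      refine (tendsto_nm v (a p.1 - a p.2)).eventually (eventually_le_nhds ?_)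
      have h := hc p.1 p.2 hp
      rw [← ha, ← ha, ← map_sub, absOmega_mk] at h
      exact lt_of_le_of_lt h (lt_add_of_pos_right _ (heps N))
    have h2 := (eventually_all_finset ((Finset.range (N + 1) ×ˢ Finset.range (N + 1)).filter fun p => p.1 ≤ p.2)).2
      fun p hp => key p (Finset.mem_filter.1 hp).2
    refine h2.mono fun i hi m hm m' hm' hmm => hi (m, m') ?_
    simp only [Finset.mem_filter, Finset.mem_product, Finset.mem_range]
    exact ⟨⟨Nat.lt_succ_of_le hm, Nat.lt_succ_of_le hm'⟩, hmm⟩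
  let top : ℕ → ℕ := fun i => Nat.findGreatest (fun N => S N i) i
  let z : ℕ → K := fun i => if S 0 i then (a (top i) : ℕ → K) i else 0
  have htop : ∀ i, S 0 i → S (top i) i := fun i h =>
    Nat.findGreatest_spec (P := fun N => S N i) (Nat.zero_le i) h
  have hle : ∀ i N, S N i → N ≤ top i := fun i N h => Nat.le_findGreatest h.1 h
  have hz : z ∈ bddSeq v := ⟨max (nm v (a 0) + 1) (r 0 + eps 0), fun i => by
    simp only [z]
    split_ifs with h
    · have h1 := (htop i h).2.2 0 (Nat.zero_le _) (top i) le_rfl (Nat.zero_le _)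
      have h2 := (htop i h).2.1
      rw [show (a (top i) : ℕ → K) i = (a 0 : ℕ → K) i + -((a 0 : ℕ → K) i - (a (top i) : ℕ → K) i) by ring]
      refine (hv _ _).trans (max_le_max h2 ?_)
      rw [AbsoluteValue.map_neg]
      refine h1.trans (add_le_add le_rfl ?_)
      exact one_div_le_one_div_of_le (by positivity) (by simp)
    · rw [map_zero]
      exact le_max_of_le_left (add_nonneg (nm_nonneg v _) zero_le_one)⟩
  refine ⟨Ideal.Quotient.mk _ ⟨z, hz⟩, fun n => ?_⟩
  rw [← ha, ← map_sub, absOmega_mk]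
  refine le_of_forall_gt_imp_ge_of_dense fun b hb => ?_
  obtain ⟨N, hN⟩ := exists_nat_gt (1 / (b - r n))
  have hNb : eps N ≤ b - r n := by
    have hbr : 0 < b - r n := sub_pos.2 hb
    rw [div_le_iff₀ (by positivity : (0 : ℝ) < N + 1)]
    rw [div_lt_iff₀ hbr] at hN
    nlinarith [hN, hbr]
  refine le_of_tendsto (tendsto_nm v _) ((hS (max n N)).and (hS 0) |>.mono fun i hi => ?_)
  have h1 := hle i _ hi.1
  have h2 := (htop i hi.2).2.2 n ((le_max_left n N).trans h1) (top i) le_rfl ((le_max_left n N).trans h1)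
  show v (z i - (a n : ℕ → K) i) ≤ b
  simp only [z, if_pos hi.2]
  rw [AbsoluteValue.map_sub]
  refine h2.trans ?_
  have h3 : eps (top i) ≤ eps N := one_div_le_one_div_of_le (by positivity)
    (by exact_mod_cast Nat.succ_le_succ ((le_max_right n N).trans h1))
  linarith

end Ultra

end Groth.Agent.H1Stab
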